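import Mathlib
import Cfsg.Agent.Lib.Solvable.Product
import Cfsg.Agent.Lib.FGS.Basics
import Cfsg.Agent.Lib.FGS.Class
import Cfsg.Agent.S3861
import Cfsg.Agent.S0205

/-!
# Real elements, their class sizes, and subgroups without real elements of odd order
-/

namespace CfsgLib.FGS.RealGraph

open Subgroup

variable {G : Type*} [Group G]

/-- The class size of `x`. -/
noncomputable def cls (x : G) : ℕ := (centralizer ({x} : Set G)).index

/-- `H` contains no nontrivial element of odd order inverted within `H`. -/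
def NoReal (H : Subgroup G) : Prop :=
  ∀ z ∈ H, ∀ g ∈ H, Odd (orderOf z) → g * z * g⁻¹ = z⁻¹ → z = 1

theorem eq_one_of_inv_self {z : G} (hodd : Odd (orderOf z)) (h : z = z⁻¹) : z = 1 := by
  have h2 : z ^ 2 = 1 := by rw [pow_two]; nth_rewrite 2 [h]; exact mul_inv_cancel z
  exact orderOf_eq_one_iff.1 (Nat.eq_one_of_dvd_coprimes
    (Nat.coprime_two_left.2 hodd).symm dvd_rfl (orderOf_dvd_of_pow_eq_one h2))

theorem conj_pow_inv {g x : G} (h : g * x * g⁻¹ = x⁻¹) (j : ℕ) :
    g * x ^ j * g⁻¹ = (x ^ j)⁻¹ := by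
  rw [← conj_pow, h, inv_pow]

/-- Inverting is preserved by odd powers of the inverting element. -/
theorem conj_inv_pow_odd {g x : G} (h : g * x * g⁻¹ = x⁻¹) {m : ℕ} (hm : Odd m) :
    g ^ m * x * (g ^ m)⁻¹ = x⁻¹ := by
  obtain ⟨j, rfl⟩ := hm
  have h2 : ∀ i : ℕ, g ^ (2 * i) * x * (g ^ (2 * i))⁻¹ = x := by
    intro i
    induction i with
    | zero => simp
    | succ i ih =>
      have e : g ^ (2 * (i + 1)) = g * g * g ^ (2 * i) := by
        rw [← pow_two, ← pow_add]; congr 1; ring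
      rw [e]
      calc g * g * g ^ (2 * i) * x * (g * g * g ^ (2 * i))⁻¹
          = g * (g * (g ^ (2 * i) * x * (g ^ (2 * i))⁻¹) * g⁻¹) * g⁻¹ := by group
        _ = x := by rw [ih, h, ← conj_inv, h, inv_inv]
  rw [pow_succ']
  calc g * g ^ (2 * j) * x * (g * g ^ (2 * j))⁻¹
      = g * (g ^ (2 * j) * x * (g ^ (2 * j))⁻¹) * g⁻¹ := by group
    _ = x⁻¹ := by rw [h2, h]

/-- An inverting element may be taken of `2`-power order. -/
theorem exists_two_inverter [Finite G] {g x : G} (h : g * x * g⁻¹ = x⁻¹) :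
    ∃ g' : G, (∃ a, orderOf g' = 2 ^ a) ∧ g' ∈ zpowers g ∧ g' * x * g'⁻¹ = x⁻¹ := by
  obtain ⟨a, m, hm, e⟩ := Nat.exists_eq_two_pow_mul_odd (orderOf_pos g).ne'
  refine ⟨g ^ m, ⟨a, ?_⟩, Subgroup.pow_mem _ (mem_zpowers g) m, conj_inv_pow_odd h hm⟩
  rw [orderOf_pow_of_dvd hm.pos.ne' (e ▸ dvd_mul_left _ _), e, Nat.mul_div_cancel _ hm.pos]

/-- A power of prime order of a real element of odd order. -/
theorem exists_prime_power [Finite G] {g z : G} (hodd : Odd (orderOf z)) (hz1 : z ≠ 1)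
    (h : g * z * g⁻¹ = z⁻¹) : ∃ j : ℕ, (orderOf (z ^ j)).Prime ∧ Odd (orderOf (z ^ j)) ∧
      g * z ^ j * g⁻¹ = (z ^ j)⁻¹ := by
  obtain ⟨p, hp, hpd⟩ := Nat.exists_prime_and_dvd (mt orderOf_eq_one_iff.1 hz1)
  refine ⟨orderOf z / p, ?_, ?_, conj_pow_inv h _⟩ <;>
    rw [orderOf_pow_of_dvd (Nat.div_ne_zero_iff.2 ⟨hp.ne_zero, Nat.le_of_dvd (orderOf_pos z) hpd⟩)
      (Nat.div_dvd_of_dvd hpd), Nat.div_div_self hpd (orderOf_pos z).ne']
  · exact hp
  · exact hodd.of_dvd_nat hpd

theorem ne_one_of_prime {z : G} (h : (orderOf z).Prime) : z ≠ 1 := fun h1 => by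
  rw [h1, orderOf_one] at h
  exact Nat.not_prime_one h

/-- A real element whose square is not trivial has even class size. -/
theorem two_dvd_cls [Finite G] {x g : G} (h : g * x * g⁻¹ = x⁻¹) (hx : x ^ 2 ≠ 1) :
    2 ∣ cls x := by
  by_contra hc
  haveI : Fact (Nat.Prime 2) := ⟨Nat.prime_two⟩
  obtain ⟨S⟩ : Nonempty (Sylow 2 (centralizer ({x} : Set G))) := inferInstance
  have hS : ((S : Subgroup _).map (centralizer ({x} : Set G)).subtype).index.Coprime 2 := by
    rw [Subgroup.index_map_subtype]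
    exact Nat.Coprime.mul_left ((Nat.Prime.coprime_iff_not_dvd Nat.prime_two).2 S.not_dvd_index).symm
      ((Nat.Prime.coprime_iff_not_dvd Nat.prime_two).2 hc).symm
  let T : Sylow 2 G := (S.isPGroup'.map (centralizer ({x} : Set G)).subtype).toSylow
    ((Nat.Prime.coprime_iff_not_dvd Nat.prime_two).1 hS.symm)
  exact hx (CfsgLib.FGS.sq_eq_one_of_inverted T (fun a ha => by
    obtain ⟨b, -, rfl⟩ := Subgroup.mem_map.1 ha
    exact b.2) h)

/-- A subgroup of index prime to `p` contains a Sylow `p`-subgroup. -/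
theorem exists_sylow_le [Finite G] {p : ℕ} [hp : Fact p.Prime] {H : Subgroup G}
    (h : ¬ p ∣ H.index) : ∃ P : Sylow p G, (P : Subgroup G) ≤ H := by
  obtain ⟨S⟩ : Nonempty (Sylow p H) := inferInstance
  refine ⟨(S.isPGroup'.map H.subtype).toSylow ?_, Subgroup.map_subtype_le _⟩
  rw [Subgroup.index_map_subtype]
  exact hp.out.not_dvd_mul S.not_dvd_index h

theorem eq_one_of_conj_conj {g x : G} (hodd : Odd (orderOf x)) (h : g * x * g⁻¹ = x⁻¹)
    (hc : g * x = x * g) : x = 1 :=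
  eq_one_of_inv_self hodd (by rw [← h, hc, mul_inv_cancel_right])

/-- Centralisers of an element and of a generator of the same cyclic subgroup. -/
theorem centralizer_eq_of_zpowers {x y : G} (h : zpowers x = zpowers y) :
    centralizer ({x} : Set G) = centralizer ({y} : Set G) := by
  rw [← centralizer_closure, ← zpowers_eq_closure, h, zpowers_eq_closure, centralizer_closure]

/-- Real elements of odd order modulo a normal subgroup of odd order lift. -/
theorem exists_real_lift [Finite G] {N : Subgroup G} [N.Normal] (hN : Odd (Nat.card N))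
    {x g : G ⧸ N} (hx : Odd (orderOf x)) (h : g * x * g⁻¹ = x⁻¹) :
    ∃ y h' : G, Odd (orderOf y) ∧ h' * y * h'⁻¹ = y⁻¹ ∧ (QuotientGroup.mk y : G ⧸ N) = x ^ 2 := by
  classical
  haveI : Fact (Nat.Prime 2) := ⟨Nat.prime_two⟩
  obtain ⟨g₀, hg₀⟩ := QuotientGroup.mk_surjective g
  obtain ⟨a, m, hm, e⟩ := Nat.exists_eq_two_pow_mul_odd (orderOf_pos g₀).ne'
  set s := g₀ ^ m with hs
  have hso : orderOf s = 2 ^ a := by
    rw [hs, orderOf_pow_of_dvd hm.pos.ne' (e ▸ dvd_mul_left _ _), e, Nat.mul_div_cancel _ hm.pos]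
  have hsx : (QuotientGroup.mk s : G ⧸ N) * x * (QuotientGroup.mk s : G ⧸ N)⁻¹ = x⁻¹ := by
    rw [hs, QuotientGroup.mk_pow, hg₀]; exact conj_inv_pow_odd h hm
  set π := QuotientGroup.mk' N
  have hπs : π s = QuotientGroup.mk s := rfl
  let F : Set G := {y | π y = x}
  have hF : ∀ c ∈ zpowers (s * s), π c * x * (π c)⁻¹ = x := by
    intro c hc
    have h2 : zpowers (s * s) ≤ (centralizer ({x} : Set (G ⧸ N))).comap π := by
      rw [zpowers_le, mem_comap, mem_centralizer_singleton_iff, ← mul_inv_eq_iff_eq_mul, map_mul,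
        hπs]
      calc _ = (QuotientGroup.mk s : G ⧸ N) * ((QuotientGroup.mk s : G ⧸ N) * x *
            (QuotientGroup.mk s : G ⧸ N)⁻¹) * (QuotientGroup.mk s : G ⧸ N)⁻¹ := by group
        _ = x := by rw [hsx, ← conj_inv, hsx, inv_inv]
    exact mul_inv_eq_iff_eq_mul.2 (mem_centralizer_singleton_iff.1 (h2 hc))
  letI : MulAction (zpowers (s * s)) F :=
    { smul := fun c y => ⟨(c : G) * y * (c : G)⁻¹, by
        show π _ = x
        rw [map_mul, map_mul, map_inv, y.2]
        exact hF _ c.2⟩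
      one_smul := fun y => Subtype.ext (by show ((1 : zpowers (s * s)) : G) * y * _ = y; simp)
      mul_smul := fun c d y => Subtype.ext (by
        show ((c * d : zpowers (s * s)) : G) * y * _ = (c : G) * ((d : G) * y * (d : G)⁻¹) * _
        push_cast; group) }
  have hp : IsPGroup 2 (zpowers (s * s)) :=
    (CfsgLib.FGS.isPGroup_zpowers hso).to_le (zpowers_le.2 (mul_mem (mem_zpowers s) (mem_zpowers s)))
  obtain ⟨x₀, hx₀⟩ := QuotientGroup.mk'_surjective N x
  have hcard : Nat.card F = Nat.card N := Nat.card_congr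
    { toFun := fun y => ⟨x₀⁻¹ * y, by
        rw [← QuotientGroup.eq_one_iff]
        show π _ = 1
        rw [map_mul, map_inv, y.2, hx₀, inv_mul_cancel]⟩
      invFun := fun n => ⟨x₀ * n, by
        show π _ = x
        rw [map_mul, hx₀]
        rw [show π (n : G) = 1 from (QuotientGroup.eq_one_iff _).2 n.2, mul_one]⟩
      left_inv := fun y => Subtype.ext (mul_inv_cancel_left _ _)
      right_inv := fun n => Subtype.ext (inv_mul_cancel_left _ _) }
  obtain ⟨y₁, hy₁⟩ := hp.nonempty_fixed_point_of_prime_not_dvd_card F (by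
    rw [hcard]; exact Nat.two_dvd_ne_zero.2 (Nat.odd_iff.1 hN))
  have hy₁s : s * s * (y₁ : G) * (s * s)⁻¹ = y₁ :=
    congrArg Subtype.val (hy₁ ⟨s * s, mem_zpowers _⟩)
  set y := (y₁ : G) * (s * y₁ * s⁻¹)⁻¹
  have hy : s * y * s⁻¹ = y⁻¹ := by
    calc s * y * s⁻¹ = s * y₁ * s⁻¹ * (s * s * (y₁ : G) * (s * s)⁻¹)⁻¹ := by simp only [y]; group
      _ = y⁻¹ := by rw [hy₁s]; simp only [y]; group
  have hπy : π y = x ^ 2 := by
    simp only [y, map_mul, map_inv, hπs]
    rw [y₁.2, hsx, inv_inv, pow_two]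
  refine ⟨y, s, ?_, hy, hπy⟩
  have h1 : y ^ (orderOf x) ∈ N := by
    rw [← QuotientGroup.eq_one_iff]
    show π _ = 1
    rw [map_pow, hπy, ← pow_mul, mul_comm, pow_mul, pow_orderOf_eq_one, one_pow]
  have h2 : y ^ (orderOf x * Nat.card N) = 1 := by
    rw [pow_mul]
    exact congrArg Subtype.val (pow_card_eq_one' (G := N) (x := ⟨_, h1⟩))
  exact (hx.mul hN).of_dvd_nat (orderOf_dvd_of_pow_eq_one h2)

/-- Centralisers of involutions cover those modulo a normal subgroup of odd order. -/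
theorem exists_centralizer_lift [Finite G] {N : Subgroup G} [N.Normal] (hN : Odd (Nat.card N))
    {v g : G} (hv : v ^ 2 = 1)
    (h : Commute (QuotientGroup.mk g : G ⧸ N) (QuotientGroup.mk v)) :
    ∃ g' : G, g' * v = v * g' ∧ (QuotientGroup.mk g' : G ⧸ N) = QuotientGroup.mk g := by
  have hvv : v * v = 1 := by rw [← pow_two, hv]
  set n := v * (g * v * g⁻¹) with hn
  have hnN : n ∈ N := by
    rw [← QuotientGroup.eq_one_iff, hn, QuotientGroup.mk_mul, QuotientGroup.mk_mul,
      QuotientGroup.mk_mul, QuotientGroup.mk_inv, h.eq, mul_inv_cancel_right,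
      ← QuotientGroup.mk_mul, hvv]
    rfl
  have hgv : g * v * g⁻¹ = v * n := by rw [hn, ← mul_assoc, hvv, one_mul]
  have hvn : v * n * v⁻¹ = n⁻¹ := by
    have hvi : v⁻¹ = v := inv_eq_of_mul_eq_one_left hvv
    rw [hn, mul_inv_rev, mul_inv_rev, mul_inv_rev, inv_inv, hvi, ← mul_assoc v v, hvv, one_mul]
    group
  have hno : Odd (orderOf n) :=
    hN.of_dvd_nat (by
      rw [← Nat.card_zpowers]; exact Subgroup.card_dvd_of_le (zpowers_le.2 hnN))
  obtain ⟨j, hj⟩ := hno
  set w := n ^ (j + 1) with hw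
  have hww : w * w = n := by
    rw [hw, ← pow_add, show j + 1 + (j + 1) = orderOf n + 1 by omega, pow_succ, pow_orderOf_eq_one,
      one_mul]
  have hwv : w⁻¹ * v * w = v * n := by
    calc w⁻¹ * v * w = v * (v⁻¹ * w⁻¹ * v) * w := by group
      _ = v * (w * w) := by
        have h1 : v * w * v⁻¹ = w⁻¹ := conj_pow_inv hvn _
        have h2 : v⁻¹ * w⁻¹ * v = w := by rw [← h1]; group
        rw [h2, mul_assoc]
      _ = v * n := by rw [hww]
  refine ⟨w * g, ?_, ?_⟩
  · calc w * g * v = w * (g * v * g⁻¹) * g := by group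
      _ = w * (w⁻¹ * v * w) * g := by rw [hgv, hwv]
      _ = v * (w * g) := by group
  · rw [QuotientGroup.mk_mul, (QuotientGroup.eq_one_iff w).2 (hw ▸ pow_mem hnN _), one_mul]

/-- An inverting element of an element can be moved into a subgroup of coprime index. -/
theorem exists_inverter_mem [Finite G] {H : Subgroup G} {x g : G} (h : g * x * g⁻¹ = x⁻¹)
    (hcop : H.index.Coprime (cls x)) : ∃ c ∈ H, c * x * c⁻¹ = x⁻¹ := by
  obtain ⟨c, hc, d, hd, rfl⟩ :=
    CfsgLib.Solvable.mul_of_coprime_index (K := centralizer ({x} : Set G)) hcop g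
  refine ⟨c, hc, ?_⟩
  rw [mem_centralizer_singleton_iff] at hd
  rw [← h]
  calc c * x * c⁻¹ = c * (x * d) * d⁻¹ * c⁻¹ := by group
    _ = _ := by rw [← hd]; group

theorem NoReal.eq_one [Finite G] {H : Subgroup G} (hH : NoReal H) {x g : G} (hx : x ∈ H)
    (hodd : Odd (orderOf x)) (h : g * x * g⁻¹ = x⁻¹) (hcop : H.index.Coprime (cls x)) : x = 1 := by
  obtain ⟨c, hc, hcx⟩ := exists_inverter_mem h hcop
  exact hH x hx c hc hodd hcx

theorem NoReal.normal_sylow [Finite G] {H : Subgroup G} (hH : NoReal H) (P : Sylow 2 H) :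
    (P : Subgroup H).Normal := by
  refine (Cfsg.Agent.S3861.result P).1 fun x hx1 hodd hconj => hx1 ?_
  obtain ⟨c, hc⟩ := isConj_iff.1 hconj
  refine Subtype.ext (hH _ x.2 _ c.2 (by rwa [orderOf_coe]) ?_)
  simpa using congrArg Subtype.val hc

/-- In a subgroup without real elements of odd order, a Sylow subgroup of the whole group contains
every `2`-element. -/
theorem NoReal.mem_sylow [Finite G] {H : Subgroup G} (hH : NoReal H) (S : Sylow 2 G)
    (hS : (S : Subgroup G) ≤ H) {x : G} (hx : x ∈ H) (h2 : ∃ a, orderOf x = 2 ^ a) :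
    x ∈ (S : Subgroup G) := by
  haveI : Fact (Nat.Prime 2) := ⟨Nat.prime_two⟩
  have hn := hH.normal_sylow (S.subtype hS)
  have hmem := CfsgLib.FGS.mem_of_mem_normalizer (S.subtype hS) (u := ⟨x, hx⟩)
    (by simpa [← orderOf_coe] using h2) (by rw [normalizer_eq_top_iff.2 hn]; trivial)
  exact hmem

theorem NoReal.le_normalizer [Finite G] {H : Subgroup G} (hH : NoReal H) (S : Sylow 2 G)
    (hS : (S : Subgroup G) ≤ H) : H ≤ normalizer ((S : Subgroup G) : Set G) := by
  intro x hx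
  have key : ∀ c ∈ H, ∀ s ∈ (S : Subgroup G), c * s * c⁻¹ ∈ (S : Subgroup G) := by
    intro c hc s hs
    haveI : Fact (Nat.Prime 2) := ⟨Nat.prime_two⟩
    refine hH.mem_sylow S hS (mul_mem (mul_mem hc (hS hs)) (inv_mem hc)) ?_
    obtain ⟨a, ha⟩ := IsPGroup.iff_orderOf.1 S.isPGroup' ⟨s, hs⟩
    refine ⟨a, ?_⟩
    rw [← ha, Subgroup.orderOf_mk]
    exact CfsgLib.Invol.orderOf_conj_eq c s
  rw [mem_normalizer_iff]
  intro s
  refine ⟨key x hx s, fun h => ?_⟩
  have := key x⁻¹ (inv_mem hx) _ h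
  rwa [inv_inv, show x⁻¹ * (x * s * x⁻¹) * x = s by group] at this

theorem NoReal.isSolvable [Finite G] {H : Subgroup G} (hH : NoReal H) : Group.IsSolvable H := by
  haveI : Fact (Nat.Prime 2) := ⟨Nat.prime_two⟩
  obtain ⟨P⟩ : Nonempty (Sylow 2 H) := inferInstance
  haveI := hH.normal_sylow P
  have hodd : Odd (Nat.card (H ⧸ (P : Subgroup H))) := by
    rw [← index_eq_card, Nat.odd_iff, ← Nat.two_dvd_ne_zero]
    exact P.not_dvd_index
  haveI := Cfsg.Agent.S0205.result hodd
  haveI : Group.IsNilpotent (P : Subgroup H) := P.isPGroup'.isNilpotent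
  exact Group.isSolvable_of_ker_le_range (P : Subgroup H).subtype
    (QuotientGroup.mk' (P : Subgroup H)) (by rw [QuotientGroup.ker_mk', range_subtype])

theorem noReal_normalizer [Finite G] (P : Sylow 2 G) :
    NoReal (normalizer ((P : Subgroup G) : Set G)) := by
  haveI : Fact (Nat.Prime 2) := ⟨Nat.prime_two⟩
  intro z hz g hg hodd h
  set N := normalizer ((P : Subgroup G) : Set G)
  have hn : ((P : Subgroup G).subgroupOf N).Normal := normal_in_normalizer
  by_contra h1
  refine (Cfsg.Agent.S3861.result (P.subtype (le_normalizer (H := (P : Subgroup G))))).2 hn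
    ⟨z, hz⟩ (fun h => h1 (congrArg Subtype.val h)) (by rwa [Subgroup.orderOf_mk])
    (isConj_iff.2 ⟨⟨g, hg⟩, Subtype.ext (by simpa using h)⟩)

/-- A group all of whose nontrivial odd-order elements are non-real is solvable. -/
theorem isSolvable_of_noReal_top [Finite G] (h : NoReal (⊤ : Subgroup G)) : Group.IsSolvable G :=
  haveI := h.isSolvable
  Group.isSolvable_of_surjective (f := (⊤ : Subgroup G).subtype) fun x => ⟨⟨x, trivial⟩, rfl⟩

end CfsgLib.FGS.RealGraph
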