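import Cfsg.Agent.Lib.FGS.RealGraph.Module

/-!
# Counting Sylow subgroups and the primitive prime divisor
-/

namespace CfsgLib.FGS.RealGraph

open Subgroup

variable {X : Type*} [Group X] {U : Type*} [AddCommGroup U] [DistribMulAction X U]

theorem card_ne_zero_add_one {M : Type*} [Zero M] [Finite M] :
    Nat.card {u : M // u ≠ 0} + 1 = Nat.card M := by
  classical
  haveI := Fintype.ofFinite M
  rw [Nat.card_eq_fintype_card, Nat.card_eq_fintype_card, Fintype.card_subtype_compl,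
    Fintype.card_subtype_eq]
  exact Nat.sub_add_cancel Fintype.card_pos

/-- A subgroup of the fixed space of `A` is the union of the spaces of the Sylow subgroups. -/
theorem card_nonzero_eq [Finite X] [Finite U] (h : Hyp X U) (A : AddSubgroup U) (S : Sylow 2 X → Prop)
    (hS : ∀ P : Sylow 2 X, S P → fixSet X U ((P : Subgroup X) : Set X) ≤ A)
    (hA : ∀ u ∈ A, u ≠ 0 → ∀ P : Sylow 2 X, u ∈ fixSet X U ((P : Subgroup X) : Set X) → S P)
    (q0 : ℕ) (hq0 : ∀ P : Sylow 2 X, Nat.card (fixSet X U ((P : Subgroup X) : Set X)) = q0) :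
    Nat.card {P : Sylow 2 X // S P} * (q0 - 1) = Nat.card A - 1 := by
  classical
  let α := Σ P : {P : Sylow 2 X // S P}, {u : fixSet X U ((P.1 : Subgroup X) : Set X) // u ≠ 0}
  let f : α → {u : A // u ≠ 0} := fun a =>
    ⟨⟨(a.2.1 : U), hS _ a.1.2 a.2.1.2⟩, fun he => a.2.2 (Subtype.ext (congrArg Subtype.val he : _))⟩
  have hf : Function.Bijective f := by
    constructor
    · rintro ⟨⟨P, hP⟩, ⟨⟨u, hu⟩, hu0⟩⟩ ⟨⟨Q, hQ⟩, ⟨⟨v, hv⟩, hv0⟩⟩ he
      have e : u = v := congrArg (fun w => (w.1.1 : U)) he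
      subst e
      have e2 : P = Q := h.sylow_unique (fun e0 => hu0 (Subtype.ext e0)) P Q hu hv
      subst e2
      rfl
    · rintro ⟨⟨u, hu⟩, hu0⟩
      obtain ⟨P, hP⟩ := h.fix u
      exact ⟨⟨⟨P, hA u hu (fun e => hu0 (Subtype.ext e)) P hP⟩, ⟨u, hP⟩,
        fun e => hu0 (Subtype.ext (congrArg Subtype.val e :))⟩, rfl⟩
  have hc := Nat.card_congr (Equiv.ofBijective f hf)
  haveI := Fintype.ofFinite {P : Sylow 2 X // S P}
  rw [Nat.card_sigma] at hc
  have hone : ∀ P : {P : Sylow 2 X // S P},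
      Nat.card {u : fixSet X U ((P.1 : Subgroup X) : Set X) // u ≠ 0} = q0 - 1 := fun P => by
    rw [← hq0 P.1, ← card_ne_zero_add_one (M := fixSet X U ((P.1 : Subgroup X) : Set X)),
      Nat.add_sub_cancel]
  rw [Finset.sum_congr rfl fun P _ => hone P, Finset.sum_const, smul_eq_mul, Finset.card_univ,
    ← Nat.card_eq_fintype_card] at hc
  rw [hc, ← card_ne_zero_add_one (M := A), Nat.add_sub_cancel]

/-- The numerical data: `|U| = 2 ^ (2 b)`, `|C(P)| = 2 ^ a`, `l` Sylow subgroups contain a given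
involution. -/
structure Data (X : Type*) [Group X] (U : Type*) [AddCommGroup U] [DistribMulAction X U]
    (a b l : ℕ) : Prop where
  cardU : Nat.card U = 2 ^ (2 * b)
  inv : ∀ s : X, orderOf s = 2 → Nat.card (fixSet X U {s}) = 2 ^ b
  syl : ∀ P : Sylow 2 X, Nat.card (fixSet X U ((P : Subgroup X) : Set X)) = 2 ^ a
  cont : ∀ s : X, orderOf s = 2 → Nat.card {P : Sylow 2 X // s ∈ (P : Subgroup X)} = l
  eq : l * (2 ^ a - 1) = 2 ^ b - 1
  k_eq : Nat.card (Sylow 2 X) = l * (2 ^ b + 1)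
  k_mul : Nat.card (Sylow 2 X) * (2 ^ a - 1) = 2 ^ (2 * b) - 1
  one_le_a : 1 ≤ a
  one_le_l : 1 ≤ l

theorem Hyp.exists_data [Finite X] [Finite U] (h : Hyp X U) :
    ∃ a b l : ℕ, Data X U a b l := by
  classical
  haveI : Fact (Nat.Prime 2) := ⟨Nat.prime_two⟩
  obtain ⟨b, hU, hb, hinv⟩ := h.exists_q
  obtain ⟨P₀⟩ : Nonempty (Sylow 2 X) := inferInstance
  obtain ⟨a, ha⟩ := two_pow_card h.two (fixSet X U ((P₀ : Subgroup X) : Set X))
  have hsyl : ∀ P : Sylow 2 X, Nat.card (fixSet X U ((P : Subgroup X) : Set X)) = 2 ^ a := by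
    intro P
    obtain ⟨g, rfl⟩ := MulAction.exists_smul_eq X P₀ P
    rw [← ha, ← card_fixSet_conj ((P₀ : Subgroup X) : Set X) g]
    have e : ((g • P₀ : Sylow 2 X) : Subgroup X).carrier =
        (fun c => g * c * g⁻¹) '' ((P₀ : Subgroup X) : Set X) := by
      ext c
      show c ∈ ((g • P₀ : Sylow 2 X) : Subgroup X) ↔ _
      rw [Sylow.coe_subgroup_smul, CfsgLib.FGS.mem_conj_smul, Set.mem_image]
      refine ⟨fun hc => ⟨_, hc, by group⟩, ?_⟩
      rintro ⟨d, hd, rfl⟩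
      show g⁻¹ * (g * d * g⁻¹) * g ∈ (P₀ : Subgroup X)
      rwa [show g⁻¹ * (g * d * g⁻¹) * g = d by group]
    exact congrArg (fun A => Nat.card (fixSet X U A)) e
  have hk : Nat.card (Sylow 2 X) * (2 ^ a - 1) = 2 ^ (2 * b) - 1 := by
    have := card_nonzero_eq h ⊤ (fun _ => True) (fun _ _ => le_top) (fun _ _ _ _ _ => trivial)
      (2 ^ a) hsyl
    rwa [AddSubgroup.card_top, hU, Nat.card_congr (Equiv.subtypeUnivEquiv fun _ => trivial)] at this
  have hl : ∀ s : X, orderOf s = 2 →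
      Nat.card {P : Sylow 2 X // s ∈ (P : Subgroup X)} * (2 ^ a - 1) = 2 ^ b - 1 := by
    intro s hs
    rw [← hinv s hs]
    refine card_nonzero_eq h _ _ (fun P hP u hu => ?_) (fun u hu hu0 P hP => ?_) _ hsyl
    · exact mem_fixSet_singleton.2 (hu s hP)
    · exact h.mem_sylow_of_fix hu0 P hP ⟨1, by rw [hs, pow_one]⟩ (mem_fixSet_singleton.1 hu)
  obtain ⟨s₀, hs₀⟩ := h.exists_involution
  have ha1 : 1 ≤ a := by
    by_contra ha0
    rw [show a = 0 by omega] at hk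
    have h4 := Nat.pow_le_pow_right (show 0 < 2 by norm_num) (show 1 ≤ 2 * b by omega)
    simp at hk h4
    omega
  have hqa : 1 ≤ 2 ^ a - 1 := by
    have := Nat.pow_le_pow_right (show 0 < 2 by norm_num) ha1
    simp at this; omega
  refine ⟨a, b, Nat.card {P : Sylow 2 X // s₀ ∈ (P : Subgroup X)}, hU, hinv, hsyl,
    fun s hs => Nat.eq_of_mul_eq_mul_right (by omega) ((hl s hs).trans (hl s₀ hs₀).symm),
    hl s₀ hs₀, ?_, hk, ha1, ?_⟩
  · refine Nat.eq_of_mul_eq_mul_right (show 0 < 2 ^ a - 1 by omega) ?_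
    rw [hk, mul_comm _ (2 ^ b + 1), mul_assoc, hl s₀ hs₀, mul_comm 2 b, pow_mul, ← Nat.sq_sub_sq,
      one_pow]
  · obtain ⟨P, hP⟩ := (CfsgLib.FGS.isPGroup_zpowers (p := 2) (k := 1) (u := s₀)
      (by rw [hs₀, pow_one])).exists_le_sylow
    haveI : Nonempty {P : Sylow 2 X // s₀ ∈ (P : Subgroup X)} := ⟨⟨P, hP (mem_zpowers s₀)⟩⟩
    exact Nat.card_pos

/-- A primitive prime divisor `r` of `2 ^ n - 1`. -/
structure PPD (n r : ℕ) : Prop where
  prime : r.Prime
  dvd : r ∣ 2 ^ n - 1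
  prim : ∀ j, 0 < j → j < n → ¬ r ∣ 2 ^ j - 1

theorem PPD.lt {n r : ℕ} (h : PPD n r) (hn : 0 < n) : n < r := by
  haveI : Fact r.Prime := ⟨h.prime⟩
  have hr2 : r ≠ 2 := by
    rintro rfl
    have h1 := Nat.odd_iff.1 (Nat.Even.sub_odd (Nat.one_le_two_pow) ((Nat.even_pow).2 ⟨even_two, hn.ne'⟩) odd_one)
    have := h.dvd
    omega
  have hcast : ∀ j : ℕ, (2 : ZMod r) ^ j = 1 → r ∣ 2 ^ j - 1 := fun j hj => by
    rw [← ZMod.natCast_eq_zero_iff, Nat.cast_sub Nat.one_le_two_pow]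
    simp [hj]
  have hn1 : (2 : ZMod r) ^ n = 1 := by
    have := (ZMod.natCast_eq_zero_iff _ _).2 h.dvd
    rw [Nat.cast_sub Nat.one_le_two_pow, sub_eq_zero] at this
    simpa using this
  have h2 : (2 : ZMod r) ≠ 0 := by
    intro h0
    have : r ∣ 2 := (ZMod.natCast_eq_zero_iff 2 r).1 (by simpa using h0)
    exact hr2 ((Nat.prime_dvd_prime_iff_eq h.prime Nat.prime_two).1 this)
  have hord : orderOf (2 : ZMod r) = n := (orderOf_eq_iff hn).2
    ⟨hn1, fun j hj hj0 hj1 => h.prim j hj0 hj (hcast j hj1)⟩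
  have hle : n ≤ r - 1 := hord ▸ Nat.le_of_dvd (by have := h.prime.two_le; omega)
    (orderOf_dvd_of_pow_eq_one (ZMod.pow_card_sub_one_eq_one h2))
  have := h.prime.two_le
  omega

end CfsgLib.FGS.RealGraph
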