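import Cfsg.Agent.Lib.FGS.RealGraph.Count
import Cfsg.Agent.S0215

/-!
# The case in which every involution lies in a single Sylow subgroup
-/

namespace CfsgLib.FGS.RealGraph

open Subgroup

variable {X : Type*} [Group X] {U : Type*} [AddCommGroup U] [DistribMulAction X U]

theorem not_one [Finite X] [Finite U] (h : Hyp X U) {a b : ℕ} (hD : Data X U a b 1) : False := by
  classical
  haveI : Fact (Nat.Prime 2) := ⟨Nat.prime_two⟩
  have uniq : ∀ (s : X), orderOf s = 2 → ∀ P Q : Sylow 2 X, s ∈ (P : Subgroup X) →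
      s ∈ (Q : Subgroup X) → P = Q := fun s hs P Q hP hQ => by
    haveI := (Nat.card_eq_one_iff_unique.1 (hD.cont s hs)).1
    exact congrArg Subtype.val (Subsingleton.elim (⟨P, hP⟩ : {R : Sylow 2 X // s ∈ (R : Subgroup X)})
      ⟨Q, hQ⟩)
  have fixer : ∀ (u : X), orderOf u = 2 → ∀ P : Sylow 2 X, u • P = P → u ∈ (P : Subgroup X) :=
    fun u hu P hP => CfsgLib.FGS.mem_of_mem_normalizer P ⟨1, by rw [hu, pow_one]⟩
      (Sylow.smul_eq_iff_mem_normalizer.1 hP)
  have two : ∀ u : X, orderOf u = 2 → u * u = 1 := fun u hu => by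
    rw [← pow_two, ← hu, pow_orderOf_eq_one]
  obtain ⟨P⟩ : Nonempty (Sylow 2 X) := inferInstance
  let i := Nat.card {s : X // orderOf s = 2 ∧ s ∈ (P : Subgroup X)}
  -- involutions outside `P`
  let Out := {s : X // orderOf s = 2 ∧ s ∉ (P : Subgroup X)}
  let f : Out → {Q : Sylow 2 X // Q ≠ P} := fun u =>
    ⟨(u : X) • P, fun e => u.2.2 (fixer u u.2.1 P e)⟩
  have hf : Function.Injective f := by
    rintro ⟨u, hu, huP⟩ ⟨v, hv, hvP⟩ e
    have e : u • P = v • P := congrArg Subtype.val e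
    refine Subtype.ext ?_
    show u = v
    set d := u * v with hd
    have h1 : d • P = P := by rw [hd, mul_smul, ← e, smul_smul, two u hu, one_smul]
    have h2 : d • (u • P) = u • P := by
      rw [hd, mul_smul, e, smul_smul v v, two v hv, one_smul, e]
    have hinv : u * d * u⁻¹ = d⁻¹ := by
      rw [hd, mul_inv_rev, inv_eq_of_mul_eq_one_left (two v hv), ← mul_assoc, two u hu, one_mul]
    obtain ⟨c, m, hm, em⟩ := Nat.exists_eq_two_pow_mul_odd (orderOf_pos d).ne'
    have hz : d ^ 2 ^ c = 1 := h.not_normalize (x := d ^ 2 ^ c) (g := u) (by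
        rw [orderOf_pow_of_dvd (by positivity) (em ▸ dvd_mul_right _ _), em,
          Nat.mul_div_cancel_left _ (by positivity)]
        exact hm) (conj_pow_inv hinv _) P
      (pow_mem (Sylow.smul_eq_iff_mem_normalizer.1 h1) _)
    by_contra hne
    have hd1 : d ≠ 1 := fun h0 => hne (by
      rw [hd, mul_eq_one_iff_eq_inv, inv_eq_of_mul_eq_one_left (two v hv)] at h0; exact h0)
    obtain ⟨c', hc', hord⟩ := (Nat.dvd_prime_pow Nat.prime_two).1 (orderOf_dvd_of_pow_eq_one hz)
    have hc0 : c' ≠ 0 := fun h0 => hd1 (orderOf_eq_one_iff.1 (by rw [hord, h0, pow_zero]))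
    set j := d ^ 2 ^ (c' - 1)
    have hj : orderOf j = 2 := by
      have e1 : 2 ^ c' = 2 ^ (c' - 1) * 2 := by
        rw [← pow_succ]; congr 1; omega
      rw [orderOf_pow_of_dvd (by positivity) (hord ▸ pow_dvd_pow 2 (Nat.sub_le _ _)), hord, e1,
        Nat.mul_div_cancel_left _ (by positivity)]
    have hjP : j ∈ (P : Subgroup X) := pow_mem (CfsgLib.FGS.mem_of_mem_normalizer P ⟨c', hord⟩
      (Sylow.smul_eq_iff_mem_normalizer.1 h1)) _
    have hjQ : j ∈ ((u • P : Sylow 2 X) : Subgroup X) :=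
      pow_mem (CfsgLib.FGS.mem_of_mem_normalizer _ ⟨c', hord⟩
        (Sylow.smul_eq_iff_mem_normalizer.1 h2)) _
    exact huP (fixer u hu P (uniq j hj P _ hjP hjQ).symm)
  -- counting all involutions
  have hi : ∀ Q : Sylow 2 X, Nat.card {s : X // orderOf s = 2 ∧ s ∈ (Q : Subgroup X)} = i := by
    intro Q
    obtain ⟨g, rfl⟩ := MulAction.exists_smul_eq X P Q
    refine (Nat.card_congr ((MulAut.conj g).toEquiv.subtypeEquiv fun s => ?_)).symm
    rw [Sylow.coe_subgroup_smul]
    show _ ↔ orderOf (g * s * g⁻¹) = 2 ∧ g * s * g⁻¹ ∈ _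
    rw [CfsgLib.FGS.mem_conj_smul, CfsgLib.Invol.orderOf_conj_eq,
      show g⁻¹ * (g * s * g⁻¹) * g = s by group]
  let α := Σ Q : Sylow 2 X, {s : X // orderOf s = 2 ∧ s ∈ (Q : Subgroup X)}
  have hall : Nat.card {s : X // orderOf s = 2} = Nat.card (Sylow 2 X) * i := by
    haveI := Fintype.ofFinite (Sylow 2 X)
    have hc : Nat.card α = Nat.card (Sylow 2 X) * i := by
      rw [Nat.card_sigma, Finset.sum_congr rfl fun Q _ => hi Q, Finset.sum_const, smul_eq_mul,
        Finset.card_univ, Nat.card_eq_fintype_card]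
    rw [← hc]
    refine (Nat.card_congr (Equiv.ofBijective (fun x : α => (⟨x.2.1, x.2.2.1⟩ : {s : X // orderOf s = 2}))
      ⟨?_, ?_⟩)).symm
    · rintro ⟨Q, s, hs, hQ⟩ ⟨R, t, ht, hR⟩ e
      have e : s = t := congrArg Subtype.val e
      subst e
      obtain rfl := uniq s hs Q R hQ hR
      rfl
    · rintro ⟨s, hs⟩
      obtain ⟨Q, hQ⟩ := (CfsgLib.FGS.isPGroup_zpowers (p := 2) (k := 1) (u := s)
        (by rw [hs, pow_one])).exists_le_sylow
      exact ⟨⟨Q, s, hs, hQ (mem_zpowers s)⟩, rfl⟩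
  have hsplit : Nat.card {s : X // orderOf s = 2} = i + Nat.card Out := by
    haveI := Fintype.ofFinite X
    simp only [i, Out, Nat.card_eq_fintype_card, Fintype.card_subtype]
    rw [← Finset.card_filter_add_card_filter_not (s := Finset.univ.filter fun s : X => orderOf s = 2)
      (fun s => s ∈ (P : Subgroup X)), Finset.filter_filter, Finset.filter_filter]
  have hout : Nat.card Out + 1 ≤ Nat.card (Sylow 2 X) := by
    haveI := Fintype.ofFinite (Sylow 2 X)
    refine (Nat.add_le_add_right (Nat.card_le_card_of_injective f hf) 1).trans ?_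
    rw [Nat.card_eq_fintype_card, Nat.card_eq_fintype_card, Fintype.card_subtype_compl,
      Fintype.card_subtype_eq]
    exact (Nat.sub_add_cancel (Fintype.card_pos_iff.2 ⟨P⟩)).le
  have hk := h.one_lt_card_sylow
  obtain ⟨s₀, hs₀⟩ := h.exists_involution
  obtain ⟨Q₀, hQ₀⟩ := (CfsgLib.FGS.isPGroup_zpowers (p := 2) (k := 1) (u := s₀)
    (by rw [hs₀, pow_one])).exists_le_sylow
  have hi1 : i = 1 := by
    have h0 : 1 ≤ i := hi Q₀ ▸ @Nat.card_pos _ ⟨⟨s₀, hs₀, hQ₀ (mem_zpowers s₀)⟩⟩ _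
    have h1 : i + Nat.card Out = Nat.card (Sylow 2 X) * i := hsplit.symm.trans hall
    by_contra hne
    have h2 : Nat.card (Sylow 2 X) * 2 ≤ Nat.card (Sylow 2 X) * i := Nat.mul_le_mul_left _ (by omega)
    nlinarith
  -- so the involution of `P` is isolated
  obtain ⟨hone, ⟨⟨s, hs, hsP⟩⟩⟩ := Nat.card_eq_one_iff_unique.1 hi1
  obtain ⟨N, hN, hNodd, hNc⟩ := Cfsg.Agent.S0215.result P s hs hsP fun g hg => by
    have := Subsingleton.elim (⟨g * s * g⁻¹, (CfsgLib.Invol.orderOf_conj_eq g s).trans hs, hg⟩ :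
      {s : X // orderOf s = 2 ∧ s ∈ (P : Subgroup X)}) ⟨s, hs, hsP⟩
    exact congrArg Subtype.val this
  haveI := hN
  let C := centralizer ({s} : Set X)
  have hC : C ≤ normalizer ((P : Subgroup X) : Set X) := by
    intro c hc
    refine Sylow.smul_eq_iff_mem_normalizer.1 (uniq s hs _ P ?_ hsP)
    show s ∈ ((c • P : Sylow 2 X) : Subgroup X)
    rw [Sylow.coe_subgroup_smul, CfsgLib.FGS.mem_conj_smul, mul_assoc,
      ← mem_centralizer_singleton_iff.1 hc, inv_mul_cancel_left]
    exact hsP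
  have hsolC : Group.IsSolvable C :=
    haveI := (noReal_normalizer P).isSolvable
    Group.isSolvable_of_isSolvable_injective (inclusion_injective hC)
  have hsurj : Function.Surjective ((QuotientGroup.mk' N).comp C.subtype) := by
    intro x
    obtain ⟨g, rfl⟩ := QuotientGroup.mk_surjective x
    obtain ⟨g', hg', e⟩ := exists_centralizer_lift hNodd (v := s) (g := g)
      (by rw [pow_two]; exact two s hs) (by
        show (QuotientGroup.mk g : X ⧸ N) * _ = _ * _
        have h2 : ((s * g * s⁻¹ * g⁻¹ : X) : X ⧸ N) = 1 := (QuotientGroup.eq_one_iff _).2 (hNc g)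
        rw [QuotientGroup.mk_mul, QuotientGroup.mk_mul, QuotientGroup.mk_mul, QuotientGroup.mk_inv,
          QuotientGroup.mk_inv, mul_inv_eq_one, mul_inv_eq_iff_eq_mul] at h2
        exact h2.symm)
    exact ⟨⟨g', mem_centralizer_singleton_iff.2 hg'⟩, e⟩
  haveI := hsolC
  haveI : Group.IsSolvable (X ⧸ N) := Group.isSolvable_of_surjective hsurj
  haveI := Cfsg.Agent.S0205.result hNodd
  exact h.notSolv (Group.isSolvable_of_ker_le_range N.subtype (QuotientGroup.mk' N)
    (by rw [QuotientGroup.ker_mk', range_subtype]))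

end CfsgLib.FGS.RealGraph
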