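import Cfsg.Agent.Lib.FGS.RealGraph.Basic

/-!
# Groups with a disconnected real class size graph and without normal subgroups of odd order
-/

namespace CfsgLib.FGS.RealGraph

open Subgroup

variable {G : Type*} [Group G]

/-- The conditions left over after factoring out the largest normal subgroup of odd order. -/
structure Reduced (G : Type*) [Group G] (π : Set ℕ) : Prop where
  two : 2 ∉ π
  inv : ∀ v : G, orderOf v = 2 → (∀ p ∈ π, p.Prime → ¬ p ∣ cls v) ∨
    ∀ p : ℕ, p.Prime → p ∣ cls v → p ∈ π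
  real : ∀ z g : G, Odd (orderOf z) → g * z * g⁻¹ = z⁻¹ → z ≠ 1 → ∀ p ∈ π, p.Prime → ¬ p ∣ cls z
  closed : ∀ v : G, orderOf v = 2 → (∃ p ∈ π, p.Prime ∧ p ∣ cls v) →
    NoReal (centralizer ({v} : Set G))
  core : ∀ N : Subgroup G, N.Normal → Odd (Nat.card N) → N = ⊥
  ex : ∃ t : G, orderOf t = 2 ∧ ∃ p ∈ π, p.Prime ∧ p ∣ cls t

/-- An involution whose class size has a prime in `π`. -/
def IsPi (π : Set ℕ) (v : G) : Prop := orderOf v = 2 ∧ ∃ p ∈ π, p.Prime ∧ p ∣ cls v

theorem cls_coprime {π : Set ℕ} {a b : ℕ} (ha : ∀ p : ℕ, p.Prime → p ∣ a → p ∈ π)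
    (hb : ∀ p ∈ π, p.Prime → ¬ p ∣ b) : a.Coprime b :=
  Nat.coprime_of_dvd fun p hp hpa hpb => hb p (ha p hp hpa) hp hpb

/-- The conjugates of an element as a finite set. -/
theorem ncard_conjClass (v : G) : {h : G | IsConj v h}.ncard = cls v :=
  (CfsgLib.FGS.index_centralizer_eq_ncard v).symm

theorem card_conj_eq (v g : G) : {h : G | IsConj (g * v * g⁻¹) h} = {h : G | IsConj v h} := by
  have h : IsConj v (g * v * g⁻¹) := isConj_iff.2 ⟨g, rfl⟩
  exact Set.ext fun w => ⟨fun hw => h.trans hw, fun hw => h.symm.trans hw⟩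

theorem normal_closure_of_conj {S : Set G} (h : ∀ x ∈ S, ∀ g : G, g * x * g⁻¹ ∈ S) :
    (closure S).Normal :=
  ⟨fun x hx g => by
    have hle : (closure S).map (MulAut.conj g).toMonoidHom ≤ closure S := by
      rw [MonoidHom.map_closure, closure_le]
      rintro _ ⟨y, hy, rfl⟩
      exact subset_closure (h y hy g)
    exact hle ⟨x, hx, rfl⟩⟩

namespace Reduced

variable [Finite G] {π : Set ℕ} (h : Reduced G π)
include h

theorem all_pi {v : G} (hv : IsPi π v) : ∀ p : ℕ, p.Prime → p ∣ cls v → p ∈ π := by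
  rcases h.inv v hv.1 with h1 | h1
  · obtain ⟨p, hp, hpp, hpd⟩ := hv.2
    exact absurd hpd (h1 p hp hpp)
  · exact h1

theorem odd_cls {v : G} (hv : IsPi π v) : Odd (cls v) := by
  rw [Nat.odd_iff, ← Nat.two_dvd_ne_zero]
  exact fun hd => h.two (h.all_pi hv 2 Nat.prime_two hd)

theorem coprime_real {v : G} (hv : IsPi π v) {z g : G} (hz : Odd (orderOf z))
    (hg : g * z * g⁻¹ = z⁻¹) (hz1 : z ≠ 1) : (cls v).Coprime (cls z) :=
  cls_coprime (h.all_pi hv) (h.real z g hz hg hz1)

/-- An involution with class size in `π` commutes with no nontrivial real element of odd order. -/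
theorem not_commute {v : G} (hv : IsPi π v) {z g : G} (hz : Odd (orderOf z))
    (hg : g * z * g⁻¹ = z⁻¹) (hc : z * v = v * z) : z = 1 := by
  by_contra hz1
  exact hz1 ((h.closed v hv.1 hv.2).eq_one (mem_centralizer_singleton_iff.2 hc) hz hg
    (h.coprime_real hv hz hg hz1))

/-- An involution with class size in `π` lies in a normal `2`-subgroup. -/
theorem exists_normal_two {t : G} (ht : IsPi π t) :
    ∃ Q : Subgroup G, Q.Normal ∧ IsPGroup 2 Q ∧ t ∈ Q := by
  classical
  by_contra hc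
  push Not at hc
  obtain ⟨z, hz1, hzo, hz⟩ := CfsgLib.Invol.exists_inverted_odd t ht.1 fun N hN hNp => hc N hN hNp
  -- every conjugate of `t` inverts every real element of odd order inverted by one of them
  have hall : ∀ u : G, u ≠ 1 → Odd (orderOf u) → t * u * t⁻¹ = u⁻¹ → ∀ g : G,
      g * t * g⁻¹ * u * (g * t * g⁻¹)⁻¹ = u⁻¹ := by
    intro u hu1 huo hu g
    obtain ⟨c, hcC, d, hd, rfl⟩ := CfsgLib.Solvable.mul_of_coprime_index
      (H := centralizer ({u} : Set G)) (K := centralizer ({t} : Set G))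
      (h.coprime_real ht huo hu hu1).symm g
    rw [mem_centralizer_singleton_iff] at hcC hd
    have e : c * d * t * (c * d)⁻¹ = c * t * c⁻¹ := by
      calc c * d * t * (c * d)⁻¹ = c * (d * t) * d⁻¹ * c⁻¹ := by group
        _ = c * (t * d) * d⁻¹ * c⁻¹ := by rw [hd]
        _ = _ := by group
    rw [e]
    have h1 : c⁻¹ * u * c = u := by rw [mul_assoc, ← hcC, inv_mul_cancel_left]
    calc c * t * c⁻¹ * u * (c * t * c⁻¹)⁻¹ = c * (t * (c⁻¹ * u * c) * t⁻¹) * c⁻¹ := by group
      _ = c * u⁻¹ * c⁻¹ := by rw [h1, hu]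
      _ = (c * u * c⁻¹)⁻¹ := by group
      _ = u⁻¹ := by rw [hcC, mul_inv_cancel_right]
  set D := closure {w : G | IsConj t w} with hD
  let P : G → Prop := fun u => u ∈ D ∧ Odd (orderOf u) ∧ ∀ g : G,
    g * t * g⁻¹ * u * (g * t * g⁻¹)⁻¹ = u⁻¹
  have hpm : ∀ u, P u → ∀ d ∈ D, d * u * d⁻¹ = u ∨ d * u * d⁻¹ = u⁻¹ := by
    intro u hu d hd
    induction hd using Subgroup.closure_induction with
    | mem x hx =>
      obtain ⟨g, rfl⟩ := isConj_iff.1 hx
      exact Or.inr (hu.2.2 g)
    | one => left; simp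
    | mul x y _ _ hx hy =>
      have e : x * y * u * (x * y)⁻¹ = x * (y * u * y⁻¹) * x⁻¹ := by group
      rcases hy with hy | hy <;> rcases hx with hx | hx
      · left; rw [e, hy, hx]
      · right; rw [e, hy, hx]
      · right; rw [e, hy, ← conj_inv, hx]
      · left; rw [e, hy, ← conj_inv, hx, inv_inv]
    | inv x _ hx =>
      rcases hx with hx | hx
      · left
        calc x⁻¹ * u * x⁻¹⁻¹ = x⁻¹ * (x * u * x⁻¹) * x := by rw [hx]; group
          _ = u := by group
      · right
        calc x⁻¹ * u * x⁻¹⁻¹ = x⁻¹ * ((x * u * x⁻¹)⁻¹) * x := by rw [hx]; group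
          _ = u⁻¹ := by group
  have hcomm : ∀ u w, P u → P w → u * w = w * u := by
    intro u w hu hw
    rcases hpm w hw u hu.1 with e | e
    · exact mul_inv_eq_iff_eq_mul.1 e
    · have := conj_inv_pow_odd e hu.2.1
      rw [pow_orderOf_eq_one, one_mul, inv_one, mul_one] at this
      rw [eq_one_of_inv_self hw.2.1 this, mul_one, one_mul]
  let S : Subgroup G :=
    { carrier := {u | P u}
      one_mem' := ⟨one_mem _, by rw [orderOf_one]; exact odd_one, fun g => by group⟩
      mul_mem' := fun {u w} hu hw => ⟨mul_mem hu.1 hw.1,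
        (hu.2.1.mul hw.2.1).of_dvd_nat
          ((show Commute u w from hcomm u w hu hw).orderOf_mul_dvd_mul_orderOf),
        fun g => by rw [← conj_mul, hu.2.2 g, hw.2.2 g, mul_inv_rev,
          ((show Commute u w from hcomm u w hu hw).inv_inv).eq]⟩
      inv_mem' := fun {u} hu => ⟨inv_mem hu.1, by rw [orderOf_inv]; exact hu.2.1,
        fun g => by rw [← conj_inv, hu.2.2 g]⟩ }
  have hSn : S.Normal := ⟨fun u hu c => ⟨by
      have hDn : D.Normal := normal_closure_of_conj fun x hx g => by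
        obtain ⟨g', rfl⟩ := isConj_iff.1 hx
        exact isConj_iff.2 ⟨g * g', by group⟩
      exact hDn.conj_mem u hu.1 c,
    by rw [CfsgLib.Invol.orderOf_conj_eq]; exact hu.2.1, fun g => by
      have := hu.2.2 (c⁻¹ * g)
      calc g * t * g⁻¹ * (c * u * c⁻¹) * (g * t * g⁻¹)⁻¹
          = c * (c⁻¹ * g * t * (c⁻¹ * g)⁻¹ * u * (c⁻¹ * g * t * (c⁻¹ * g)⁻¹)⁻¹) * c⁻¹ := by group
        _ = (c * u * c⁻¹)⁻¹ := by rw [this, conj_inv]⟩⟩
  have hSodd : Odd (Nat.card S) := by
    rw [Nat.odd_iff, ← Nat.two_dvd_ne_zero]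
    intro h2
    haveI : Fact (Nat.Prime 2) := ⟨Nat.prime_two⟩
    obtain ⟨⟨u, hu⟩, huo⟩ := exists_prime_orderOf_dvd_card' (G := S) 2 h2
    rw [Subgroup.orderOf_mk] at huo
    exact absurd (huo ▸ hu.2.1) (by decide)
  have hzS : z ∈ S := by
    refine ⟨?_, hzo, hall z hz1 hzo hz⟩
    have hz2 : z ^ 2 ∈ D := by
      have e : z ^ 2 = (z * t * z⁻¹) * t⁻¹ := by
        calc z ^ 2 = z * (t * z * t⁻¹)⁻¹ := by rw [hz, inv_inv, pow_two]
          _ = _ := by group
      rw [e]
      exact mul_mem (subset_closure (isConj_iff.2 ⟨z, rfl⟩)) (inv_mem (subset_closure (IsConj.refl t)))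
    obtain ⟨j, hj⟩ := exists_pow_eq_self_of_coprime (x := z) (Nat.coprime_two_left.2 hzo)
    rw [← hj]; exact pow_mem hz2 j
  rw [h.core S hSn hSodd, mem_bot] at hzS
  exact hz1 hzS

/-- Conjugates of an involution with class size in `π` commute. -/
theorem commute_conj {t : G} (ht : IsPi π t) (g g' : G) :
    (g * t * g⁻¹) * (g' * t * g'⁻¹) = (g' * t * g'⁻¹) * (g * t * g⁻¹) := by
  haveI : Fact (Nat.Prime 2) := ⟨Nat.prime_two⟩
  obtain ⟨Q, hQn, hQp, htQ⟩ := h.exists_normal_two ht
  haveI := hQn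
  obtain ⟨S, hS⟩ := exists_sylow_le (p := 2) (H := centralizer ({t} : Set G))
    (Nat.two_dvd_ne_zero.2 (Nat.odd_iff.1 (h.odd_cls ht)))
  have hQle : Q ≤ centralizer ({t} : Set G) :=
    ((CfsgLib.Cores.le_pCore hQp).trans (CfsgLib.Cores.pCore_le_sylow S)).trans hS
  have h1 := mem_centralizer_singleton_iff.1 (hQle (hQn.conj_mem t htQ (g'⁻¹ * g)))
  calc (g * t * g⁻¹) * (g' * t * g'⁻¹)
      = g' * ((g'⁻¹ * g) * t * (g'⁻¹ * g)⁻¹ * t) * g'⁻¹ := by group
    _ = g' * (t * ((g'⁻¹ * g) * t * (g'⁻¹ * g)⁻¹)) * g'⁻¹ := by rw [h1]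
    _ = _ := by group

end Reduced

/-- The subgroup generated by the products of `t` with its conjugates. -/
def diffSubgroup (t : G) : Subgroup G := closure (Set.range fun g : G => t * (g * t * g⁻¹))

theorem diffSubgroup_normal {t : G} (ht : t * t = 1) : (diffSubgroup t).Normal := by
  refine ⟨fun x hx g => ?_⟩
  induction hx using Subgroup.closure_induction with
  | mem x hx =>
    obtain ⟨a, rfl⟩ := hx
    have e : g * (t * (a * t * a⁻¹)) * g⁻¹ =
        (t * (g * t * g⁻¹))⁻¹ * (t * (g * a * t * (g * a)⁻¹)) := by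
      rw [mul_inv_rev, mul_assoc _ t⁻¹, inv_mul_cancel_left, mul_inv_rev, mul_inv_rev, inv_inv,
        inv_eq_of_mul_eq_one_left ht]
      group
    rw [e]
    exact mul_mem (inv_mem (subset_closure ⟨g, rfl⟩)) (subset_closure ⟨g * a, rfl⟩)
  | one => rw [mul_one, mul_inv_cancel]; exact one_mem _
  | mul x y _ _ hx hy =>
    rw [← conj_mul]; exact mul_mem hx hy
  | inv x _ hx => rw [← conj_inv]; exact inv_mem hx

namespace Reduced

variable [Finite G] {π : Set ℕ} (h : Reduced G π)
include h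

theorem comm_conj_of_mem {t : G} (ht : IsPi π t) {v : G} (hv : v ∈ diffSubgroup t) (g : G) :
    v * (g * t * g⁻¹) = (g * t * g⁻¹) * v := by
  induction hv using Subgroup.closure_induction with
  | mem x hx =>
    obtain ⟨a, rfl⟩ := hx
    have h1 := h.commute_conj ht 1 g
    have h2 := h.commute_conj ht a g
    simp only [one_mul, inv_one, mul_one] at h1
    exact (Commute.mul_left (h1 : Commute t _) (h2 : Commute (a * t * a⁻¹) _)).eq
  | one => simp
  | mul x y _ _ hx hy => exact (Commute.mul_left (hx : Commute x _) (hy : Commute y _)).eq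
  | inv x _ hx => exact (Commute.inv_left (hx : Commute x _)).eq

theorem comm_of_mem {t : G} (ht : IsPi π t) {v w : G} (hv : v ∈ diffSubgroup t)
    (hw : w ∈ diffSubgroup t) : v * w = w * v := by
  induction hw using Subgroup.closure_induction with
  | mem x hx =>
    obtain ⟨a, rfl⟩ := hx
    have h1 := h.comm_conj_of_mem ht hv 1
    simp only [one_mul, inv_one, mul_one] at h1
    exact (Commute.mul_right (h1 : Commute v t) (h.comm_conj_of_mem ht hv a : Commute v _)).eq
  | one => simp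
  | mul x y _ _ hx hy => exact (Commute.mul_right (hx : Commute v x) (hy : Commute v y)).eq
  | inv x _ hx => exact (Commute.inv_right (hx : Commute v x)).eq

theorem sq_of_mem {t : G} (ht : IsPi π t) {v : G} (hv : v ∈ diffSubgroup t) : v * v = 1 := by
  induction hv using Subgroup.closure_induction with
  | mem x hx =>
    obtain ⟨a, rfl⟩ := hx
    have h1 := h.commute_conj ht a 1
    simp only [one_mul, inv_one, mul_one] at h1
    have htt : t * t = 1 := by rw [← pow_two, ← ht.1, pow_orderOf_eq_one]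
    calc t * (a * t * a⁻¹) * (t * (a * t * a⁻¹))
        = t * ((a * t * a⁻¹) * t) * (a * t * a⁻¹) := by group
      _ = t * (t * (a * t * a⁻¹)) * (a * t * a⁻¹) := by rw [h1]
      _ = (t * t) * (a * (t * t) * a⁻¹) := by group
      _ = 1 := by rw [htt]; group
  | one => simp
  | mul x y hx' hy' hx hy =>
    calc x * y * (x * y) = x * (y * x) * y := by group
      _ = x * (x * y) * y := by rw [h.comm_of_mem ht hy' hx']
      _ = (x * x) * (y * y) := by group
      _ = 1 := by rw [hx, hy, one_mul]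
  | inv x _ hx => rw [← mul_inv_rev, hx, inv_one]

/-- Nontrivial elements of `diffSubgroup t` are central or have class size in `π`. -/
theorem central_or_isPi {t : G} (ht : IsPi π t) {v : G} (hv : v ∈ diffSubgroup t) (hv1 : v ≠ 1) :
    v ∈ center G ∨ IsPi π v := by
  classical
  have hvv := h.sq_of_mem ht hv
  have hvo : orderOf v = 2 := orderOf_eq_prime (by rw [pow_two, hvv]) hv1
  have htt : t * t = 1 := by rw [← pow_two, ← ht.1, pow_orderOf_eq_one]
  by_contra hcon
  push Not at hcon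
  obtain ⟨hvc, hvπ⟩ := hcon
  have hn : ∀ p ∈ π, p.Prime → ¬ p ∣ cls v := fun p hp hpp hd => hvπ ⟨hvo, p, hp, hpp, hd⟩
  have hcop : (cls t).Coprime (cls v) := cls_coprime (h.all_pi ht) hn
  have hvt : v * t = t * v := by simpa using h.comm_conj_of_mem ht hv 1
  set u := t * v with hu
  have htv : t ≠ v := fun e => by
    obtain ⟨p, hp, hpp, hd⟩ := ht.2
    exact hn p hp hpp (e ▸ hd)
  have huo : orderOf u = 2 := by
    refine orderOf_eq_prime ?_ fun h1 => htv ?_
    · rw [pow_two, hu, mul_assoc, ← mul_assoc v t, hvt, mul_assoc t v v, hvv, mul_one, htt]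
    · rw [hu, mul_eq_one_iff_eq_inv, inv_eq_of_mul_eq_one_left hvv] at h1
      exact h1
  set Ω := {w : G | IsConj t w}
  set Θ := {w : G | IsConj v w}
  set cu := {w : G | IsConj u w}
  have hfin : cu.Finite := Set.toFinite _
  have hΩv : (fun w => w * v) '' Ω ⊆ cu := by
    rintro _ ⟨w, hw, rfl⟩
    obtain ⟨g, rfl⟩ := isConj_iff.1 hw
    obtain ⟨c, hc, d, hd, rfl⟩ := CfsgLib.Solvable.mul_of_coprime_index
      (H := centralizer ({v} : Set G)) (K := centralizer ({t} : Set G)) hcop.symm g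
    refine isConj_iff.2 ⟨c, ?_⟩
    rw [mem_centralizer_singleton_iff] at hc hd
    calc c * (t * v) * c⁻¹ = (c * t * c⁻¹) * (c * v * c⁻¹) := by group
      _ = (c * d * t * (c * d)⁻¹) * v := by
        rw [hc, mul_inv_cancel_right]
        congr 1
        calc c * t * c⁻¹ = c * (t * d) * d⁻¹ * c⁻¹ := by group
          _ = c * (d * t) * d⁻¹ * c⁻¹ := by rw [hd]
          _ = _ := by group
  have hΘt : (fun w => t * w) '' Θ ⊆ cu := by
    rintro _ ⟨w, hw, rfl⟩
    obtain ⟨g, rfl⟩ := isConj_iff.1 hw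
    obtain ⟨c, hc, d, hd, rfl⟩ := CfsgLib.Solvable.mul_of_coprime_index
      (H := centralizer ({t} : Set G)) (K := centralizer ({v} : Set G)) hcop g
    refine isConj_iff.2 ⟨c, ?_⟩
    rw [mem_centralizer_singleton_iff] at hc hd
    calc c * (t * v) * c⁻¹ = (c * t * c⁻¹) * (c * v * c⁻¹) := by group
      _ = t * (c * d * v * (c * d)⁻¹) := by
        rw [hc, mul_inv_cancel_right]
        congr 1
        calc c * v * c⁻¹ = c * (v * d) * d⁻¹ * c⁻¹ := by group
          _ = c * (d * v) * d⁻¹ * c⁻¹ := by rw [hd]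
          _ = _ := by group
  have hcΩ : ((fun w => w * v) '' Ω).ncard = cls t := by
    rw [Set.ncard_image_of_injective _ (mul_left_injective v), ncard_conjClass]
  have hcΘ : ((fun w => t * w) '' Θ).ncard = cls v := by
    rw [Set.ncard_image_of_injective _ (mul_right_injective t), ncard_conjClass]
  have hdvd : cls u ∣ cls t * cls v := by
    have h1 : centralizer ({t} : Set G) ⊓ centralizer ({v} : Set G) ≤ centralizer ({u} : Set G) := by
      rintro c ⟨hc1, hc2⟩
      replace hc1 := mem_centralizer_singleton_iff.1 hc1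
      replace hc2 := mem_centralizer_singleton_iff.1 hc2
      exact mem_centralizer_singleton_iff.2
        (Commute.mul_right (hc1 : Commute c t) (hc2 : Commute c v)).eq
    refine (index_dvd_of_le h1).trans (dvd_of_eq ?_)
    exact (CfsgLib.Solvable.index_inf_of_coprime hcop).2
  rcases h.inv u huo with hu1 | hu1
  · -- `cls u` has no prime in `π`
    have hle : cls u ∣ cls v :=
      ((cls_coprime (h.all_pi ht) hu1).symm).dvd_of_dvd_mul_left hdvd
    have heq : (fun w => t * w) '' Θ = cu := Set.eq_of_subset_of_ncard_le hΘt (by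
      rw [hcΘ, ncard_conjClass]
      exact Nat.le_of_dvd (Nat.pos_of_ne_zero Subgroup.index_ne_zero_of_finite) hle) hfin
    have hinv : ∀ j ∈ diffSubgroup t, ∀ w ∈ Θ, j * w ∈ Θ := by
      intro j hj
      have hgen : ∀ a : G, ∀ w ∈ Θ, t * (a * t * a⁻¹) * w ∈ Θ := by
        intro a w hw
        have hw' : a⁻¹ * w * a ∈ Θ := hw.trans (isConj_iff.2 ⟨a⁻¹, by group⟩)
        have h1 : t * (a⁻¹ * w * a) ∈ cu := hΘt ⟨_, hw', rfl⟩
        have h2 : (a * t * a⁻¹) * w ∈ cu := h1.trans (isConj_iff.2 ⟨a, by group⟩)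
        rw [← heq] at h2
        obtain ⟨w', hw'', e⟩ := h2
        have e : t * w' = a * t * a⁻¹ * w := e
        rwa [mul_assoc, ← e, ← mul_assoc, htt, one_mul]
      induction hj using Subgroup.closure_induction with
      | mem x hx => obtain ⟨a, rfl⟩ := hx; exact hgen a
      | one => intro w hw; rwa [one_mul]
      | mul x y _ _ hx hy => intro w hw; rw [mul_assoc]; exact hx _ (hy w hw)
      | inv x hx' hx =>
        intro w hw
        rw [inv_eq_of_mul_eq_one_left (h.sq_of_mem ht hx')]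
        exact hx w hw
    have h1 := hinv v hv v (IsConj.refl v)
    rw [hvv] at h1
    exact hv1 (isConj_one_left.1 h1)
  · -- all primes of `cls u` lie in `π`
    have hle : cls u ∣ cls t := (cls_coprime hu1 hn).dvd_of_dvd_mul_right hdvd
    have heq : (fun w => w * v) '' Ω = cu := Set.eq_of_subset_of_ncard_le hΩv (by
      rw [hcΩ, ncard_conjClass]
      exact Nat.le_of_dvd (Nat.pos_of_ne_zero Subgroup.index_ne_zero_of_finite) hle) hfin
    refine hvc (Subgroup.mem_center_iff.2 fun g => ?_)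
    by_contra hg
    set w₀ := g * v * g⁻¹ * v with hw₀
    have hw₀1 : w₀ ≠ 1 := fun e => hg (by
      rw [hw₀, mul_eq_one_iff_eq_inv, inv_eq_of_mul_eq_one_left hvv, mul_inv_eq_iff_eq_mul] at e
      exact e)
    have hgv : g * v * g⁻¹ ∈ diffSubgroup t := by
      exact (diffSubgroup_normal htt).conj_mem v hv g
    have hww : w₀ * w₀ = 1 := h.sq_of_mem ht (mul_mem hgv hv)
    have hstep : ∀ w ∈ Ω, w * w₀ ∈ Ω := by
      intro w hw
      have hw' : g⁻¹ * w * g ∈ Ω := hw.trans (isConj_iff.2 ⟨g⁻¹, by group⟩)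
      have h1 : g⁻¹ * w * g * v ∈ cu := hΩv ⟨_, hw', rfl⟩
      have h2 : w * (g * v * g⁻¹) ∈ cu := h1.trans (isConj_iff.2 ⟨g, by group⟩)
      rw [← heq] at h2
      obtain ⟨w', hw'', e⟩ := h2
      have e : w' * v = w * (g * v * g⁻¹) := e
      rwa [hw₀, ← mul_assoc w, ← e, mul_assoc, hvv, mul_one]
    have heven : (Ω.ncard : ZMod 2) = 0 := by
      rw [Set.ncard_eq_toFinset_card Ω (Set.toFinite _), ← mul_one (((Set.toFinite Ω).toFinset.card : ℕ) : ZMod 2),
        ← nsmul_eq_mul, ← Finset.sum_const]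
      refine Finset.sum_involution (fun w _ => w * w₀) (fun w _ => ?_) (fun w _ _ e => hw₀1 ?_)
        (fun w hw => ?_) (fun w _ => ?_)
      · decide
      · exact mul_left_cancel (a := w) (by rw [mul_one]; exact e)
      · simp only [Set.Finite.mem_toFinset] at hw ⊢; exact hstep w hw
      · rw [mul_assoc, hww, mul_one]
    rw [ncard_conjClass, ZMod.natCast_eq_zero_iff] at heven
    exact Nat.two_dvd_ne_zero.2 (Nat.odd_iff.1 (h.odd_cls ht)) heven

end Reduced

end CfsgLib.FGS.RealGraph
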