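import Cfsg.Agent.Lib.FGS.RealGraph.ModuleFinal
import Cfsg.Agent.Lib.FGS.RealGraph.Reduced

/-!
# Groups with a disconnected real class size graph are solvable
-/

namespace CfsgLib.FGS.RealGraph

open Subgroup

variable {G : Type*} [Group G] [Finite G]

theorem cls_dvd_of_map {H : Type*} [Group H] (f : G →* H) (hf : Function.Surjective f) (x : G) :
    cls (f x) ∣ cls x := by
  refine (index_dvd_of_le ?_).trans (index_map_dvd (H := centralizer ({x} : Set G)) hf)
  rintro _ ⟨c, hc, rfl⟩
  rw [mem_centralizer_singleton_iff, ← map_mul, ← map_mul, mem_centralizer_singleton_iff.1 hc]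

theorem solvable_of_surjective' {H : Type*} [Group H] (f : G →* H)
    (hker : Group.IsSolvable f.ker) (hH : Group.IsSolvable H) : Group.IsSolvable G :=
  haveI := hker
  haveI := hH
  Group.isSolvable_of_ker_le_range f.ker.subtype f (by rw [range_subtype])

namespace Reduced

variable {π : Set ℕ} (h : Reduced G π)
include h

theorem not_le_center {t : G} (ht : IsPi π t) : ¬ diffSubgroup t ≤ center G := by
  intro hle
  haveI : Fact (Nat.Prime 2) := ⟨Nat.prime_two⟩
  have htt : t * t = 1 := by rw [← pow_two, ← ht.1, pow_orderOf_eq_one]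
  have hgen : ∀ g : G, t * (g * t * g⁻¹) ∈ diffSubgroup t := fun g => subset_closure ⟨g, rfl⟩
  let f : G →* diffSubgroup t := MonoidHom.mk' (fun g => ⟨t * (g * t * g⁻¹), hgen g⟩) fun a b => by
    refine Subtype.ext ?_
    have hc := Subgroup.mem_center_iff.1 (hle (hgen b)) (t * a)
    show t * (a * b * t * (a * b)⁻¹) = t * (a * t * a⁻¹) * (t * (b * t * b⁻¹))
    have hc' := Subgroup.mem_center_iff.1 (hle (hgen b)) a
    calc t * (a * b * t * (a * b)⁻¹) = t * (a * (b * t * b⁻¹) * a⁻¹) := by group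
      _ = t * (a * (t * (t * (b * t * b⁻¹))) * a⁻¹) := by rw [← mul_assoc t t, htt, one_mul]
      _ = t * (a * t * ((t * (b * t * b⁻¹)) * a⁻¹)) := by group
      _ = t * (a * t * (a⁻¹ * (t * (b * t * b⁻¹)))) := by
        rw [Subgroup.mem_center_iff.1 (hle (hgen b)) a⁻¹]
      _ = _ := by group
  have hker : f.ker = centralizer ({t} : Set G) := by
    ext g
    rw [MonoidHom.mem_ker, mem_centralizer_singleton_iff, Subtype.ext_iff]
    show t * (g * t * g⁻¹) = 1 ↔ _
    rw [mul_eq_one_iff_inv_eq, inv_eq_of_mul_eq_one_left htt, eq_comm, mul_inv_eq_iff_eq_mul]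
  have hp : IsPGroup 2 (diffSubgroup t) := fun x => ⟨1, Subtype.ext (by
    rw [pow_one, SubmonoidClass.coe_pow, pow_two]
    exact h.sq_of_mem ht x.2)⟩
  obtain ⟨i, hi⟩ := IsPGroup.iff_card.1 (hp.to_subgroup f.range)
  have hcl : cls t = 2 ^ i := by
    rw [← hi, ← index_ker, hker]; rfl
  obtain ⟨p, hpπ, hp', hd⟩ := ht.2
  rw [hcl] at hd
  exact h.two ((Nat.prime_dvd_prime_iff_eq hp' Nat.prime_two).1 (hp'.dvd_of_dvd_pow hd) ▸ hpπ)

theorem isSolvable : Group.IsSolvable G := by
  classical
  by_contra hns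
  haveI : Fact (Nat.Prime 2) := ⟨Nat.prime_two⟩
  obtain ⟨t, ht⟩ : ∃ t, IsPi π t := h.ex
  have htt : t * t = 1 := by rw [← pow_two, ← ht.1, pow_orderOf_eq_one]
  set J := diffSubgroup t
  haveI hJn : J.Normal := diffSubgroup_normal htt
  have hJc : ¬ J ≤ center G := h.not_le_center ht
  obtain ⟨W, hWm⟩ := Set.Finite.exists_maximal
    (Set.toFinite {W : Subgroup G | W.Normal ∧ J ⊓ center G ≤ W ∧ W ≤ J ∧ W ≠ J})
    ⟨J ⊓ center G, inferInstance, le_rfl, inf_le_left, fun e => hJc (e ▸ inf_le_right)⟩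
  obtain ⟨⟨hWn, hWc, hWJ, hWne⟩, hWmax⟩ := hWm
  haveI := hWn
  set π' := QuotientGroup.mk' W
  set Ub := J.map π'
  haveI hUn : Ub.Normal := hJn.map π' (QuotientGroup.mk'_surjective W)
  have hπmem : ∀ v : G, π' v ∈ Ub ↔ v ∈ J := fun v => by
    rw [← mem_comap, comap_map_eq_self (by rwa [QuotientGroup.ker_mk'])]
  letI : CommGroup Ub := { (inferInstance : Group Ub) with
    mul_comm := fun x y => by
      obtain ⟨v, hv, hxv⟩ := x.2
      obtain ⟨w, hw, hyw⟩ := y.2
      refine Subtype.ext ?_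
      show (x : G ⧸ W) * y = (y : G ⧸ W) * x
      rw [← hxv, ← hyw, ← map_mul, ← map_mul, h.comm_of_mem ht hv hw] }
  let φ : G →* MulAut Ub := MulAut.conjNormal.comp π'
  have hφ : ∀ (g : G) (x : Ub), ((φ g x : Ub) : G ⧸ W) = π' g * x * (π' g)⁻¹ := fun g x =>
    MulAut.conjNormal_apply _ _
  let mkU : J → Ub := fun v => ⟨π' v, mem_map_of_mem _ v.2⟩
  have hmkU : ∀ x : Ub, ∃ v : J, mkU v = x := fun x => by
    obtain ⟨v, hv, e⟩ := x.2
    exact ⟨⟨v, hv⟩, Subtype.ext e⟩
  have hmk1 : ∀ v : J, mkU v = 1 ↔ (v : G) ∈ W := fun v => by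
    rw [Subtype.ext_iff]
    exact QuotientGroup.eq_one_iff (v : G)
  -- no real element of odd order fixes a nontrivial element of `Ub`
  have hfree : ∀ z g : G, Odd (orderOf z) → g * z * g⁻¹ = z⁻¹ → z ≠ 1 → ∀ x : Ub,
      φ z x = x → x = 1 := by
    intro z g hzo hz hz1 x hx
    by_contra hx1
    obtain ⟨j, hjp, hjo, hj⟩ := exists_prime_power hzo hz1 hz
    have hx' : φ (z ^ j) x = x := by
      rw [map_pow]
      exact MulAction.mem_stabilizer_iff.1 (pow_mem (MulAction.mem_stabilizer_iff.2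
        (show φ z • x = x from hx)) j)
    haveI : Fact (orderOf (z ^ j)).Prime := ⟨hjp⟩
    set y := z ^ j
    obtain ⟨v, rfl⟩ := hmkU x
    have hy : ∀ c ∈ zpowers y, π' c * π' v * (π' c)⁻¹ = π' v := by
      intro c hc
      have hst : φ c • mkU v = mkU v := by
        have : zpowers y ≤ (MulAction.stabilizer (MulAut Ub) (mkU v)).comap φ :=
          zpowers_le.2 hx'
        exact this hc
      have := congrArg Subtype.val (show φ c (mkU v) = mkU v from hst)
      rwa [hφ] at this
    let F : Set G := {w | π' w = π' v}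
    letI : MulAction (zpowers y) F :=
      { smul := fun c w => ⟨(c : G) * w * (c : G)⁻¹, by
          show π' _ = _
          rw [map_mul, map_mul, map_inv, w.2]
          exact hy c c.2⟩
        one_smul := fun w => Subtype.ext (by show ((1 : zpowers y) : G) * w * _ = w; simp)
        mul_smul := fun c d w => Subtype.ext (by
          show ((c * d : zpowers y) : G) * w * _ = (c : G) * ((d : G) * w * (d : G)⁻¹) * _
          push_cast; group) }
    have hp : IsPGroup (orderOf y) (zpowers y) :=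
      IsPGroup.of_card (n := 1) (by rw [Nat.card_zpowers, pow_one])
    have hcard : Nat.card F = Nat.card W := Nat.card_congr
      { toFun := fun w => ⟨(v : G)⁻¹ * w, by
          rw [← QuotientGroup.eq_one_iff]
          show π' _ = 1
          rw [map_mul, map_inv, w.2, inv_mul_cancel]⟩
        invFun := fun n => ⟨(v : G) * n, by
          show π' _ = _
          rw [map_mul, show π' (n : G) = 1 from (QuotientGroup.eq_one_iff _).2 n.2, mul_one]⟩
        left_inv := fun w => Subtype.ext (mul_inv_cancel_left _ _)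
        right_inv := fun n => Subtype.ext (inv_mul_cancel_left _ _) }
    obtain ⟨i, hi⟩ := IsPGroup.iff_card.1 (show IsPGroup 2 W from fun w => ⟨1, Subtype.ext (by
      rw [pow_one, SubmonoidClass.coe_pow, pow_two]; exact h.sq_of_mem ht (hWJ w.2))⟩)
    obtain ⟨⟨w, hw⟩, hwfix⟩ := hp.nonempty_fixed_point_of_prime_not_dvd_card F (by
      rw [hcard, hi]
      intro hd
      have := (Nat.prime_dvd_prime_iff_eq hjp Nat.prime_two).1 (hjp.dvd_of_dvd_pow hd)
      rw [this] at hjo; exact absurd hjo (by decide))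
    have hyw : y * w * y⁻¹ = w := congrArg Subtype.val (hwfix ⟨y, mem_zpowers y⟩)
    have hwJ : w ∈ J := (hπmem w).1 ((hw : π' w = π' v) ▸ mem_map_of_mem _ v.2)
    have hwW : w ∉ W := fun hin => hx1 ((hmk1 v).2 ((QuotientGroup.eq_one_iff (v : G)).1
      ((hw : π' w = π' v).symm.trans ((QuotientGroup.eq_one_iff w).2 hin))))
    rcases h.central_or_isPi ht hwJ (fun e => hwW (e ▸ one_mem W)) with hc | hc
    · exact hwW (hWc ⟨hwJ, hc⟩)
    · exact ne_one_of_prime hjp (h.not_commute hc hjo hj (mul_inv_eq_iff_eq_mul.1 hyw))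
  haveI hUnt : Nontrivial Ub := by
    obtain ⟨v, hvJ, hvW⟩ := SetLike.exists_of_lt (lt_of_le_of_ne hWJ hWne)
    exact ⟨⟨mkU ⟨v, hvJ⟩, 1, fun e => hvW ((hmk1 _).1 e)⟩⟩
  -- the kernel has no real elements of odd order
  have hK : NoReal φ.ker := by
    intro z hz g _ hzo hzg
    by_contra hz1
    obtain ⟨x, hx⟩ := exists_ne (1 : Ub)
    exact hx (hfree z g hzo hzg hz1 x (by rw [MonoidHom.mem_ker.1 hz]; rfl))
  set X := φ.range
  let πX : G →* X := φ.rangeRestrict
  have hπX : Function.Surjective πX := φ.rangeRestrict_surjective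
  have hkerX : πX.ker = φ.ker := φ.ker_rangeRestrict
  letI : DistribMulAction X (Additive Ub) :=
    { smul := fun c u => Additive.ofMul ((c : MulAut Ub) (Additive.toMul u))
      one_smul := fun u => rfl
      mul_smul := fun c d u => rfl
      smul_zero := fun c => congrArg Additive.ofMul (map_one (c : MulAut Ub))
      smul_add := fun c u v => congrArg Additive.ofMul (map_mul (c : MulAut Ub) _ _) }
  have hsmul : ∀ (g : G) (x : Ub), πX g • Additive.ofMul x = Additive.ofMul (φ g x) := fun g x => rfl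
  -- real elements of odd order of `X` come from such elements of `G`
  have hlift : ∀ x c : X, Odd (orderOf x) → c * x * c⁻¹ = x⁻¹ → x ≠ 1 →
      ∃ y g : G, Odd (orderOf y) ∧ g * y * g⁻¹ = y⁻¹ ∧ y ≠ 1 ∧ πX y ≠ 1 ∧ πX y ∈ zpowers x := by
    intro x c hxo hxc hx1
    obtain ⟨c', ⟨e, hce⟩, -, hc'⟩ := exists_two_inverter hxc
    set L := zpowers x ⊔ zpowers c'
    have hno : ¬ NoReal (L.comap πX) := by
      intro hN
      -- the image of a group without real elements of odd order has none
      obtain ⟨x₀, hx₀⟩ := hπX x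
      obtain ⟨c₀, hc₀⟩ := hπX c'
      let f : L.comap πX →* L := (πX.comp (L.comap πX).subtype).codRestrict L fun w => w.2
      have hf : Function.Surjective f := fun w => by
        obtain ⟨w₀, hw₀⟩ := hπX w
        exact ⟨⟨w₀, show πX w₀ ∈ L by rw [hw₀]; exact w.2⟩, Subtype.ext hw₀⟩
      obtain ⟨P⟩ : Nonempty (Sylow 2 (L.comap πX)) := inferInstance
      have hPn := hN.normal_sylow P
      have hQn : ((P.mapSurjective hf : Sylow 2 L) : Subgroup L).Normal := hPn.map f hf
      exact (Cfsg.Agent.S3861.result (P.mapSurjective hf)).2 hQn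
        ⟨x, Subgroup.mem_sup_left (mem_zpowers x)⟩ (fun e => hx1 (congrArg Subtype.val e))
        (by rwa [Subgroup.orderOf_mk])
        (isConj_iff.2 ⟨⟨c', Subgroup.mem_sup_right (mem_zpowers c')⟩, Subtype.ext hc'⟩)
    unfold NoReal at hno
    push Not at hno
    obtain ⟨y, hy, g, hg, hyo, hyg, hy1⟩ := hno
    refine ⟨y, g, hyo, hyg, hy1, fun e1 => ?_, ?_⟩
    · obtain ⟨u, hu⟩ := exists_ne (1 : Ub)
      exact hu (hfree y g hyo hyg hy1 u (by
        rw [show φ y = 1 from congrArg Subtype.val e1]; rfl))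
    · -- `zpowers x` is the normal complement in `L`
      have hn : zpowers c' ≤ normalizer ((zpowers x : Subgroup X) : Set X) := by
        refine zpowers_le.2 ?_
        rw [Subgroup.mem_normalizer_iff]
        intro d
        constructor
        · intro hd
          obtain ⟨i, rfl⟩ := mem_zpowers_iff.1 hd
          rw [← conj_zpow, hc', inv_zpow]
          exact inv_mem (zpow_mem (mem_zpowers x) i)
        · intro hd
          obtain ⟨i, hi⟩ := mem_zpowers_iff.1 hd
          refine mem_zpowers_iff.2 ⟨-i, ?_⟩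
          have : d = c'⁻¹ * x ^ i * c' := by rw [hi]; group
          rw [this, zpow_neg, ← inv_zpow, ← hc', conj_zpow]
          have h2 : c' * (c' * x ^ i * c'⁻¹) * c'⁻¹ = x ^ i := by
            rw [← conj_zpow, hc', ← conj_zpow, ← conj_inv, hc', inv_inv]
          calc c' * x ^ i * c'⁻¹ = c'⁻¹ * (c' * (c' * x ^ i * c'⁻¹) * c'⁻¹) * c' := by group
            _ = _ := by rw [h2]
      obtain ⟨a, ha, b, hb, hab⟩ := CfsgLib.Solvable.exists_mul_of_mem_sup hn (hy : πX y ∈ L)
      set Z := (zpowers x).subgroupOf L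
      have hxn : Z.Normal := by
        refine (Subgroup.normal_subgroupOf_iff_le_normalizer le_sup_left).2 (sup_le le_normalizer hn)
      set yb : L := ⟨πX y, hy⟩
      set bb : L := ⟨b, Subgroup.mem_sup_right hb⟩
      have hq : (QuotientGroup.mk yb : L ⧸ Z) = QuotientGroup.mk bb := by
        rw [QuotientGroup.eq, mem_subgroupOf]
        push_cast
        show (πX y)⁻¹ * b ∈ zpowers x
        rw [hab, mul_inv_rev, mul_assoc]
        have h1 := (Subgroup.mem_normalizer_iff.1 (inv_mem (hn hb)) a⁻¹).1 (inv_mem ha)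
        rwa [inv_inv, mul_assoc] at h1
      have hbo : orderOf bb ∣ 2 ^ e := by
        rw [Subgroup.orderOf_mk, ← hce]
        exact orderOf_dvd_of_mem_zpowers hb
      have hyo' : Odd (orderOf (QuotientGroup.mk yb : L ⧸ Z)) := by
        refine hyo.of_dvd_nat ((orderOf_map_dvd (QuotientGroup.mk' Z) yb).trans ?_)
        rw [← Subgroup.orderOf_coe]
        exact orderOf_map_dvd πX y
      have h2 : orderOf (QuotientGroup.mk yb : L ⧸ Z) ∣ 2 ^ e := by
        rw [hq]; exact (orderOf_map_dvd (QuotientGroup.mk' Z) bb).trans hbo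
      have h3 := Nat.eq_one_of_dvd_coprimes ((Nat.coprime_two_left.2 hyo').pow_left e) h2 dvd_rfl
      rw [orderOf_eq_one_iff, QuotientGroup.eq_one_iff, mem_subgroupOf] at h3
      exact h3
  -- Sylow subgroups of `X` and the centraliser of `t`
  obtain ⟨S, hS⟩ := exists_sylow_le (p := 2) (H := centralizer ({t} : Set G))
    (Nat.two_dvd_ne_zero.2 (Nat.odd_iff.1 (h.odd_cls ht)))
  have hCt : centralizer ({t} : Set G) ≤ normalizer ((S : Subgroup G) : Set G) :=
    (h.closed t ht.1 ht.2).le_normalizer S hS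
  have hk : Nat.card (Sylow 2 X) ∣ cls t := by
    rw [(S.mapSurjective hπX).card_eq_index_normalizer]
    refine (index_dvd_of_le ?_).trans (index_map_dvd (H := centralizer ({t} : Set G)) hπX)
    exact (map_mono hCt).trans (le_normalizer_map πX)
  refine not_hyp (X := X) (U := Additive Ub) ⟨?_, ?_, ?_, ?_, ?_, ?_, ?_⟩
  · intro u
    obtain ⟨v, hv⟩ := hmkU (Additive.toMul u)
    refine Additive.toMul.injective ?_
    show Additive.toMul u * Additive.toMul u = 1
    rw [← hv]
    refine Subtype.ext ?_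
    show π' v * π' v = 1
    rw [← map_mul, h.sq_of_mem ht v.2, map_one]
  · intro x hx
    refine Subtype.ext (MulEquiv.ext fun w => ?_)
    exact congrArg Additive.toMul (hx (Additive.ofMul w))
  · intro u
    obtain ⟨v, hv⟩ := hmkU (Additive.toMul u)
    by_cases hvW : (v : G) ∈ W
    · obtain ⟨P⟩ : Nonempty (Sylow 2 X) := inferInstance
      refine ⟨P, fun p _ => ?_⟩
      have hu : u = 0 := by
        refine Additive.toMul.injective ?_
        rw [← hv, (hmk1 v).2 hvW]; rfl
      rw [hu, smul_zero]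
    obtain ⟨S', hS'⟩ : ∃ S' : Sylow 2 G, (S' : Subgroup G) ≤ centralizer ({(v : G)} : Set G) := by
      refine exists_sylow_le ?_
      rcases h.central_or_isPi ht v.2 (fun e => hvW (e ▸ one_mem W)) with hc | hc
      · exact absurd (hWc ⟨v.2, hc⟩) hvW
      · exact Nat.two_dvd_ne_zero.2 (Nat.odd_iff.1 (h.odd_cls hc))
    refine ⟨S'.mapSurjective hπX, fun p hp => ?_⟩
    obtain ⟨c, hc, rfl⟩ := hp
    have hu : u = Additive.ofMul (mkU v) := by rw [hv]; rfl
    rw [hu, hsmul]
    refine congrArg Additive.ofMul (Subtype.ext ?_)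
    rw [hφ]
    show π' c * π' v * (π' c)⁻¹ = π' v
    rw [← map_inv, ← map_mul, ← map_mul, mem_centralizer_singleton_iff.1 (hS' hc),
      mul_inv_cancel_right]
  · intro x c hxo hxc hx1 u hu
    obtain ⟨y, g, hyo, hyg, hy1, -, hymem⟩ := hlift x c hxo hxc hx1
    obtain ⟨v, hv⟩ := hmkU (Additive.toMul u)
    have hfix : πX y • u = u := MulAction.mem_stabilizer_iff.1
      ((zpowers_le.2 (MulAction.mem_stabilizer_iff.2 hu)) hymem)
    have := hfree y g hyo hyg hy1 (Additive.toMul u) (congrArg Additive.toMul hfix)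
    exact Additive.toMul.injective this
  · intro x c hxp hxo hxc
    obtain ⟨y, g, hyo, hyg, hy1, hy1', hymem⟩ := hlift x c hxo hxc (ne_one_of_prime hxp)
    have heq : zpowers x = zpowers (πX y) := by
      refine (Subgroup.eq_of_le_of_card_ge (zpowers_le.2 hymem) ?_).symm
      rw [Nat.card_zpowers, Nat.card_zpowers]
      rcases hxp.eq_one_or_self_of_dvd _ (orderOf_dvd_of_mem_zpowers hymem) with e | e
      · exact absurd (orderOf_eq_one_iff.1 e) hy1'
      · rw [e]
    have hcls : cls x = cls (πX y) := by rw [cls, cls, centralizer_eq_of_zpowers heq]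
    rw [hcls]
    exact ((h.coprime_real ht hyo hyg hy1).symm.coprime_dvd_left
      (cls_dvd_of_map πX hπX y)).coprime_dvd_right hk
  · intro N hN hNp
    by_contra hNbot
    haveI := hN
    letI : MulAction N Ub :=
      { smul := fun c x => ((c : X) : MulAut Ub) x
        one_smul := fun x => rfl
        mul_smul := fun c d x => rfl }
    obtain ⟨i, hi⟩ := IsPGroup.iff_card.1 (show IsPGroup 2 Ub from fun x => ⟨1, by
      obtain ⟨v, rfl⟩ := hmkU x
      refine Subtype.ext ?_
      rw [pow_one, SubmonoidClass.coe_pow, pow_two]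
      show π' v * π' v = 1
      rw [← map_mul, h.sq_of_mem ht v.2, map_one]⟩)
    have hi0 : i ≠ 0 := fun h0 => by
      have := Finite.one_lt_card (α := Ub)
      rw [hi, h0, pow_zero] at this
      exact lt_irrefl _ this
    obtain ⟨x, hx, hx1⟩ := hNp.exists_fixed_point_of_prime_dvd_card_of_fixed_point Ub
      (hi ▸ dvd_pow_self 2 hi0) (a := (1 : Ub)) (fun c => map_one ((c : X) : MulAut Ub))
    let FixU : Subgroup Ub :=
      { carrier := {w | ∀ c : N, ((c : X) : MulAut Ub) w = w}
        one_mem' := fun c => map_one _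
        mul_mem' := fun {u v} hu hv c => by rw [map_mul, hu c, hv c]
        inv_mem' := fun {u} hu c => by rw [map_inv, hu c] }
    set W' := (FixU.map Ub.subtype).comap π'
    haveI hW'n : W'.Normal := by
      refine ⟨fun w hw g => ?_⟩
      obtain ⟨u, hu, hue⟩ := hw
      refine ⟨φ g u, fun c => ?_, ?_⟩
      · have hc' : (πX g)⁻¹ * (c : X) * πX g ∈ N := hN.conj_mem' _ c.2 _
        have h1 := hu ⟨_, hc'⟩
        have h2 : ((c : X) : MulAut Ub) * φ g = φ g * (((πX g)⁻¹ * (c : X) * πX g : X) : MulAut Ub) := by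
          push_cast
          show _ = φ g * ((φ g)⁻¹ * _ * φ g)
          group
        show (((c : X) : MulAut Ub) * φ g) u = φ g u
        rw [h2]
        exact congrArg (φ g) h1
      · show ((φ g u : Ub) : G ⧸ W) = π' (g * w * g⁻¹)
        have hue : (u : G ⧸ W) = π' w := hue
        rw [hφ, map_mul, map_mul, map_inv, hue]
    have hWW' : W ≤ W' := fun w hw => ⟨1, one_mem _, by
      show ((1 : Ub) : G ⧸ W) = π' w
      rw [OneMemClass.coe_one]; exact ((QuotientGroup.eq_one_iff w).2 hw).symm⟩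
    have hW'J : W' ≤ J := fun w ⟨u, _, hue⟩ => (hπmem w).1 ((hue : (u : G ⧸ W) = π' w) ▸ u.2)
    obtain ⟨v, hv⟩ := hmkU x
    have hvW' : (v : G) ∈ W' := ⟨x, hx, (congrArg Subtype.val hv).symm⟩
    have hW'eq : W' = J := by
      by_contra hne
      exact hx1 (hv ▸ ((hmk1 v).2 (hWmax ⟨hW'n, hWc.trans hWW', hW'J, hne⟩ hWW' hvW'))).symm
    refine hNbot ((Subgroup.eq_bot_iff_forall N).2 fun c hc => Subtype.ext (MulEquiv.ext fun w => ?_))
    obtain ⟨v', hv'⟩ := hmkU w
    have hv'' : (v' : G) ∈ W' := hW'eq.ge v'.2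
    obtain ⟨u, hu, hue⟩ := hv''
    have hwu : w = u := by rw [← hv']; exact Subtype.ext hue.symm
    rw [hwu]
    exact hu ⟨c, hc⟩
  · intro hsol
    refine hns (solvable_of_surjective' πX ?_ hsol)
    rw [hkerX]
    exact hK.isSolvable

end Reduced

end CfsgLib.FGS.RealGraph
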