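import Cfsg.Agent.Lib.FGS.RealGraph.Basic

/-!
# Modules in characteristic two all whose nonzero vectors are fixed by a unique Sylow 2-subgroup

The basic counting: every involution has fixed space of order `q` where `|U| = q ^ 2`, the number
of Sylow subgroups is `l * (q + 1)`, `l` being the number of them containing a given involution.
-/

namespace CfsgLib.FGS.RealGraph

open Subgroup

variable (X : Type*) [Group X] (U : Type*) [AddCommGroup U] [DistribMulAction X U]

/-- The module situation arising from a disconnected real class size graph. -/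
structure Hyp : Prop where
  two : ∀ u : U, u + u = 0
  faithful : ∀ x : X, (∀ u : U, x • u = u) → x = 1
  fix : ∀ u : U, ∃ P : Sylow 2 X, ∀ p ∈ (P : Subgroup X), p • u = u
  fpf : ∀ x g : X, Odd (orderOf x) → g * x * g⁻¹ = x⁻¹ → x ≠ 1 → ∀ u : U, x • u = u → u = 0
  cop : ∀ x g : X, (orderOf x).Prime → Odd (orderOf x) → g * x * g⁻¹ = x⁻¹ →
    (cls x).Coprime (Nat.card (Sylow 2 X))
  core : ∀ N : Subgroup X, N.Normal → IsPGroup 2 N → N = ⊥
  notSolv : ¬ Group.IsSolvable X

/-- Fixed points of a set of group elements. -/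
def fixSet (A : Set X) : AddSubgroup U where
  carrier := {u | ∀ a ∈ A, a • u = u}
  zero_mem' := fun a _ => smul_zero a
  add_mem' := fun {u v} hu hv a ha => by rw [smul_add, hu a ha, hv a ha]
  neg_mem' := fun {u} hu a ha => by rw [smul_neg, hu a ha]

variable {X U}

theorem mem_fixSet {A : Set X} {u : U} : u ∈ fixSet X U A ↔ ∀ a ∈ A, a • u = u := Iff.rfl

theorem mem_fixSet_singleton {a : X} {u : U} : u ∈ fixSet X U {a} ↔ a • u = u := by
  simp [mem_fixSet]

theorem card_fixSet_conj (A : Set X) (g : X) :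
    Nat.card (fixSet X U ((fun a => g * a * g⁻¹) '' A)) = Nat.card (fixSet X U A) := by
  refine (Nat.card_congr (Equiv.subtypeEquiv (MulAction.toPerm g) fun u => ?_)).symm
  show u ∈ fixSet X U A ↔ g • u ∈ fixSet X U _
  simp only [mem_fixSet, Set.forall_mem_image, mul_smul, inv_smul_smul]
  exact forall₂_congr fun a _ => (smul_left_cancel_iff g).symm

theorem two_pow_card [Finite U] (two : ∀ u : U, u + u = 0) (H : AddSubgroup U) :
    ∃ i, Nat.card H = 2 ^ i := by
  haveI : Fact (Nat.Prime 2) := ⟨Nat.prime_two⟩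
  have hp : IsPGroup 2 (Multiplicative H) := fun x => ⟨1, by
    rw [pow_one, pow_two]
    exact Subtype.ext (two (Multiplicative.toAdd x).1)⟩
  obtain ⟨i, hi⟩ := IsPGroup.iff_card.1 hp
  exact ⟨i, by rw [← hi]; rfl⟩

/-- An element of order `r` fixes a set of cardinality congruent to the whole modulo `r`. -/
theorem card_modEq_fixed [Finite X] [Finite U] {r : ℕ} [hr : Fact r.Prime] {y : X}
    (hy : orderOf y = r) (H : AddSubgroup U) (hH : ∀ u ∈ H, y • u ∈ H) :
    Nat.card H ≡ Nat.card {u : H // y • (u : U) = u} [MOD r] := by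
  classical
  have hinv : ∀ c ∈ zpowers y, ∀ u ∈ H, c • u ∈ H := by
    intro c hc
    rw [← mem_powers_iff_mem_zpowers] at hc
    obtain ⟨i, rfl⟩ := hc
    intro u hu
    induction i with
    | zero => simpa using hu
    | succ i ih =>
      show y ^ (i + 1) • u ∈ H
      rw [pow_succ', mul_smul]
      exact hH _ ih
  letI : MulAction (zpowers y) H :=
    { smul := fun c u => ⟨(c : X) • (u : U), hinv _ c.2 _ u.2⟩
      one_smul := fun u => Subtype.ext (one_smul X (u : U))
      mul_smul := fun c d u => Subtype.ext (mul_smul (c : X) (d : X) (u : U)) }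
  have hp : IsPGroup r (zpowers y) := IsPGroup.of_card (n := 1) (by rw [Nat.card_zpowers, hy, pow_one])
  refine (hp.card_modEq_card_fixedPoints H).trans (Nat.ModEq.symm ?_)
  rw [Nat.card_congr (Equiv.subtypeEquivRight (p := fun u : H => y • (u : U) = u)
    (q := fun u => u ∈ MulAction.fixedPoints (zpowers y) H) fun u => ?_)]
  refine ⟨fun h c => Subtype.ext ?_, fun h => congrArg Subtype.val (h ⟨y, mem_zpowers y⟩)⟩
  exact (zpowers_le.2 (MulAction.mem_stabilizer_iff.2 h) : zpowers y ≤ MulAction.stabilizer X (u : U)) c.2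

namespace Hyp

variable [Finite X] (h : Hyp X U)
include h

theorem noReal_stab {u : U} (hu : u ≠ 0) : NoReal (MulAction.stabilizer X u) :=
  fun z hz g _ hodd hinv => by_contra fun h1 => hu (h.fpf z g hodd hinv h1 u hz)

theorem mem_sylow_of_fix {u : U} (hu : u ≠ 0) (P : Sylow 2 X)
    (hP : ∀ p ∈ (P : Subgroup X), p • u = u) {s : X} (hs : ∃ a, orderOf s = 2 ^ a)
    (hsu : s • u = u) : s ∈ (P : Subgroup X) :=
  (h.noReal_stab hu).mem_sylow P hP hsu hs

theorem sylow_unique {u : U} (hu : u ≠ 0) (P Q : Sylow 2 X)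
    (hP : ∀ p ∈ (P : Subgroup X), p • u = u) (hQ : ∀ p ∈ (Q : Subgroup X), p • u = u) : P = Q := by
  haveI : Fact (Nat.Prime 2) := ⟨Nat.prime_two⟩
  refine Sylow.ext (Subgroup.eq_of_le_of_card_ge ?_ (by rw [P.card_eq_multiplicity, Q.card_eq_multiplicity]))
  intro p hp
  obtain ⟨a, ha⟩ := IsPGroup.iff_orderOf.1 P.isPGroup' ⟨p, hp⟩
  exact h.mem_sylow_of_fix hu Q hQ ⟨a, by rw [← ha, Subgroup.orderOf_mk]⟩ (hP p hp)

theorem coprime_normalizer {x g : X} (hp : (orderOf x).Prime) (hodd : Odd (orderOf x))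
    (hinv : g * x * g⁻¹ = x⁻¹) (P : Sylow 2 X) :
    (normalizer ((P : Subgroup X) : Set X)).index.Coprime (cls x) := by
  haveI : Fact (Nat.Prime 2) := ⟨Nat.prime_two⟩
  rw [show (normalizer ((P : Subgroup X) : Set X)).index = Nat.card (Sylow 2 X) from
    P.card_eq_index_normalizer.symm]
  exact (h.cop x g hp hodd hinv).symm

/-- The centraliser of a real element of prime order is transitive on Sylow subgroups. -/
theorem centralizer_transitive {x g : X} (hp : (orderOf x).Prime) (hodd : Odd (orderOf x))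
    (hinv : g * x * g⁻¹ = x⁻¹) (P Q : Sylow 2 X) :
    ∃ c ∈ centralizer ({x} : Set X), c • P = Q := by
  haveI : Fact (Nat.Prime 2) := ⟨Nat.prime_two⟩
  obtain ⟨a, rfl⟩ := MulAction.exists_smul_eq X P Q
  obtain ⟨c, hc, d, hd, rfl⟩ := CfsgLib.Solvable.mul_of_coprime_index
    (H := centralizer ({x} : Set X)) (h.coprime_normalizer hp hodd hinv P).symm a
  exact ⟨c, hc, by rw [mul_smul, Sylow.smul_eq_iff_mem_normalizer.2 hd]⟩

theorem not_normalize {x g : X} (hodd : Odd (orderOf x)) (hinv : g * x * g⁻¹ = x⁻¹) (P : Sylow 2 X)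
    (hx : x ∈ normalizer ((P : Subgroup X) : Set X)) : x = 1 := by
  by_contra h1
  obtain ⟨j, hjp, hjo, hj⟩ := exists_prime_power hodd h1 hinv
  exact ne_one_of_prime hjp ((noReal_normalizer P).eq_one (pow_mem hx j) hjo hj
    (h.coprime_normalizer hjp hjo hj P))

theorem exists_involution : ∃ s : X, orderOf s = 2 := by
  haveI : Fact (Nat.Prime 2) := ⟨Nat.prime_two⟩
  refine exists_prime_orderOf_dvd_card' 2 (Nat.dvd_of_mod_eq_zero ?_)
  by_contra hc
  exact h.notSolv (Cfsg.Agent.S0205.result (Nat.odd_iff.2 (by omega)))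

theorem exists_real : ∃ x g : X, (orderOf x).Prime ∧ Odd (orderOf x) ∧ g * x * g⁻¹ = x⁻¹ := by
  by_contra hc
  push Not at hc
  refine h.notSolv (isSolvable_of_noReal_top fun z _ g _ hodd hinv => ?_)
  by_contra h1
  obtain ⟨j, hjp, hjo, hj⟩ := exists_prime_power hodd h1 hinv
  exact hc _ g hjp hjo hj

theorem inverted_of_involution {s : X} (hs : orderOf s = 2) :
    ∃ z : X, z ≠ 1 ∧ Odd (orderOf z) ∧ s * z * s⁻¹ = z⁻¹ :=
  CfsgLib.Invol.exists_inverted_odd s hs fun N hN hNp hm => by
    rw [h.core N hN hNp, mem_bot] at hm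
    rw [hm, orderOf_one] at hs
    exact absurd hs (by norm_num)

theorem one_lt_card_sylow : 1 < Nat.card (Sylow 2 X) := by
  haveI : Fact (Nat.Prime 2) := ⟨Nat.prime_two⟩
  obtain ⟨s, hs⟩ := h.exists_involution
  obtain ⟨P, hP⟩ := (CfsgLib.FGS.isPGroup_zpowers (p := 2) (k := 1) (u := s) (by rw [hs, pow_one])).exists_le_sylow
  by_contra hle
  haveI : Subsingleton (Sylow 2 X) := (Finite.card_le_one_iff_subsingleton).1 (by omega)
  have hb := h.core _ P.normal_of_subsingleton P.isPGroup'
  have := hP (mem_zpowers s)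
  rw [hb, mem_bot] at this
  rw [this, orderOf_one] at hs
  exact absurd hs (by norm_num)

variable [Finite U]

theorem card_fix_sq {s : X} (hs : orderOf s = 2) :
    Nat.card (fixSet X U {s}) ^ 2 = Nat.card U := by
  have hss : s * s = 1 := by rw [← pow_two, ← hs, pow_orderOf_eq_one]
  apply le_antisymm
  · obtain ⟨z, hz1, hzo, hz⟩ := h.inverted_of_involution hs
    have hcard : Nat.card (fixSet X U {z * s * z⁻¹}) = Nat.card (fixSet X U {s}) := by
      rw [← card_fixSet_conj {s} z, Set.image_singleton]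
    rw [pow_two]
    nth_rewrite 2 [← hcard]
    rw [← Nat.card_prod]
    refine Nat.card_le_card_of_injective (fun ab => (ab.1 : U) + (ab.2 : U)) ?_
    rintro ⟨⟨a, ha⟩, ⟨b, hb⟩⟩ ⟨⟨a', ha'⟩, ⟨b', hb'⟩⟩ hab
    simp only at hab
    have hw : a - a' = b' - b := by
      rw [sub_eq_sub_iff_add_eq_add, hab, add_comm]
    have hw1 : s • (a - a') = a - a' := mem_fixSet_singleton.1 (sub_mem ha ha')
    have hw2 : (z * s * z⁻¹) • (a - a') = a - a' := by
      rw [hw]; exact mem_fixSet_singleton.1 (sub_mem hb' hb)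
    have hzz : z * s * z⁻¹ = z ^ 2 * s := by
      have : s * z⁻¹ = z * s := by
        calc s * z⁻¹ = (s * z⁻¹ * s⁻¹) * s := by group
          _ = (s * z * s⁻¹)⁻¹ * s := by group
          _ = z * s := by rw [hz, inv_inv]
      rw [mul_assoc, this, ← mul_assoc, pow_two]
    rw [hzz, mul_smul, hw1] at hw2
    have h0 := h.fpf (z ^ 2) s (by
      rw [Nat.Coprime.orderOf_pow (Nat.coprime_two_right.2 hzo)]; exact hzo)
      (conj_pow_inv hz 2) (fun h2 => hz1 (by
        rw [← orderOf_eq_one_iff] at h2 ⊢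
        rwa [Nat.Coprime.orderOf_pow (Nat.coprime_two_right.2 hzo)] at h2)) _ hw2
    have h0' : b' - b = 0 := hw ▸ h0
    rw [sub_eq_zero] at h0 h0'
    simp [h0, h0']
  · let f : U →+ U := DistribSMul.toAddMonoidHom U s + AddMonoidHom.id U
    have hf : ∀ u, f u = s • u + u := fun u => rfl
    have hker : f.ker = fixSet X U {s} := by
      ext u
      rw [AddMonoidHom.mem_ker, mem_fixSet_singleton, hf, add_eq_zero_iff_eq_neg,
        eq_comm (a := s • u), neg_eq_of_add_eq_zero_left (h.two u), eq_comm]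
    have hran : f.range ≤ fixSet X U {s} := by
      rintro _ ⟨u, rfl⟩
      rw [mem_fixSet_singleton, hf, smul_add, smul_smul, hss, one_smul, add_comm]
    rw [← AddSubgroup.card_mul_index f.ker, AddSubgroup.index_ker, hker, pow_two]
    exact Nat.mul_le_mul_left _ (AddSubgroup.card_le_of_le hran)

/-- The common order of the fixed spaces of involutions. -/
theorem exists_q : ∃ b : ℕ, Nat.card U = 2 ^ (2 * b) ∧ 1 ≤ b ∧
    ∀ s : X, orderOf s = 2 → Nat.card (fixSet X U {s}) = 2 ^ b := by
  obtain ⟨s₀, hs₀⟩ := h.exists_involution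
  obtain ⟨b, hb⟩ := two_pow_card h.two (fixSet X U {s₀})
  have hU : Nat.card U = 2 ^ (2 * b) := by
    rw [← h.card_fix_sq hs₀, hb, ← pow_mul, mul_comm]
  refine ⟨b, hU, ?_, fun s hs => ?_⟩
  · by_contra hb0
    rw [show b = 0 by omega, mul_zero, pow_zero] at hU
    haveI : Subsingleton U := (Nat.card_eq_one_iff_unique.1 hU).1
    haveI : Subsingleton X := ⟨fun x y => by
      rw [h.faithful x fun u => Subsingleton.elim _ _, h.faithful y fun u => Subsingleton.elim _ _]⟩
    exact h.notSolv (Group.isSolvable_of_comm fun x y => Subsingleton.elim _ _)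
  · have := h.card_fix_sq hs
    rw [hU, mul_comm 2 b, pow_mul] at this
    exact Nat.pow_left_injective two_ne_zero this

end Hyp

end CfsgLib.FGS.RealGraph
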