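import Cfsg.Agent.Lib.FGS.RealGraph.Ppd
import Cfsg.Agent.Lib.Solvable.Fitting
import Cfsg.Agent.S3559
import Cfsg.Agent.S2904

/-!
# The case with a primitive prime divisor
-/

namespace CfsgLib.FGS.RealGraph

open Subgroup
open scoped commutatorElement

variable {X : Type*} [Group X] {U : Type*} [AddCommGroup U] [DistribMulAction X U]

theorem exists_big [Finite X] [Finite U] (h : Hyp X U) {a b l : ℕ} (hD : Data X U a b l)
    (hl : 1 < l) (hb3 : b ≠ 3) : ∃ r, Big X U a b l r := by
  have hb : 2 ≤ b := by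
    by_contra hc
    have h1 := hD.eq
    have h2 := hD.one_le_a
    have h3 : 2 ^ b ≤ 2 := by
      calc 2 ^ b ≤ 2 ^ 1 := Nat.pow_le_pow_right (by norm_num) (by omega)
        _ = 2 := pow_one 2
    have h4 : 2 ≤ 2 ^ a := by
      calc 2 = 2 ^ 1 := (pow_one 2).symm
        _ ≤ 2 ^ a := Nat.pow_le_pow_right (by norm_num) h2
    have : 2 * (2 ^ a - 1) ≤ l * (2 ^ a - 1) := Nat.mul_le_mul_right _ hl
    omega
  obtain ⟨r, hr, hrd, hrp⟩ := Cfsg.Agent.S2904.result 2 (2 * b) (by norm_num) (by omega)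
    (by omega) (by omega)
  exact ⟨r, h, hD, ⟨hr, hrd, hrp⟩, hb⟩

theorem card_ne_point {α : Type*} [Finite α] (P : α) :
    Nat.card {R : α // R ≠ P} + 1 = Nat.card α := by
  classical
  haveI := Fintype.ofFinite α
  rw [Nat.card_eq_fintype_card, Nat.card_eq_fintype_card, Fintype.card_subtype_compl,
    Fintype.card_subtype_eq]
  exact Nat.sub_add_cancel (Fintype.card_pos_iff.2 ⟨P⟩)

theorem two_pow_eq {i j u v : ℕ} (hu : Odd u) (hv : Odd v) (h : 2 ^ i * u = 2 ^ j * v) :
    2 ^ i = 2 ^ j :=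
  Nat.dvd_antisymm
    (((Nat.coprime_two_left.2 hv).pow_left i).dvd_of_dvd_mul_right (h ▸ dvd_mul_right _ _))
    (((Nat.coprime_two_left.2 hu).pow_left j).dvd_of_dvd_mul_right (h.symm ▸ dvd_mul_right _ _))

namespace Big

variable [Finite X] [Finite U] {a b l r : ℕ} (B : Big X U a b l r)
include B

theorem dvd_k : r ∣ Nat.card (Sylow 2 X) := by
  have h : r ∣ (2 ^ b + 1) * (2 ^ b - 1) := by
    rw [← Nat.sq_sub_sq, one_pow, ← pow_mul, mul_comm b 2]
    exact B.ppd.dvd
  rcases (Nat.Prime.dvd_mul B.ppd.prime).1 h with h1 | h1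
  · rw [B.data.k_eq]; exact dvd_mul_of_dvd_right h1 _
  · exact absurd h1 (B.ppd.prim b (by have := B.two_le_b; omega) (by have := B.two_le_b; omega))

theorem exists_sylow_centralizer {x g : X} (hp : (orderOf x).Prime) (hodd : Odd (orderOf x))
    (hinv : g * x * g⁻¹ = x⁻¹) [Fact r.Prime] :
    ∃ R : Sylow r X, (R : Subgroup X) ≤ centralizer ({x} : Set X) :=
  exists_sylow_le fun hd => B.ppd.prime.not_dvd_one
    ((B.hyp.cop x g hp hodd hinv) ▸ Nat.dvd_gcd hd B.dvd_k)

/-- A real element of order `r`. -/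
theorem exists_real_r : ∃ y g : X, orderOf y = r ∧ g * y * g⁻¹ = y⁻¹ := by
  haveI : Fact r.Prime := ⟨B.ppd.prime⟩
  haveI : Fact (Nat.Prime 2) := ⟨Nat.prime_two⟩
  obtain ⟨x, g, hp, hodd, hinv⟩ := B.hyp.exists_real
  obtain ⟨R, hR⟩ := B.exists_sylow_centralizer hp hodd hinv
  set C := centralizer ({x} : Set X)
  -- move the inverter into the normaliser of `R`
  have hgC : ∀ c ∈ C, g * c * g⁻¹ ∈ C := fun c hc => by
    rw [mem_centralizer_singleton_iff] at hc ⊢
    have h1 : g * c * g⁻¹ * x⁻¹ = x⁻¹ * (g * c * g⁻¹) := by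
      rw [← hinv]
      calc g * c * g⁻¹ * (g * x * g⁻¹) = g * (c * x) * g⁻¹ := by group
        _ = g * (x * c) * g⁻¹ := by rw [hc]
        _ = _ := by group
    calc g * c * g⁻¹ * x = x * (x⁻¹ * (g * c * g⁻¹)) * x := by group
      _ = x * (g * c * g⁻¹ * x⁻¹) * x := by rw [h1]
      _ = _ := by group
  have hle : ((g • R : Sylow r X) : Subgroup X) ≤ C := by
    intro w hw
    rw [Sylow.coe_subgroup_smul, CfsgLib.FGS.mem_conj_smul] at hw
    have := hgC _ (hR hw)
    rwa [show g * (g⁻¹ * w * g) * g⁻¹ = w by group] at this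
  obtain ⟨c, hc⟩ := MulAction.exists_smul_eq C ((g • R).subtype hle) (R.subtype hR)
  have hc' : (c : X) • (g • R) = R := by
    refine Sylow.subtype_injective (hP := ?_) (hQ := hR) ?_
    · intro w hw
      rw [Sylow.coe_subgroup_smul, CfsgLib.FGS.mem_conj_smul] at hw
      have := mul_mem (mul_mem c.2 (hle hw)) (inv_mem c.2)
      rwa [show (c : X) * ((c : X)⁻¹ * w * (c : X)) * (c : X)⁻¹ = w by group] at this
    · rw [← hc, Sylow.smul_subtype]; rfl
  set hh := (c : X) * g
  have hhN : hh ∈ normalizer ((R : Subgroup X) : Set X) :=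
    Sylow.smul_eq_iff_mem_normalizer.1 (by rw [mul_smul, hc'])
  have hhinv : hh * x * hh⁻¹ = x⁻¹ := by
    calc hh * x * hh⁻¹ = (c : X) * (g * x * g⁻¹) * (c : X)⁻¹ := by simp only [hh]; group
      _ = x⁻¹ := by
        rw [hinv, (mem_centralizer_singleton_iff.1 c.2 : (c : X) * x = x * c) |> fun e =>
          (Commute.inv_right (e : Commute (c : X) x)).eq, mul_inv_cancel_right]
  obtain ⟨h', ⟨e, he⟩, hz, hh'⟩ := exists_two_inverter hhinv
  have he0 : e ≠ 0 := fun h0 => ne_one_of_prime hp (by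
    rw [h0, pow_zero, orderOf_eq_one_iff] at he
    rw [he, one_mul, inv_one, mul_one] at hh'
    exact eq_one_of_inv_self hodd hh')
  set f := h' ^ 2 ^ (e - 1)
  have hf : orderOf f = 2 := by
    have e1 : 2 ^ e = 2 ^ (e - 1) * 2 := by rw [← pow_succ]; congr 1; omega
    rw [orderOf_pow_of_dvd (by positivity) (he ▸ pow_dvd_pow 2 (Nat.sub_le _ _)), he, e1,
      Nat.mul_div_cancel_left _ (by positivity)]
  have hfN : f ∈ normalizer ((R : Subgroup X) : Set X) := pow_mem (zpowers_le.2 hhN hz) _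
  -- a central element of order `r` in `R`
  have hRne : (R : Subgroup X) ≠ ⊥ := R.ne_bot_of_dvd_card (B.dvd_k.trans (by
    obtain ⟨P⟩ : Nonempty (Sylow 2 X) := inferInstance
    rw [P.card_eq_index_normalizer]; exact index_dvd_card _))
  haveI : Nontrivial (R : Subgroup X) := (Subgroup.nontrivial_iff_ne_bot _).2 hRne
  haveI : Nontrivial (center (R : Subgroup X)) := R.isPGroup'.center_nontrivial
  obtain ⟨k, hk0, hk⟩ := (R.isPGroup'.to_subgroup (center (R : Subgroup X))).nontrivial_iff_card.1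
    inferInstance
  obtain ⟨⟨⟨y, hyR⟩, hyc⟩, hyo⟩ := exists_prime_orderOf_dvd_card' (G := center (R : Subgroup X)) r
    (hk ▸ dvd_pow_self r hk0.ne')
  have hy : orderOf y = r := by rw [← hyo, Subgroup.orderOf_mk, Subgroup.orderOf_mk]
  have hycomm : ∀ w ∈ (R : Subgroup X), w * y = y * w := fun w hw =>
    congrArg Subtype.val (Subgroup.mem_center_iff.1 hyc ⟨w, hw⟩)
  have hff : f * f = 1 := by rw [← pow_two, ← hf, pow_orderOf_eq_one]
  have hfi : f⁻¹ = f := inv_eq_of_mul_eq_one_left hff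
  set y' := f * y * f⁻¹ with hy'
  have hy'R : y' ∈ (R : Subgroup X) := (Subgroup.mem_normalizer_iff.1 hfN y).1 hyR
  have hy'y : y' * y = y * y' := hycomm y' hy'R
  set m := y * y' with hm
  have hmf : m * f = f * m := by
    have : f * m * f⁻¹ = m := by
      calc f * m * f⁻¹ = (f * y * f⁻¹) * (f * f * y * (f * f)⁻¹) := by rw [hm, hy']; group
        _ = y' * y := by rw [hff, hy']; group
        _ = m := hy'y
    exact (mul_inv_eq_iff_eq_mul.1 this).symm
  have hm1 : m = 1 := by
    by_contra hne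
    have hmr : m ^ r = 1 := by
      rw [hm, (Commute.mul_pow (show Commute y y' from hy'y.symm)), hy', conj_pow, ← hy,
        pow_orderOf_eq_one]
      group
    exact B.not_commute_involution (orderOf_eq_prime hmr hne) hf hmf
  exact ⟨y, f, hy, (eq_inv_of_mul_eq_one_right hm1)⟩

theorem not_two : r ≠ 2 := by
  have := B.ppd.lt (by have := B.two_le_b; omega)
  have := B.two_le_b
  omega

theorem odd_r : Odd r := B.ppd.prime.odd_of_ne_two B.not_two

variable (hmin : ∀ N : Subgroup X, N.Normal → N ≠ ⊤ → Group.IsSolvable N)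
include hmin

theorem perfect : _root_.commutator X = ⊤ := by
  by_contra hc
  haveI := hmin _ (inferInstance) hc
  haveI : Group.IsSolvable (Abelianization X) :=
    Group.isSolvable_of_comm fun u v => mul_comm u v
  exact B.hyp.notSolv (Group.isSolvable_of_ker_le_range (_root_.commutator X).subtype
    (Abelianization.of) (by rw [Abelianization.ker_of, range_subtype]))

theorem pCore_central {s : ℕ} [hs : Fact s.Prime] (hs2 : Odd s) {f : X} (hf : orderOf f = 2)
    {w : X} (hw : w ∈ Cfsg.pCore s X) : f * w = w * f := by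
  classical
  haveI : Fact r.Prime := ⟨B.ppd.prime⟩
  obtain ⟨y, g, hy, hyinv⟩ := B.exists_real_r
  set E := Cfsg.pCore s X
  haveI hEn : E.Normal := inferInstance
  have hEp : IsPGroup s E := CfsgLib.Cores.isPGroup_pCore s
  by_contra hne
  have hff : f * f = 1 := by rw [← pow_two, ← hf, pow_orderOf_eq_one]
  have hfi : f⁻¹ = f := inv_eq_of_mul_eq_one_left hff
  set e0 := w * f * w⁻¹ * f⁻¹ with he0
  have he0E : e0 ∈ E := by
    have := mul_mem hw (hEn.conj_mem _ (inv_mem hw) f)
    rwa [show w * (f * w⁻¹ * f⁻¹) = e0 by rw [he0]; group] at this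
  have he01 : e0 ≠ 1 := fun h1 => hne (by
    rw [he0, mul_inv_eq_one, mul_inv_eq_iff_eq_mul] at h1
    exact h1.symm)
  have he0inv : f * e0 * f⁻¹ = e0⁻¹ := by
    rw [he0, mul_inv_rev, mul_inv_rev, mul_inv_rev, inv_inv, inv_inv, hfi]
    calc f * (w * f * w⁻¹ * f) * f = f * w * f * w⁻¹ * (f * f) := by group
      _ = _ := by rw [hff, mul_one]; group
  obtain ⟨i, hi⟩ := IsPGroup.iff_orderOf.1 hEp ⟨e0, he0E⟩
  rw [Subgroup.orderOf_mk] at hi
  obtain ⟨j, hjp, hjo, hj⟩ := exists_prime_power (hi ▸ hs2.pow) he01 he0inv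
  set e := e0 ^ j
  have heE : e ∈ E := pow_mem he0E j
  have hes : orderOf e = s := (Nat.prime_dvd_prime_iff_eq hjp hs.out).1
    (hjp.dvd_of_dvd_pow (hi ▸ orderOf_pow_dvd j))
  have hs1 : e ^ s = 1 := by rw [← hes, pow_orderOf_eq_one]
  -- the central elements of exponent `s` in `E`
  let Z : Subgroup X :=
    { carrier := {x | x ∈ E ∧ (∀ u ∈ E, x * u = u * x) ∧ x ^ s = 1}
      one_mem' := ⟨one_mem _, fun u _ => by rw [one_mul, mul_one], one_pow _⟩
      mul_mem' := fun {p q} hp hq => ⟨mul_mem hp.1 hq.1, fun u hu => by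
          rw [mul_assoc, hq.2.1 u hu, ← mul_assoc, hp.2.1 u hu, mul_assoc],
        by rw [(Commute.mul_pow (hp.2.1 q hq.1)), hp.2.2, hq.2.2, one_mul]⟩
      inv_mem' := fun {p} hp => ⟨inv_mem hp.1, fun u hu =>
          (Commute.inv_left (hp.2.1 u hu : Commute p u)).eq, by rw [inv_pow, hp.2.2, inv_one]⟩ }
  have hZn : Z.Normal := ⟨fun x hx c => ⟨hEn.conj_mem x hx.1 c, fun u hu => by
    have h2 := hx.2.1 _ (hEn.conj_mem' u hu c)
    calc c * x * c⁻¹ * u = c * (x * (c⁻¹ * u * c)) * c⁻¹ := by group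
      _ = c * ((c⁻¹ * u * c) * x) * c⁻¹ := by rw [h2]
      _ = _ := by group, by rw [conj_pow, hx.2.2]; group⟩⟩
  haveI : Nontrivial E := ⟨⟨⟨e0, he0E⟩, 1, fun h => he01 (congrArg Subtype.val h)⟩⟩
  haveI : Nontrivial (center E) := hEp.center_nontrivial
  obtain ⟨k, hk0, hk⟩ := (hEp.to_subgroup (center E)).nontrivial_iff_card.1 inferInstance
  obtain ⟨⟨⟨z, hzE⟩, hzc⟩, hzo⟩ := exists_prime_orderOf_dvd_card' (G := center E) s
    (hk ▸ dvd_pow_self s hk0.ne')
  rw [Subgroup.orderOf_mk, Subgroup.orderOf_mk] at hzo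
  have hzZ : z ∈ Z := ⟨hzE, fun u hu => (congrArg Subtype.val (Subgroup.mem_center_iff.1 hzc ⟨u, hu⟩)).symm,
    by rw [← hzo, pow_orderOf_eq_one]⟩
  have hZeq : Z = zpowers z := (Subgroup.eq_of_le_of_card_ge (zpowers_le.2 hzZ) (by
    rw [Nat.card_zpowers, hzo]
    exact B.card_le_of_normalized hy hs2 Z (fun x hx => hZn.conj_mem x hx y)
      (fun x hx x' hx' => hx.2.1 x' hx'.1) (fun x hx => hx.2.2))).symm
  -- `z` is central in the perfect group
  have hzcent : ∀ c : X, c * z = z * c := by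
    have hle : _root_.commutator X ≤ centralizer ({z} : Set X) := by
      rw [_root_.commutator_def, commutator_le]
      intro p _ q _
      obtain ⟨ip, hip⟩ := mem_zpowers_iff.1 (hZeq ▸ hZn.conj_mem z hzZ p⁻¹)
      obtain ⟨iq, hiq⟩ := mem_zpowers_iff.1 (hZeq ▸ hZn.conj_mem z hzZ q⁻¹)
      have hpq : p⁻¹ * q⁻¹ * z * (p⁻¹ * q⁻¹)⁻¹ = q⁻¹ * p⁻¹ * z * (q⁻¹ * p⁻¹)⁻¹ := by
        calc p⁻¹ * q⁻¹ * z * (p⁻¹ * q⁻¹)⁻¹ = p⁻¹ * (q⁻¹ * z * (q⁻¹)⁻¹) * (p⁻¹)⁻¹ := by group
          _ = (p⁻¹ * z * (p⁻¹)⁻¹) ^ iq := by rw [← hiq, conj_zpow]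
          _ = z ^ (ip * iq) := by rw [← hip, zpow_mul]
          _ = (q⁻¹ * z * (q⁻¹)⁻¹) ^ ip := by rw [← hiq, ← zpow_mul, mul_comm]
          _ = q⁻¹ * (p⁻¹ * z * (p⁻¹)⁻¹) * (q⁻¹)⁻¹ := by rw [← hip, conj_zpow]
          _ = _ := by group
      rw [mem_centralizer_singleton_iff, commutatorElement_def]
      calc p * q * p⁻¹ * q⁻¹ * z
          = p * q * (p⁻¹ * q⁻¹ * z * (p⁻¹ * q⁻¹)⁻¹) * (p⁻¹ * q⁻¹) := by group
        _ = p * q * (q⁻¹ * p⁻¹ * z * (q⁻¹ * p⁻¹)⁻¹) * (p⁻¹ * q⁻¹) := by rw [hpq]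
        _ = z * (p * q * p⁻¹ * q⁻¹) := by group
    intro c
    exact mem_centralizer_singleton_iff.1 (hle (B.perfect hmin ▸ mem_top c))
  -- a conjugate of `y` centralises `e`
  obtain ⟨R', hR'⟩ := B.exists_sylow_centralizer hjp hjo hj
  obtain ⟨R0, hR0⟩ := (IsPGroup.of_card (n := 1) (by rw [Nat.card_zpowers, hy, pow_one]) :
    IsPGroup r (zpowers y)).exists_le_sylow
  obtain ⟨c, hc⟩ := MulAction.exists_smul_eq X R0 R'
  set y' := c * y * c⁻¹
  have hy' : orderOf y' = r := (CfsgLib.Invol.orderOf_conj_eq c y).trans hy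
  have hy'e : y' ∈ centralizer ({e} : Set X) := hR' (by
    rw [← hc, Sylow.coe_subgroup_smul, CfsgLib.FGS.mem_conj_smul,
      show c⁻¹ * y' * c = y by simp only [y']; group]
    exact hR0 (mem_zpowers y))
  set Cy := centralizer ({y'} : Set X)
  have heC : e ∈ Cy := mem_centralizer_singleton_iff.2 (mem_centralizer_singleton_iff.1 hy'e).symm
  have hzC : z ∈ Cy := mem_centralizer_singleton_iff.2 (hzcent y').symm
  haveI := B.centralizer_cyclic hy'
  have hsub : ∀ u : Cy, (u : X) ^ s = 1 → u ∈ zpowers (⟨z, hzC⟩ : Cy) := by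
    intro u hu
    by_contra hnot
    haveI := Fintype.ofFinite Cy
    have hsub : insert u ((zpowers (⟨z, hzC⟩ : Cy) : Set Cy).toFinset) ⊆
        Finset.univ.filter fun v : Cy => v ^ s = 1 := by
      intro v hv
      rw [Finset.mem_insert] at hv
      rw [Finset.mem_filter]
      refine ⟨Finset.mem_univ v, ?_⟩
      rcases hv with rfl | hv
      · exact Subtype.ext (by simpa using hu)
      · obtain ⟨i, rfl⟩ := mem_zpowers_iff.1 (by simpa using hv)
        rw [← zpow_natCast, ← zpow_mul, mul_comm, zpow_mul, zpow_natCast,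
          show (⟨z, hzC⟩ : Cy) ^ s = 1 from Subtype.ext (by simpa using hzZ.2.2), one_zpow]
    have h1 := Finset.card_le_card hsub
    rw [Finset.card_insert_of_notMem (by simpa using hnot), Set.toFinset_card,
      ← Nat.card_eq_fintype_card] at h1
    have h2 : Nat.card (zpowers (⟨z, hzC⟩ : Cy)) = s := by
      rw [Nat.card_zpowers, Subgroup.orderOf_mk, hzo]
    have h3 := IsCyclic.card_pow_eq_one_le (α := Cy) hs.out.pos
    rw [show Nat.card ((zpowers (⟨z, hzC⟩ : Cy) : Set Cy)) = s from h2] at h1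
    omega
  obtain ⟨i', hi'⟩ := mem_zpowers_iff.1 (hsub ⟨e, heC⟩ hs1)
  have he : e = z ^ i' := by rw [show e = ((⟨e, heC⟩ : Cy) : X) from rfl, ← hi']; simp
  refine ne_one_of_prime hjp (eq_one_of_conj_conj hjo hj ?_)
  rw [he]
  exact (Commute.zpow_right (hzcent f : Commute f z) i').eq

theorem normal_le_center {S : Subgroup X} (hS : S.Normal) (hne : S ≠ ⊤) : S ≤ center X := by
  classical
  haveI : Fact (Nat.Prime 2) := ⟨Nat.prime_two⟩
  haveI := hS
  have key : ∀ (T : Subgroup X) [T.Normal], Group.IsSolvable T → ∀ w : T,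
      (∀ q : ℕ, q.Prime → Odd q → ∀ v ∈ Cfsg.pCore q X, (w : X) * v = v * w) →
      w ∈ Cfsg.fittingSubgroup T ∧ ∀ v ∈ Cfsg.fittingSubgroup T, (v : X) * w = w * v := by
    intro T _ hT w hw
    haveI := hT
    have h2 : Cfsg.pCore 2 T = ⊥ := by
      haveI := CfsgLib.Cores.map_subtype_pCore_normal 2 T
      have := B.hyp.core _ inferInstance ((CfsgLib.Cores.isPGroup_pCore (G := T) 2).map T.subtype)
      rwa [Subgroup.map_eq_bot_iff_of_injective _ T.subtype_injective] at this
    have hle : Cfsg.fittingSubgroup T ≤ centralizer ({w} : Set T) := by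
      rw [CfsgLib.Cores.fittingSubgroup_eq_iSup_pCore]
      refine iSup_le fun q => ?_
      have hq := Nat.prime_of_mem_primeFactors q.2
      rcases hq.eq_two_or_odd' with e | e
      · rw [e, h2]; exact bot_le
      intro v hv
      refine mem_centralizer_singleton_iff.2 (Subtype.ext (hw q hq e v ?_).symm)
      haveI : Fact (q : ℕ).Prime := ⟨hq⟩
      exact CfsgLib.Cores.map_subtype_pCore_le_of_normal (q : ℕ) T (mem_map_of_mem _ hv)
    refine ⟨CfsgLib.Solvable.centralizer_fittingSubgroup_le (fun v hv =>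
      mem_centralizer_singleton_iff.1 (hle hv)), fun v hv =>
        congrArg Subtype.val (mem_centralizer_singleton_iff.1 (hle hv))⟩
  -- the involutions generate `X`
  let I := normalClosure {f : X | orderOf f = 2}
  have hI : I = ⊤ := by
    by_contra hI
    obtain ⟨f, hf⟩ := B.hyp.exists_involution
    have hfI : f ∈ I := subset_normalClosure hf
    have hT := hmin I inferInstance hI
    obtain ⟨hmem, -⟩ := key I hT ⟨f, hfI⟩ fun q hq hqo v hv =>
      haveI : Fact q.Prime := ⟨hq⟩
      B.pCore_central hmin hqo hf hv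
    haveI := hT
    have h2 : Cfsg.pCore 2 I = ⊥ := by
      haveI := CfsgLib.Cores.map_subtype_pCore_normal 2 I
      have := B.hyp.core _ inferInstance ((CfsgLib.Cores.isPGroup_pCore (G := I) 2).map I.subtype)
      rwa [Subgroup.map_eq_bot_iff_of_injective _ I.subtype_injective] at this
    haveI : Group.IsNilpotent (Cfsg.fittingSubgroup I) := CfsgLib.Cores.isNilpotent_fittingSubgroup
    haveI : (Cfsg.fittingSubgroup I).Normal := CfsgLib.Cores.fittingSubgroup_normal
    have hsub : Cfsg.pCore 2 (Cfsg.fittingSubgroup I) = ⊥ := by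
      haveI := CfsgLib.Cores.map_subtype_pCore_normal 2 (Cfsg.fittingSubgroup I)
      refine (Subgroup.map_eq_bot_iff_of_injective _ (Cfsg.fittingSubgroup I).subtype_injective).1
        (eq_bot_iff.2 (h2 ▸ CfsgLib.Cores.map_subtype_pCore_le_of_normal 2 _))
    obtain ⟨P, hP⟩ := (CfsgLib.FGS.isPGroup_zpowers (p := 2) (k := 1)
      (u := (⟨⟨f, hfI⟩, hmem⟩ : Cfsg.fittingSubgroup I))
      (by rw [Subgroup.orderOf_mk, Subgroup.orderOf_mk, pow_one]; exact hf)).exists_le_sylow
    haveI : (P : Subgroup (Cfsg.fittingSubgroup I)).Normal := inferInstance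
    have h1 := hP (mem_zpowers _)
    rw [← CfsgLib.Cores.pCore_eq_of_normal_sylow P, hsub, mem_bot] at h1
    have h1 : f = 1 := congrArg (fun u : Cfsg.fittingSubgroup I => ((u : I) : X)) h1
    rw [h1] at hf
    simp at hf
  intro w hw
  haveI hT := hmin S hS hne
  have hcent : ∀ q : ℕ, q.Prime → Odd q → ∀ v ∈ Cfsg.pCore q X, ∀ c : X, c * v = v * c := by
    intro q hq hqo v hv c
    haveI : Fact q.Prime := ⟨hq⟩
    have hle : I ≤ centralizer ((Cfsg.pCore q X : Subgroup X) : Set X) :=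
      normalClosure_le_normal fun f hf => mem_centralizer_iff.2 fun v hv =>
        (B.pCore_central hmin hqo hf hv).symm
    exact ((mem_centralizer_iff.1 (hle (hI ▸ mem_top c))) v hv).symm
  rw [Subgroup.mem_center_iff]
  -- `S` centralises its Fitting subgroup, so lies in it
  have hfit : ∀ u : S, u ∈ Cfsg.fittingSubgroup S := fun u =>
    (key S hT u fun q hq hqo v hv => hcent q hq hqo v hv u).1
  haveI : Group.IsNilpotent (Cfsg.fittingSubgroup S) := CfsgLib.Cores.isNilpotent_fittingSubgroup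
  have htop : (⊤ : Subgroup S) ≤ ((center X).subgroupOf S) := by
    have e : (⊤ : Subgroup S) = Cfsg.fittingSubgroup S := (eq_top_iff.2 fun u _ => hfit u).symm
    rw [e, CfsgLib.Cores.fittingSubgroup_eq_iSup_pCore]
    refine iSup_le fun q => ?_
    have hq := Nat.prime_of_mem_primeFactors q.2
    haveI : Fact (q : ℕ).Prime := ⟨hq⟩
    have hle : (Cfsg.pCore (q : ℕ) S).map S.subtype ≤ Cfsg.pCore (q : ℕ) X :=
      CfsgLib.Cores.map_subtype_pCore_le_of_normal _ S
    rcases hq.eq_two_or_odd' with e | e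
    · have hb : Cfsg.pCore (q : ℕ) X = ⊥ := by
        rw [e]; exact B.hyp.core _ inferInstance (CfsgLib.Cores.isPGroup_pCore 2)
      rw [hb, le_bot_iff, Subgroup.map_eq_bot_iff_of_injective _ S.subtype_injective] at hle
      rw [hle]; exact bot_le
    · intro u hu
      exact mem_subgroupOf.2 (Subgroup.mem_center_iff.2 (hcent q hq e _ (hle (mem_map_of_mem _ hu))))
  exact Subgroup.mem_center_iff.1 (mem_subgroupOf.1 (htop (mem_top ⟨w, hw⟩)))

theorem false_of_big (hl : 1 < l) : False := by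
  classical
  haveI : Fact r.Prime := ⟨B.ppd.prime⟩
  haveI : Fact (Nat.Prime 2) := ⟨Nat.prime_two⟩
  obtain ⟨y, g, hy, hyinv⟩ := B.exists_real_r
  have hyp : (orderOf y).Prime := hy ▸ B.ppd.prime
  have hyodd : Odd (orderOf y) := hy ▸ B.odd_r
  haveI := B.centralizer_cyclic hy
  let _ : CommGroup (centralizer ({y} : Set X)) := IsCyclic.commGroup
  -- the action on Sylow subgroups
  let ψ : X →* Equiv.Perm (Sylow 2 X) := MulAction.toPermHom X (Sylow 2 X)
  set G := ψ.range
  let Ω := Sylow 2 X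
  haveI : Nontrivial Ω := Finite.one_lt_card_iff_nontrivial.1 B.hyp.one_lt_card_sylow
  let πg : X →* G := ψ.rangeRestrict
  have hact : ∀ (x : X) (P : Ω), πg x • P = x • P := fun x P => rfl
  have hsurj : Function.Surjective πg := ψ.rangeRestrict_surjective
  have htransX : MulAction.IsPretransitive X Ω := inferInstance
  haveI htrans : MulAction.IsPretransitive G Ω := ⟨fun P Q => by
    obtain ⟨x, hx⟩ := MulAction.exists_smul_eq X P Q
    exact ⟨πg x, by rw [hact, hx]⟩⟩
  obtain ⟨P₀⟩ : Nonempty Ω := inferInstanceAs (Nonempty (Sylow 2 X))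
  -- primitivity
  have hprimX : MulAction.IsPreprimitive X Ω := by
    rw [← MulAction.isCoatom_stabilizer_iff_preprimitive X P₀]
    set N := MulAction.stabilizer X P₀ with hN
    refine ⟨fun htop => ?_, fun M hM => ?_⟩
    · have h1 := B.hyp.one_lt_card_sylow
      haveI : Subsingleton (Sylow 2 X) := ⟨fun Q R => by
        obtain ⟨q, rfl⟩ := MulAction.exists_smul_eq X P₀ Q
        obtain ⟨q', rfl⟩ := MulAction.exists_smul_eq X P₀ R
        rw [show q • P₀ = P₀ from MulAction.mem_stabilizer_iff.1 (hN ▸ htop ▸ mem_top q),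
          show q' • P₀ = P₀ from MulAction.mem_stabilizer_iff.1 (hN ▸ htop ▸ mem_top q')]⟩
      have := Finite.card_le_one_iff_subsingleton.2 this
      omega
    by_contra hMtop
    have hP : (P₀ : Subgroup X) ≤ M := by
      refine le_trans ?_ hM.le
      intro p hp
      exact MulAction.mem_stabilizer_iff.2 (Sylow.smul_eq_iff_mem_normalizer.2 (le_normalizer hp))
    have hnr : ¬ NoReal M := by
      intro hNR
      refine not_le_of_gt hM fun x hx => MulAction.mem_stabilizer_iff.2
        (Sylow.smul_eq_iff_mem_normalizer.2 (hNR.le_normalizer P₀ hP hx))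
    unfold NoReal at hnr
    push Not at hnr
    obtain ⟨z, hz, c, hc, hzo, hzc, hz1⟩ := hnr
    obtain ⟨j, hjp, hjo, hj⟩ := exists_prime_power hzo hz1 hzc
    set x := z ^ j
    have hxM : x ∈ M := pow_mem hz j
    have hncl : normalClosure {x} ≤ M := by
      have hgen : ∀ u : X, u * x * u⁻¹ ∈ M := by
        intro u
        obtain ⟨d, hd, hdP⟩ := B.hyp.centralizer_transitive hjp hjo hj (u⁻¹ • P₀) P₀
        -- `d * u⁻¹` fixes `P₀`
        have hmem : d * u⁻¹ ∈ M := hM.le (MulAction.mem_stabilizer_iff.2 (by rw [mul_smul, hdP]))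
        have e : u * x * u⁻¹ = (d * u⁻¹)⁻¹ * x * (d * u⁻¹) := by
          have hdx := mem_centralizer_singleton_iff.1 hd
          calc u * x * u⁻¹ = u * d⁻¹ * (d * x) * u⁻¹ := by group
            _ = u * d⁻¹ * (x * d) * u⁻¹ := by rw [hdx]
            _ = _ := by group
        rw [e]
        exact mul_mem (mul_mem (inv_mem hmem) hxM) hmem
      refine (Subgroup.closure_le _).2 fun v hv => ?_
      obtain ⟨x', hx', hconj⟩ := Group.mem_conjugatesOfSet_iff.1 hv
      rw [Set.mem_singleton_iff.1 hx'] at hconj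
      obtain ⟨u, rfl⟩ := isConj_iff.1 hconj
      exact hgen u
    have hne : normalClosure {x} ≠ ⊤ := fun e => hMtop (top_le_iff.1 (e ▸ hncl))
    have hxc := B.normal_le_center hmin inferInstance hne (subset_normalClosure (Set.mem_singleton x))
    exact ne_one_of_prime hjp (eq_one_of_conj_conj hjo hj (Subgroup.mem_center_iff.1 hxc c))
  have hprim : MulAction.IsPreprimitive G Ω := by
    let f : Ω →ₑ[(πg : X → G)] Ω := { toFun := id, map_smul' := fun x P => (hact x P).symm }
    exact MulAction.IsPreprimitive.of_surjective (f := f) Function.surjective_id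
  -- a regular cyclic subgroup
  let C : Subgroup G := (centralizer ({y} : Set X)).map πg
  have hcyc : IsCyclic C := isCyclic_of_surjective (πg.subgroupMap (centralizer ({y} : Set X)))
    (πg.subgroupMap_surjective _)
  have hCtrans : MulAction.IsPretransitive C Ω := ⟨fun P Q => by
    obtain ⟨c, hc, hcPQ⟩ := B.hyp.centralizer_transitive hyp hyodd hyinv P Q
    exact ⟨⟨πg c, mem_map_of_mem _ hc⟩, hcPQ⟩⟩
  have hreg : ∀ P : Ω, MulAction.stabilizer C P = ⊥ := by
    intro P
    rw [Subgroup.eq_bot_iff_forall]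
    rintro ⟨c, hc⟩ hfix
    refine Subtype.ext (Subtype.ext (Equiv.ext fun Q => ?_))
    obtain ⟨⟨d, hd⟩, hdQ⟩ := MulAction.exists_smul_eq C P Q
    obtain ⟨c', hc', rfl⟩ := hc
    obtain ⟨d', hd', rfl⟩ := hd
    have h1 : c' • P = P := hfix
    have h2 : d' • P = Q := hdQ
    show c' • Q = Q
    rw [← h2, smul_smul, show c' * d' = d' * c' from
      congrArg Subtype.val (mul_comm (⟨c', hc'⟩ : centralizer ({y} : Set X)) ⟨d', hd'⟩), mul_smul, h1]
  have hk : Nat.card Ω = l * (2 ^ b + 1) := B.data.k_eq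
  have hnp : ¬ IsPrimePow (Nat.card Ω) := by
    rw [hk]
    intro hpp
    have hcop : l.Coprime (2 ^ b + 1) := by
      have hl' : l ∣ 2 ^ b - 1 := Dvd.intro _ B.data.eq
      show Nat.gcd l (2 ^ b + 1) = 1
      · have h1 := (Nat.gcd_dvd_left l (2 ^ b + 1)).trans hl'
        have h2 := Nat.gcd_dvd_right l (2 ^ b + 1)
        have h3 : Nat.gcd l (2 ^ b + 1) ∣ 2 := by
          have := Nat.dvd_sub h2 h1
          rwa [show 2 ^ b + 1 - (2 ^ b - 1) = 2 by have := Nat.one_le_two_pow (n := b); omega] at this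
        rcases (Nat.dvd_prime Nat.prime_two).1 h3 with e | e
        · exact e
        · rw [e] at h2
          have hev : Even (2 ^ b) := (Nat.even_pow).2 ⟨even_two, by have := B.two_le_b; omega⟩
          exact absurd (even_iff_two_dvd.2 h2) (Nat.not_even_iff_odd.2 hev.add_one)
    obtain ⟨p, k, hp, hk0, hpk⟩ := (isPrimePow_nat_iff _).1 hpp
    have hp1 := (Nat.exists_prime_and_dvd (show l ≠ 1 by omega))
    obtain ⟨p1, hp1, hp1d⟩ := hp1
    obtain ⟨p2, hp2, hp2d⟩ := Nat.exists_prime_and_dvd (show 2 ^ b + 1 ≠ 1 by have := Nat.two_pow_pos b; omega)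
    have e1 : p1 = p := (Nat.prime_dvd_prime_iff_eq hp1 hp).1
      (hp1.dvd_of_dvd_pow (hpk ▸ dvd_mul_of_dvd_left hp1d _))
    have e2 : p2 = p := (Nat.prime_dvd_prime_iff_eq hp2 hp).1
      (hp2.dvd_of_dvd_pow (hpk ▸ dvd_mul_of_dvd_right hp2d _))
    subst e1; subst e2
    exact hp1.not_dvd_one (hcop ▸ Nat.dvd_gcd hp1d hp2d)
  haveI : FaithfulSMul G Ω := ⟨fun {u v} huv => Subtype.ext (Equiv.ext huv)⟩
  have h2t : MulAction.IsMultiplyPretransitive G Ω 2 :=
    (Cfsg.Agent.S3559.result (G := G) (Ω := Ω) htrans B.hyp.one_lt_card_sylow hnp C hcyc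
      ⟨hCtrans, hreg⟩).resolve_left (not_not.2 hprim)
  -- the point stabilisers of the normal subgroups `P`
  let k := Nat.card Ω
  have hstab : ∀ P Q : Ω, Q ≠ P →
      Nat.card ((P : Subgroup X) ⊓ (Q : Subgroup X) : Subgroup X) * 2 ^ a = Nat.card (P : Subgroup X) := by
    intro P Q hQP
    set N := MulAction.stabilizer X P with hN
    set N2 := N ⊓ MulAction.stabilizer X Q
    set E := ((P : Subgroup X) ⊓ (Q : Subgroup X) : Subgroup X)
    have horb : (N2.subgroupOf N).index + 1 = k := by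
      have e1 : (N2.subgroupOf N) = MulAction.stabilizer N Q := by
        ext ⟨x, hx⟩
        simp only [mem_subgroupOf, MulAction.mem_stabilizer_iff]
        exact ⟨fun h => h.2, fun h => ⟨hx, h⟩⟩
      rw [e1, MulAction.index_stabilizer]
      have hset : MulAction.orbit N Q = {R : Ω | R ≠ P} := by
        ext R
        constructor
        · rintro ⟨⟨x, hx⟩, rfl⟩ e
          exact hQP (smul_left_cancel x (e.trans (MulAction.mem_stabilizer_iff.1 hx).symm))
        · intro hR
          obtain ⟨u, hu1, hu2⟩ := MulAction.is_two_pretransitive_iff.1 h2t hQP.symm (Ne.symm hR)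
          obtain ⟨x, rfl⟩ := hsurj u
          exact ⟨⟨x, MulAction.mem_stabilizer_iff.2 hu1⟩, hu2⟩
      rw [hset, ← Nat.card_coe_set_eq]
      exact card_ne_point P
    have hNn : ∀ R : Ω, (MulAction.stabilizer X R) = normalizer ((R : Subgroup X) : Set X) :=
      fun R => Sylow.stabilizer_eq_normalizer R
    have hEN2 : E ≤ N2 := le_inf (inf_le_left.trans (le_normalizer.trans (hNn P).ge))
      (inf_le_right.trans (le_normalizer.trans (hNn Q).ge))
    have hodd1 : Odd ((P : Subgroup X).subgroupOf N).index := by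
      rw [Nat.odd_iff, ← Nat.two_dvd_ne_zero]
      exact (P.subtype (le_normalizer.trans (hNn P).ge)).not_dvd_index
    have hodd2 : Odd (E.subgroupOf N2).index := by
      have e : E.subgroupOf N2 = ((P : Subgroup X).subgroupOf N2) := by
        ext ⟨x, hx⟩
        simp only [mem_subgroupOf]
        refine ⟨fun h => h.1, fun h => ⟨h, ?_⟩⟩
        obtain ⟨i, hi⟩ := IsPGroup.iff_orderOf.1 P.isPGroup' ⟨x, h⟩
        exact CfsgLib.FGS.mem_of_mem_normalizer Q ⟨i, by rw [← hi, Subgroup.orderOf_mk]⟩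
          ((hNn Q).le hx.2)
      rw [e]
      refine hodd1.of_dvd_nat ?_
      haveI : ((P : Subgroup X).subgroupOf N).Normal :=
        (Subgroup.normal_subgroupOf_iff_le_normalizer (le_normalizer.trans (hNn P).ge)).2 (hNn P).le
      have := Subgroup.relIndex_dvd_index_of_normal ((P : Subgroup X).subgroupOf N) (N2.subgroupOf N)
      rwa [Subgroup.relIndex_subgroupOf inf_le_left] at this
    have hPc := ((P : Subgroup X).subgroupOf N).card_mul_index
    rw [Nat.card_congr (subgroupOfEquivOfLe (le_normalizer.trans (hNn P).ge)).toEquiv] at hPc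
    have hN2c := (N2.subgroupOf N).card_mul_index
    rw [Nat.card_congr (subgroupOfEquivOfLe (inf_le_left : N2 ≤ N)).toEquiv] at hN2c
    have hEc := (E.subgroupOf N2).card_mul_index
    rw [Nat.card_congr (subgroupOfEquivOfLe hEN2).toEquiv] at hEc
    obtain ⟨cP, hcP⟩ := IsPGroup.iff_card.1 P.isPGroup'
    obtain ⟨cE, hcE⟩ := IsPGroup.iff_card.1 (P.isPGroup'.to_le (inf_le_left : E ≤ (P : Subgroup X)))
    rw [hcP, hcE]
    rw [hcP] at hPc
    rw [hcE] at hEc
    rw [← hPc, ← hEc] at hN2c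
    set A := ((P : Subgroup X).subgroupOf N).index
    set A' := (E.subgroupOf N2).index
    set J := (N2.subgroupOf N).index
    have hJ : J * (2 ^ a - 1) = 2 ^ a * (2 ^ (2 * b - a) - 1) := by
      have h1 : k * (2 ^ a - 1) = 2 ^ (2 * b) - 1 := B.data.k_mul
      have hab : a ≤ 2 * b := (Nat.pow_le_pow_iff_right (show 1 < 2 by norm_num)).1
        (by rw [← B.data.syl P, ← B.data.cardU]; exact Nat.card_le_card_of_injective _ Subtype.val_injective)
      rw [← horb, add_mul, one_mul] at h1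
      rw [Nat.mul_sub (2 ^ a) (2 ^ (2 * b - a)) 1, mul_one, ← pow_add, Nat.add_sub_cancel' hab]
      have := Nat.one_le_two_pow (n := a)
      omega
    have hlt : a < 2 * b := by
      have h1 := B.data.eq
      by_contra hc
      have h4 := Nat.pow_le_pow_right (show 0 < 2 by norm_num) (not_lt.1 hc)
      have h5 : 2 * (2 ^ a - 1) ≤ l * (2 ^ a - 1) := Nat.mul_le_mul_right _ hl
      have h6 : 2 ^ b ≤ 2 ^ (2 * b) := Nat.pow_le_pow_right (by norm_num) (by omega)
      have := Nat.pow_le_pow_right (show 0 < 2 by norm_num) B.data.one_le_a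
      omega
    have key : 2 ^ cP * (A * (2 ^ a - 1)) = 2 ^ (cE + a) * (A' * (2 ^ (2 * b - a) - 1)) := by
      rw [← mul_assoc, ← hN2c, pow_add]
      linear_combination (2 ^ cE * A') * hJ
    have hoddsub : ∀ e : ℕ, e ≠ 0 → Odd (2 ^ e - 1) := fun e he =>
      Nat.Even.sub_odd Nat.one_le_two_pow ((Nat.even_pow).2 ⟨even_two, he⟩) odd_one
    have := two_pow_eq (hodd1.mul (hoddsub a (by have := B.data.one_le_a; omega)))
      (hodd2.mul (hoddsub (2 * b - a) (by omega))) key
    rw [← pow_add, this, add_comm]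
  -- the orbit count of `P` on `U`
  obtain ⟨P⟩ : Nonempty (Sylow 2 X) := inferInstance
  obtain ⟨Q, hQP⟩ := exists_ne (α := Ω) P
  set e := Nat.card ((P : Subgroup X) ⊓ (Q : Subgroup X) : Subgroup X)
  haveI := Fintype.ofFinite U
  haveI := Fintype.ofFinite (P : Subgroup X)
  have hstabU : ∀ u : U, Nat.card {p : (P : Subgroup X) // (p : X) • u = u} =
      if u ∈ fixSet X U ((P : Subgroup X) : Set X) then Nat.card (P : Subgroup X) else e := by
    intro u
    split_ifs with hu
    · exact Nat.card_congr (Equiv.subtypeUnivEquiv fun p => mem_fixSet.1 hu _ p.2)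
    · obtain ⟨R, hR⟩ := B.hyp.fix u
      have hu0 : u ≠ 0 := fun h0 => hu (h0 ▸ zero_mem _)
      have hRP : R ≠ P := fun h0 => hu (by subst h0; exact hR)
      have h1 : Nat.card ((P : Subgroup X) ⊓ (R : Subgroup X) : Subgroup X) = e :=
        Nat.eq_of_mul_eq_mul_right (Nat.two_pow_pos a) ((hstab P R hRP).trans (hstab P Q hQP).symm)
      rw [← h1]
      refine Nat.card_congr
        { toFun := fun p => ⟨(p : X), p.1.2, ?_⟩
          invFun := fun w => ⟨⟨w, w.2.1⟩, mem_fixSet.1 hR _ w.2.2⟩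
          left_inv := fun p => rfl
          right_inv := fun w => rfl }
      obtain ⟨i, hi⟩ := IsPGroup.iff_orderOf.1 P.isPGroup' p.1
      exact B.hyp.mem_sylow_of_fix hu0 R hR ⟨i, by rw [← hi, Subgroup.orderOf_coe]⟩ p.2
  have hfix : ∀ p : (P : Subgroup X), Nat.card {u : U // (p : X) • u = u} ≤
      if p = 1 then 2 ^ (2 * b) else 2 ^ b := by
    intro p
    split_ifs with hp
    · rw [← B.data.cardU]; exact Nat.card_le_card_of_injective _ Subtype.val_injective
    · obtain ⟨i, hi⟩ := IsPGroup.iff_orderOf.1 P.isPGroup' p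
      have hi0 : i ≠ 0 := fun h0 => hp (orderOf_eq_one_iff.1 (by rw [hi, h0, pow_zero]))
      set s := (p : X) ^ 2 ^ (i - 1)
      have hs : orderOf s = 2 := by
        have hpo : orderOf (p : X) = 2 ^ i := by rw [Subgroup.orderOf_coe, hi]
        have e1 : 2 ^ i = 2 ^ (i - 1) * 2 := by rw [← pow_succ]; congr 1; omega
        rw [orderOf_pow_of_dvd (by positivity) (hpo ▸ pow_dvd_pow 2 (Nat.sub_le _ _)), hpo, e1,
          Nat.mul_div_cancel_left _ (by positivity)]
      rw [← B.data.inv s hs]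
      refine Nat.card_le_card_of_injective (fun u => ⟨(u : U), mem_fixSet_singleton.2
        (MulAction.mem_stabilizer_iff.1 (pow_mem (MulAction.mem_stabilizer_iff.2 u.2) _))⟩) ?_
      intro u v huv
      exact Subtype.ext (congrArg Subtype.val huv :)
  have hswap : ∑ p : (P : Subgroup X), Nat.card {u : U // (p : X) • u = u} =
      ∑ u : U, Nat.card {p : (P : Subgroup X) // (p : X) • u = u} := by
    simp only [Nat.card_eq_fintype_card, Fintype.card_subtype, Finset.card_filter]
    exact Finset.sum_comm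
  have hsum := Finset.sum_le_sum (s := Finset.univ) fun p _ => hfix p
  rw [hswap, Finset.sum_congr rfl fun u _ => hstabU u, Finset.sum_ite, Finset.sum_ite,
    Finset.filter_eq', if_pos (Finset.mem_univ _), Finset.sum_singleton, Finset.sum_const,
    Finset.sum_const, Finset.sum_const, smul_eq_mul, smul_eq_mul, smul_eq_mul,
    Finset.filter_ne', Finset.card_erase_of_mem (Finset.mem_univ _), Finset.card_univ] at hsum
  have hF0 : (Finset.univ.filter fun u : U => u ∈ fixSet X U ((P : Subgroup X) : Set X)).card = 2 ^ a := by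
    rw [← B.data.syl P, Nat.card_eq_fintype_card, ← Fintype.card_subtype]
  have hall : (Finset.univ.filter fun u : U => u ∈ fixSet X U ((P : Subgroup X) : Set X)).card +
      (Finset.univ.filter fun u : U => ¬ u ∈ fixSet X U ((P : Subgroup X) : Set X)).card = 2 ^ (2 * b) := by
    rw [Finset.card_filter_add_card_filter_not, Finset.card_univ, ← Nat.card_eq_fintype_card, B.data.cardU]
  rw [hF0] at hsum hall
  set T := (Finset.univ.filter fun u : U => ¬ u ∈ fixSet X U ((P : Subgroup X) : Set X)).card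
  have hPe : Nat.card (P : Subgroup X) = e * 2 ^ a := (hstab P Q hQP).symm
  rw [← Nat.card_eq_fintype_card, hPe] at hsum
  have he1 : e = 1 := by
    have he0 : 0 < e := Nat.card_pos
    by_contra hne
    have h2q : 2 * 2 ^ a ≤ 2 ^ b := by
      have hab : a < b := by
        by_contra hc
        have h1 := B.data.eq
        have h4 := Nat.pow_le_pow_right (show 0 < 2 by norm_num) (not_lt.1 hc)
        have h5 : 2 * (2 ^ a - 1) ≤ l * (2 ^ a - 1) := Nat.mul_le_mul_right _ hl
        have := Nat.pow_le_pow_right (show 0 < 2 by norm_num) B.data.one_le_a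
        have := Nat.pow_le_pow_right (show 0 < 2 by norm_num) (show 1 ≤ b by have := B.two_le_b; omega)
        omega
      calc 2 * 2 ^ a = 2 ^ (a + 1) := by rw [pow_succ]; ring
        _ ≤ 2 ^ b := Nat.pow_le_pow_right (by norm_num) hab
    rw [show 2 ^ (2 * b) = 2 ^ b * 2 ^ b by rw [← pow_add]; congr 1; omega] at hsum hall
    set q := 2 ^ b
    set c := 2 ^ a
    have hc0 : 0 < c := Nat.two_pow_pos a
    obtain ⟨w, hw⟩ : ∃ w, e * c = w + 1 := ⟨e * c - 1, by
      have := Nat.mul_pos he0 hc0; omega⟩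
    rw [hw, Nat.add_sub_cancel] at hsum
    rw [← hw] at hsum
    have he2 : 2 ≤ e := by omega
    -- `e (c c + q q - c) ≤ q q + (e c - 1) q`
    have hmono : 2 * (c * c + T) + (q + 0) ≤ q * q + q * (2 * c) := by
      zify at hsum hall hw h2q ⊢
      have hid : (e : ℤ) * ((c : ℤ) * c + T - q * c) ≤ q * q - q := by nlinarith
      have hpos : (0 : ℤ) ≤ (c : ℤ) * c + T - q * c := by nlinarith
      have hm : 2 * ((c : ℤ) * c + T - q * c) ≤ (e : ℤ) * ((c : ℤ) * c + T - q * c) :=
        mul_le_mul_of_nonneg_right (by exact_mod_cast he2) hpos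
      linarith
    zify at hmono hall h2q
    nlinarith
  -- so an involution lies in only one Sylow subgroup
  obtain ⟨s, hs⟩ := B.hyp.exists_involution
  have hc := B.data.cont s hs
  have hsub : Subsingleton {R : Sylow 2 X // s ∈ (R : Subgroup X)} := ⟨fun R R' => by
    by_contra hne
    have hne' : (R'.1 : Ω) ≠ R.1 := fun h0 => hne (Subtype.ext h0.symm)
    have h1 := hstab R.1 R'.1 hne'
    have h2 : Nat.card ((R.1 : Subgroup X) ⊓ (R'.1 : Subgroup X) : Subgroup X) = e := by
      refine Nat.eq_of_mul_eq_mul_right (Nat.two_pow_pos a) (h1.trans ?_)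
      rw [R.1.card_eq_multiplicity, ← P.card_eq_multiplicity, hPe]
    rw [he1, Subgroup.card_eq_one] at h2
    have : s ∈ ((R.1 : Subgroup X) ⊓ (R'.1 : Subgroup X) : Subgroup X) := ⟨R.2, R'.2⟩
    rw [h2, mem_bot] at this
    rw [this, orderOf_one] at hs
    exact absurd hs (by norm_num)⟩
  have := Finite.card_le_one_iff_subsingleton.2 hsub
  omega

end Big

end CfsgLib.FGS.RealGraph
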