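import Cfsg.Agent.Lib.FGS.RealGraph.Count

/-!
# The six-dimensional case, where `2 ^ 6 - 1` has no primitive prime divisor
-/

namespace CfsgLib.FGS.RealGraph

open Subgroup

variable {X : Type*} [Group X] {U : Type*} [AddCommGroup U] [DistribMulAction X U]

theorem two_elt_sylow [Finite X] (P : Sylow 2 X) {p : X} (hp : p ∈ (P : Subgroup X)) :
    ∃ a, orderOf p = 2 ^ a := by
  haveI : Fact (Nat.Prime 2) := ⟨Nat.prime_two⟩
  obtain ⟨a, ha⟩ := IsPGroup.iff_orderOf.1 P.isPGroup' ⟨p, hp⟩
  exact ⟨a, by rw [← ha, Subgroup.orderOf_mk]⟩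

theorem exists_involution_of_ne_bot [Finite X] {H : Subgroup X} (hH : IsPGroup 2 H) (h1 : H ≠ ⊥) :
    ∃ s ∈ H, orderOf s = 2 := by
  haveI : Fact (Nat.Prime 2) := ⟨Nat.prime_two⟩
  haveI := (Subgroup.nontrivial_iff_ne_bot H).2 h1
  obtain ⟨k, hk0, hk⟩ := hH.nontrivial_iff_card.1 inferInstance
  obtain ⟨⟨s, hs⟩, hso⟩ := exists_prime_orderOf_dvd_card' (G := H) 2 (hk ▸ dvd_pow_self 2 hk0.ne')
  exact ⟨s, hs, by rw [← hso, Subgroup.orderOf_mk]⟩

/-- No real element of order 7 acts on three-dimensional spaces over the field with two elements. -/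
theorem no_seven (H : Subgroup X) [Finite H] (F : AddSubgroup U) [Finite F]
    (two : ∀ u : U, u + u = 0) (hinv : ∀ c ∈ H, ∀ u ∈ F, c • u ∈ F) (hF : Nat.card F = 8)
    {z g : X} (hzH : z ∈ H) (hgH : g ∈ H) (hz : orderOf z = 7) (hg2 : ∃ a, orderOf g = 2 ^ a)
    (hgz : g * z * g⁻¹ = z⁻¹) (hfpf : ∀ u ∈ F, z • u = u → u = 0) : False := by
  classical
  haveI : Fact (Nat.Prime 2) := ⟨Nat.prime_two⟩
  -- a vector fixed by `g`
  obtain ⟨a, ha⟩ := hg2
  have hgi : ∀ c ∈ zpowers g, ∀ u ∈ F, c • u ∈ F := fun c hc => hinv c (zpowers_le.2 hgH hc)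
  letI : MulAction (zpowers g) F :=
    { smul := fun c u => ⟨(c : X) • (u : U), hgi _ c.2 _ u.2⟩
      one_smul := fun u => Subtype.ext (one_smul X (u : U))
      mul_smul := fun c d u => Subtype.ext (mul_smul (c : X) (d : X) (u : U)) }
  have hp : IsPGroup 2 (zpowers g) := CfsgLib.FGS.isPGroup_zpowers ha
  have h0 : (0 : F) ∈ MulAction.fixedPoints (zpowers g) F := fun c => Subtype.ext (smul_zero _)
  obtain ⟨w₀, hw₀, hw₀1⟩ := hp.exists_fixed_point_of_prime_dvd_card_of_fixed_point F
    (by rw [hF]; norm_num) h0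
  have hgw : g • (w₀ : U) = w₀ := congrArg Subtype.val (hw₀ ⟨g, mem_zpowers g⟩)
  let w : ℤ → U := fun i => z ^ i • (w₀ : U)
  have hwF : ∀ i, w i ∈ F := fun i => hinv _ (zpow_mem hzH i) _ w₀.2
  have hw0 : ∀ i, w i ≠ 0 := fun i h => hw₀1 (Subtype.ext (by
    have := congrArg (fun u => (z ^ i)⁻¹ • u) h
    simp only [w, inv_smul_smul, smul_zero] at this
    exact this.symm))
  have hzi : ∀ i j : ℤ, z ^ i • w j = w (i + j) := fun i j => by
    simp only [w]; rw [smul_smul, ← zpow_add]
  have hgi' : ∀ i, g • w i = w (-i) := fun i => by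
    have e : g * z ^ i = z ^ (-i) * g := by
      rw [zpow_neg, ← inv_zpow, ← hgz, conj_zpow]; group
    simp only [w]; rw [smul_smul, e, mul_smul, hgw]
  -- `w i` depends on `i` exactly modulo 7
  have hper : ∀ i j, w i = w j ↔ (7 : ℤ) ∣ i - j := by
    intro i j
    constructor
    · intro e
      by_contra hnd
      have e1 : w (i - j) = w 0 := by
        have := congrArg (fun u => z ^ (-j) • u) e
        simp only [hzi, neg_add_cancel] at this
        rwa [neg_add_eq_sub] at this
      have hgen : z ∈ zpowers (z ^ (i - j)) := by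
        haveI : Fact (Nat.Prime 7) := ⟨by norm_num⟩
        have hne : z ^ (i - j) ≠ 1 := fun e2 => hnd (by
          rw [← orderOf_dvd_iff_zpow_eq_one, hz] at e2; exact_mod_cast e2)
        have hle : zpowers (z ^ (i - j)) ≤ zpowers z := zpowers_le.2 (zpow_mem (mem_zpowers z) _)
        haveI : Finite (zpowers z) := Finite.of_injective
          (fun c : zpowers z => (⟨(c : X), zpowers_le.2 hzH c.2⟩ : H))
          fun c d e => Subtype.ext (congrArg Subtype.val e :)
        have := Subgroup.eq_of_le_of_card_ge hle (by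
          rw [Nat.card_zpowers, Nat.card_zpowers, hz]
          refine Nat.le_of_dvd (orderOf_pos_iff.2 ?_) (dvd_of_eq ?_)
          · exact (orderOf_pos_iff.1 (by rw [hz]; norm_num : 0 < orderOf z)).zpow
          · refine (orderOf_eq_prime (p := 7) ?_ hne).symm
            rw [← zpow_natCast (z ^ (i - j)), ← zpow_mul, mul_comm, zpow_mul, zpow_natCast, ← hz,
              pow_orderOf_eq_one, one_zpow])
        rw [this]; exact mem_zpowers z
      have hzw : z • (w₀ : U) = w₀ := by
        have hst : z ^ (i - j) ∈ MulAction.stabilizer X (w₀ : U) := by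
          rw [MulAction.mem_stabilizer_iff]
          simpa [w] using e1
        exact MulAction.mem_stabilizer_iff.1 (zpowers_le.2 hst hgen)
      exact hw₀1 (Subtype.ext (hfpf _ w₀.2 hzw).symm)
    · rintro ⟨c, hc⟩
      have : i = j + 7 * c := by omega
      subst this
      simp only [w]
      rw [zpow_add, zpow_mul, show z ^ (7 : ℤ) = 1 by
        rw [show (7 : ℤ) = ((7 : ℕ) : ℤ) by norm_num, zpow_natCast, ← hz, pow_orderOf_eq_one],
        one_zpow, mul_one]
  -- every nonzero vector is a `w j`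
  have hsurj : ∀ u ∈ F, u ≠ 0 → ∃ j : ℤ, u = w j := by
    intro u hu hu0
    let f : Fin 7 → {v : F // v ≠ 0} := fun i =>
      ⟨⟨w (i : ℕ), hwF _⟩, fun e => hw0 _ (congrArg Subtype.val e)⟩
    have hinj : Function.Injective f := fun i i' e => by
      have e : w (i : ℕ) = w (i' : ℕ) := congrArg (fun v : {v : F // v ≠ 0} => (v.1 : U)) e
      have := (hper _ _).1 e
      exact Fin.ext (by have := i.2; have := i'.2; omega)
    have hcard : Nat.card {v : F // v ≠ 0} = 7 := by
      have := card_ne_zero_add_one (M := F); omega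
    have hbij := (Nat.bijective_iff_injective_and_card f).2 ⟨hinj, by rw [hcard, Nat.card_fin]⟩
    obtain ⟨i, hi⟩ := hbij.2 ⟨⟨u, hu⟩, fun e => hu0 (congrArg Subtype.val e)⟩
    exact ⟨_, (congrArg (fun v : {v : F // v ≠ 0} => (v.1 : U)) hi).symm⟩
  have hne : ∀ i j : ℤ, ¬ (7 : ℤ) ∣ i - j → w i + w j ≠ 0 := fun i j hd e => hd ((hper i j).1 (by
    rw [add_eq_zero_iff_eq_neg, neg_eq_of_add_eq_zero_left (two (w j))] at e; exact e))
  have key : ∀ m : ℤ, ¬ (7 : ℤ) ∣ m → ∀ j : ℤ, w 0 + w m = w j → (7 : ℤ) ∣ 2 * j - m := by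
    intro m _ j e
    have e2 := congrArg (fun u => g • u) e
    simp only [smul_add, hgi', neg_zero] at e2
    have e3 := congrArg (fun u => z ^ m • u) e2
    simp only [smul_add, hzi, add_zero, add_neg_cancel] at e3
    rw [add_comm, e] at e3
    have := (hper _ _).1 e3
    omega
  obtain ⟨j₁, hj₁⟩ := hsurj _ (add_mem (hwF 0) (hwF 1)) (hne 0 1 (by norm_num))
  obtain ⟨j₂, hj₂⟩ := hsurj _ (add_mem (hwF 0) (hwF 2)) (hne 0 2 (by norm_num))
  have k1 := key 1 (by norm_num) j₁ hj₁
  have k2 := key 2 (by norm_num) j₂ hj₂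
  have e1 : w 0 + w 1 = w 4 := hj₁.trans ((hper _ _).2 (by omega))
  have e2 : w 0 + w 2 = w 1 := hj₂.trans ((hper _ _).2 (by omega))
  have e2' : w 2 = w 0 + w 1 := by
    rw [← e2, ← add_assoc, two, zero_add]
  have e24 : w 4 = w 2 := e1.symm.trans e2'.symm
  have := (hper _ _).1 e24
  omega

/-- The six-dimensional case does not occur. -/
theorem not_six [Finite X] [Finite U] (h : Hyp X U) {a l : ℕ} (hD : Data X U a 3 l) (hl : 1 < l) :
    False := by
  classical
  haveI : Fact (Nat.Prime 2) := ⟨Nat.prime_two⟩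
  have ha : a = 1 := by
    have h1 := hD.eq
    have h2 := hD.one_le_a
    rcases Nat.lt_or_ge a 4 with h4 | h4
    · interval_cases a <;> omega
    · have := Nat.pow_le_pow_right (show 0 < 2 by norm_num) h4
      have : 2 * (2 ^ a - 1) ≤ l * (2 ^ a - 1) := Nat.mul_le_mul_right _ hl
      omega
  subst ha
  obtain ⟨P⟩ : Nonempty (Sylow 2 X) := inferInstance
  set F0 := fixSet X U ((P : Subgroup X) : Set X)
  have hF0 : Nat.card F0 = 2 := (hD.syl P).trans (pow_one 2)
  have hPp : IsPGroup 2 (P : Subgroup X) := P.isPGroup'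
  -- the action on `U` modulo the fixed points of `P`
  letI : MulAction (P : Subgroup X) (U ⧸ F0) :=
    { smul := fun p => QuotientAddGroup.map F0 F0 (DistribSMul.toAddMonoidHom U (p : X))
        (fun u hu => show (p : X) • u ∈ F0 by rw [mem_fixSet.1 hu _ p.2]; exact hu)
      one_smul := fun x => by
        induction x using QuotientAddGroup.induction_on with
        | H u =>
          show ((((1 : (P : Subgroup X)) : X) • u : U) : U ⧸ F0) = _
          rw [OneMemClass.coe_one, one_smul]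
      mul_smul := fun p p' x => by
        induction x using QuotientAddGroup.induction_on with
        | H u =>
          show ((((p * p' : (P : Subgroup X)) : X) • u : U) : U ⧸ F0) = _
          rw [Subgroup.coe_mul, mul_smul]
          rfl }
  have hsmul : ∀ (p : (P : Subgroup X)) (u : U), p • (u : U ⧸ F0) = (((p : X) • u : U) : U ⧸ F0) :=
    fun p u => rfl
  have hQ : Nat.card (U ⧸ F0) = 32 := by
    have := AddSubgroup.card_eq_card_quotient_mul_card_addSubgroup F0
    rw [hD.cardU, hF0] at this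
    omega
  have h0 : (0 : U ⧸ F0) ∈ MulAction.fixedPoints (P : Subgroup X) (U ⧸ F0) := fun p => by
    rw [← QuotientAddGroup.mk_zero, hsmul, smul_zero]
  obtain ⟨x, hx, hx0⟩ := hPp.exists_fixed_point_of_prime_dvd_card_of_fixed_point (U ⧸ F0)
    (by rw [hQ]; norm_num) h0
  obtain ⟨v, rfl⟩ := QuotientAddGroup.mk_surjective x
  have hvF : v ∉ F0 := fun e => hx0 ((QuotientAddGroup.eq_zero_iff v).2 e).symm
  have hv0 : v ≠ 0 := fun e => hvF (e ▸ zero_mem _)
  obtain ⟨P', hP'⟩ := h.fix v
  have hne : P ≠ P' := fun e => hvF (by subst e; exact hP')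
  have hdiff : ∀ p ∈ (P : Subgroup X), p • v - v ∈ F0 := fun p hp => by
    rw [← QuotientAddGroup.eq_zero_iff, QuotientAddGroup.mk_sub, sub_eq_zero]
    exact (hsmul ⟨p, hp⟩ v).symm.trans (hx ⟨p, hp⟩)
  set E := (P : Subgroup X) ⊓ MulAction.stabilizer X v with hE
  have hEP' : E ≤ (P' : Subgroup X) := fun e he =>
    h.mem_sylow_of_fix hv0 P' hP' (two_elt_sylow P he.1) (MulAction.mem_stabilizer_iff.1 he.2)
  obtain ⟨p₀, hp₀, hp₀v⟩ : ∃ p₀ ∈ (P : Subgroup X), p₀ • v ≠ v := by
    by_contra hc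
    push Not at hc
    exact hvF hc
  -- `E` has index 2 in `P`
  have hidx : (E.subgroupOf (P : Subgroup X)).index = 2 := by
    refine Subgroup.index_eq_two_iff.2 ⟨⟨p₀, hp₀⟩, fun ⟨p, hp⟩ => ?_⟩
    have hkey : ∀ q ∈ (P : Subgroup X), (q ∈ E ↔ q • v - v = 0) := fun q hq => by
      rw [sub_eq_zero]
      exact ⟨fun hh => MulAction.mem_stabilizer_iff.1 hh.2, fun hh => ⟨hq, MulAction.mem_stabilizer_iff.2 hh⟩⟩
    simp only [mem_subgroupOf, Subgroup.coe_mul]
    rw [hkey _ hp, hkey _ (mul_mem hp hp₀)]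
    set d₀ := p₀ • v - v with hd₀
    set d := p • v - v with hd
    have hd0F : d₀ ∈ F0 := hdiff _ hp₀
    have hdF : d ∈ F0 := hdiff _ hp
    have hcomb : (p * p₀) • v - v = d + d₀ := by
      have h1 : p • d₀ = d₀ := hd0F p hp
      rw [hd₀, smul_sub, smul_smul] at h1
      rw [hd, hd₀, ← h1]; abel
    rw [hcomb]
    have hd00 : d₀ ≠ 0 := sub_ne_zero.2 hp₀v
    haveI := Fintype.ofFinite F0
    have hcases : d = 0 ∨ d = d₀ := by
      by_contra hc
      push Not at hc
      have hthree : ({⟨0, zero_mem _⟩, ⟨d₀, hd0F⟩, ⟨d, hdF⟩} : Finset F0).card = 3 := by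
        simp [hd00.symm, hc.1.symm, hc.2.symm]
      have := Finset.card_le_univ ({⟨0, zero_mem _⟩, ⟨d₀, hd0F⟩, ⟨d, hdF⟩} : Finset F0)
      rw [hthree, ← Nat.card_eq_fintype_card, hF0] at this
      omega
    rcases hcases with e | e
    · rw [e, zero_add]; exact Or.inr ⟨rfl, hd00⟩
    · rw [e, h.two]; exact Or.inl ⟨rfl, hd00⟩
  have hPc : Nat.card (P : Subgroup X) = Nat.card E * 2 := by
    rw [← (E.subgroupOf (P : Subgroup X)).card_mul_index, hidx,
      Nat.card_congr (subgroupOfEquivOfLe (inf_le_left : E ≤ (P : Subgroup X))).toEquiv]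
  have hidx' : (E.subgroupOf (P' : Subgroup X)).index = 2 := by
    have h2 := (E.subgroupOf (P' : Subgroup X)).card_mul_index
    rw [Nat.card_congr (subgroupOfEquivOfLe hEP').toEquiv, P'.card_eq_multiplicity,
      ← P.card_eq_multiplicity, hPc] at h2
    exact Nat.eq_of_mul_eq_mul_left Nat.card_pos h2
  have hnE : ∀ Q : Subgroup X, E ≤ Q → (E.subgroupOf Q).index = 2 → Q ≤ normalizer (E : Set X) := by
    intro Q hQ hi q hq
    haveI := Subgroup.normal_of_index_eq_two hi
    exact (Subgroup.normal_subgroupOf_iff_le_normalizer hQ).1 this hq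
  set N := normalizer (E : Set X)
  have hPN : (P : Subgroup X) ≤ N := hnE _ inf_le_left hidx
  have hP'N : (P' : Subgroup X) ≤ N := hnE _ hEP' hidx'
  -- `E` is not trivial, as some involution lies in two Sylow subgroups
  have hEbot : E ≠ ⊥ := by
    intro hb
    rw [hb, card_bot, one_mul] at hPc
    obtain ⟨s, hsP, hs⟩ := exists_involution_of_ne_bot hPp (fun hb => by
      rw [hb, card_bot] at hPc; omega)
    have hc := hD.cont s hs
    have hsub : Subsingleton {Q : Sylow 2 X // s ∈ (Q : Subgroup X)} := ⟨fun Q R => by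
      have hQ : ∀ S : {Q : Sylow 2 X // s ∈ (Q : Subgroup X)}, (S.1 : Subgroup X) = zpowers s :=
        fun S => (Subgroup.eq_of_le_of_card_ge (zpowers_le.2 S.2) (by
          rw [Nat.card_zpowers, hs, S.1.card_eq_multiplicity, ← P.card_eq_multiplicity, hPc])).symm
      exact Subtype.ext (Sylow.ext ((hQ Q).trans (hQ R).symm))⟩
    have := Finite.card_le_one_iff_subsingleton.2 hsub
    omega
  obtain ⟨z₀, g₀, hz₀N, hg₀N, hz₀o, hz₀1, hz₀⟩ : ∃ z₀ g₀ : X, z₀ ∈ N ∧ g₀ ∈ N ∧
      Odd (orderOf z₀) ∧ z₀ ≠ 1 ∧ g₀ * z₀ * g₀⁻¹ = z₀⁻¹ := by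
    by_contra hc
    push Not at hc
    have hNR : NoReal N := fun z hz g hg ho hi => by_contra fun h1 => hc z g hz hg ho h1 hi
    refine hne (Sylow.ext (Subgroup.eq_of_le_of_card_ge ?_
      (by rw [P.card_eq_multiplicity, P'.card_eq_multiplicity])))
    intro p hp
    exact hNR.mem_sylow P' hP'N (hPN hp) (two_elt_sylow P hp)
  obtain ⟨j, hjp, hjo, hj⟩ := exists_prime_power hz₀o hz₀1 hz₀
  set z := z₀ ^ j with hz
  have hzN : z ∈ N := pow_mem hz₀N j
  obtain ⟨g, hg2, hgz0, hgz⟩ := exists_two_inverter hj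
  have hgN : g ∈ N := zpowers_le.2 hg₀N hgz0
  have hz1 : z ≠ 1 := ne_one_of_prime hjp
  haveI : Fact (orderOf z).Prime := ⟨hjp⟩
  -- the fixed space of `E`
  set F := fixSet X U (E : Set X)
  have hFinv : ∀ c ∈ N, ∀ u ∈ F, c • u ∈ F := fun c hc u hu e he => by
    have h1 : c⁻¹ * e * c ∈ E := by
      have := (Subgroup.mem_normalizer_iff.1 (inv_mem hc) e).1 he
      rwa [inv_inv] at this
    have := hu _ h1
    calc e • c • u = c • (c⁻¹ * e * c) • u := by rw [smul_smul, smul_smul]; congr 1; group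
      _ = c • u := by rw [this]
  obtain ⟨s, hsE, hs⟩ := exists_involution_of_ne_bot (hPp.to_le inf_le_left) hEbot
  have hF8 : Nat.card F ≤ 8 := (AddSubgroup.card_le_of_le (fun u hu =>
    mem_fixSet_singleton.2 (mem_fixSet.1 hu s hsE))).trans (hD.inv s hs).le
  have hF4 : 4 ≤ Nat.card F := by
    obtain ⟨i, hi⟩ := two_pow_card h.two F
    have h1 : F0 ≤ F := fun u hu e he => mem_fixSet.1 hu e he.1
    have h3 : ¬ F ≤ F0 := fun hle => hvF (hle (fun e he => MulAction.mem_stabilizer_iff.1 he.2))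
    have h2 : 2 < Nat.card F := by
      rw [← hF0]
      refine lt_of_le_of_ne (AddSubgroup.card_le_of_le h1) fun e => h3 ?_
      exact (AddSubgroup.eq_of_le_of_card_ge h1 e.ge).ge
    rcases Nat.lt_or_ge i 2 with hi2 | hi2
    · interval_cases i <;> omega
    · rw [hi]; exact (Nat.pow_le_pow_right (show 0 < 2 by norm_num) hi2)
  have hfree : ∀ u : U, z • u = u → u = 0 := fun u hu => h.fpf z g hjo hgz hz1 u hu
  have hmod : ∀ H : AddSubgroup U, (∀ u ∈ H, z • u ∈ H) → Nat.card H ≡ 1 [MOD orderOf z] := by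
    intro H hH
    have := card_modEq_fixed (r := orderOf z) rfl H hH
    have h1 : Nat.card {u : H // z • (u : U) = u} = 1 := Nat.card_eq_one_iff_unique.2
      ⟨⟨fun u u' => Subtype.ext (Subtype.ext ((hfree _ u.2).trans (hfree _ u'.2).symm))⟩,
        ⟨⟨0, smul_zero z⟩⟩⟩
    rwa [h1] at this
  have hmF := hmod F (hFinv z hzN)
  have hFpow : Nat.card F = 4 ∨ Nat.card F = 8 := by
    obtain ⟨i, hi⟩ := two_pow_card h.two F
    have : i < 4 := (Nat.pow_lt_pow_iff_right (show 1 < 2 by norm_num)).1 (by rw [← hi]; omega)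
    interval_cases i <;> omega
  have hdvd : orderOf z ∣ Nat.card F - 1 := (Nat.modEq_iff_dvd' Nat.card_pos).1 hmF.symm
  rcases hFpow with hF' | hF'
  swap
  · rw [hF'] at hdvd
    have h7 : orderOf z = 7 := (Nat.prime_dvd_prime_iff_eq hjp (by norm_num)).1 hdvd
    exact no_seven N F h.two hFinv hF' hzN hgN h7 hg2 hgz fun u _ hu => hfree u hu
  rw [hF'] at hdvd
  have h3 : orderOf z = 3 := (Nat.prime_dvd_prime_iff_eq hjp Nat.prime_three).1 hdvd
  -- a central involution of `E`
  haveI : Nontrivial E := (Subgroup.nontrivial_iff_ne_bot E).2 hEbot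
  haveI : Nontrivial (center E) := (hPp.to_le inf_le_left).center_nontrivial
  set ZE := (center E).map E.subtype with hZE
  obtain ⟨f, hfZ, hf⟩ := exists_involution_of_ne_bot (H := ZE)
    (((hPp.to_le inf_le_left).to_subgroup (center E)).map E.subtype) (by
      rw [hZE, Ne, Subgroup.map_eq_bot_iff_of_injective _ E.subtype_injective,
        ← Ne, ← Subgroup.nontrivial_iff_ne_bot]
      infer_instance)
  have hZcomm : ∀ x ∈ ZE, ∀ e ∈ E, x * e = e * x := by
    rintro _ ⟨x, hx, rfl⟩ e he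
    exact (congrArg Subtype.val (Subgroup.mem_center_iff.1 hx ⟨e, he⟩)).symm
  have hZE_le : ZE ≤ E := map_subtype_le _
  have hZz : ∀ x ∈ ZE, z * x * z⁻¹ ∈ ZE := by
    intro x hx
    have hxE : z * x * z⁻¹ ∈ E := (Subgroup.mem_normalizer_iff.1 hzN x).1 (hZE_le hx)
    refine ⟨⟨_, hxE⟩, Subgroup.mem_center_iff.2 fun e => Subtype.ext ?_, rfl⟩
    have he : z⁻¹ * (e : X) * z ∈ E := by
      have := (Subgroup.mem_normalizer_iff.1 (inv_mem hzN) (e : X)).1 e.2
      rwa [inv_inv] at this
    have := hZcomm x hx _ he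
    show (e : X) * (z * x * z⁻¹) = z * x * z⁻¹ * e
    calc (e : X) * (z * x * z⁻¹) = z * ((z⁻¹ * e * z) * x) * z⁻¹ := by group
      _ = z * (x * (z⁻¹ * e * z)) * z⁻¹ := by rw [this]
      _ = _ := by group
  set f' := z * f * z⁻¹ with hf'
  set f'' := z * f' * z⁻¹ with hf''
  have hf'Z : f' ∈ ZE := hZz f hfZ
  have hf''Z : f'' ∈ ZE := hZz f' hf'Z
  have hzf : z * f'' * z⁻¹ = f := by
    have hz3 : z * z * z = 1 := by
      have := pow_orderOf_eq_one z
      rwa [h3, pow_succ, pow_two] at this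
    calc z * f'' * z⁻¹ = (z * z * z) * f * (z * z * z)⁻¹ := by rw [hf'', hf']; group
      _ = f := by rw [hz3]; group
  have hinvol : ∀ e : X, orderOf e = 2 → e * e = 1 := fun e he => by
    rw [← pow_two, ← he, pow_orderOf_eq_one]
  -- `z` centralises no involution
  have hnc : ∀ e : X, orderOf e = 2 → z * e ≠ e * z := by
    intro e he hc
    have := hmod (fixSet X U {e}) fun u hu => mem_fixSet_singleton.2 (by
      rw [smul_smul, ← hc, mul_smul, mem_fixSet_singleton.1 hu])
    rw [hD.inv e he, h3] at this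
    exact absurd this (by decide)
  have hf'o : orderOf f' = 2 := (CfsgLib.Invol.orderOf_conj_eq z f).trans hf
  have hf''o : orderOf f'' = 2 := (CfsgLib.Invol.orderOf_conj_eq z f').trans hf'o
  have c1 : f * f' = f' * f := hZcomm f hfZ f' (hZE_le hf'Z)
  have c2 : f * f'' = f'' * f := hZcomm f hfZ f'' (hZE_le hf''Z)
  have c3 : f' * f'' = f'' * f' := hZcomm f' hf'Z f'' (hZE_le hf''Z)
  have hprod : f * f' * f'' = 1 := by
    set Pz := f * f' * f'' with hPz
    by_contra hne1
    have ho : orderOf Pz = 2 := orderOf_eq_prime (by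
      rw [pow_two, hPz]
      calc f * f' * f'' * (f * f' * f'') = f * f' * (f'' * f) * f' * f'' := by group
        _ = f * f' * (f * f'') * f' * f'' := by rw [c2]
        _ = f * (f' * f) * (f'' * f') * f'' := by group
        _ = f * (f * f') * (f' * f'') * f'' := by rw [c1, c3]
        _ = (f * f) * (f' * f') * (f'' * f'') := by group
        _ = 1 := by rw [hinvol f hf, hinvol f' hf'o, hinvol f'' hf''o]; group) hne1
    refine hnc Pz ho ?_
    rw [← mul_inv_eq_iff_eq_mul, hPz]
    calc z * (f * f' * f'') * z⁻¹ = (z * f * z⁻¹) * (z * f' * z⁻¹) * (z * f'' * z⁻¹) := by group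
      _ = f' * f'' * f := by rw [hzf, ← hf', ← hf'']
      _ = f * f' * f'' := by rw [mul_assoc f' f'', ← c2, ← mul_assoc, ← c1]
  have hf''e : f'' = f * f' := by
    rw [c1]
    calc f'' = (f' * f') * (f'' ) := by rw [hinvol f' hf'o, one_mul]
      _ = f' * ((f * f) * (f' * f'')) := by rw [hinvol f hf, one_mul, mul_assoc]
      _ = f' * f * (f * f' * f'') := by group
      _ = f' * f := by rw [hprod, mul_one]
  -- the operator `1 + f + f' + f''`
  let T : X → U →+ U := fun e => DistribSMul.toAddMonoidHom U e + AddMonoidHom.id U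
  have hT : ∀ e u, T e u = e • u + u := fun e u => rfl
  have hTker : ∀ e : X, (T e).ker = fixSet X U {e} := fun e => by
    ext u
    rw [AddMonoidHom.mem_ker, mem_fixSet_singleton, hT, add_eq_zero_iff_eq_neg,
      neg_eq_of_add_eq_zero_left (h.two u)]
  have hrange : ∀ e : X, orderOf e = 2 → (T e).range = fixSet X U {e} := by
    intro e he
    refine AddSubgroup.eq_of_le_of_card_ge ?_ ?_
    · rintro _ ⟨u, rfl⟩
      rw [mem_fixSet_singleton, hT, smul_add, smul_smul, hinvol e he, one_smul, add_comm]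
    · have h2 := (T e).ker.card_mul_index
      rw [AddSubgroup.index_ker, hD.cardU, hTker, hD.inv e he] at h2
      rw [hD.inv e he]
      omega
  let D := (T f).comp (T f')
  set W := fixSet X U {f} ⊓ fixSet X U {f'} with hW
  have hWF : F ≤ W := fun u hu => ⟨mem_fixSet_singleton.2 (mem_fixSet.1 hu f (hZE_le hfZ)),
    mem_fixSet_singleton.2 (mem_fixSet.1 hu f' (hZE_le hf'Z))⟩
  have hW4 : Nat.card W = 4 := by
    have hWz : ∀ u ∈ W, z • u ∈ W := by
      rintro u ⟨hu1, hu2⟩
      replace hu1 := mem_fixSet_singleton.1 hu1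
      replace hu2 := mem_fixSet_singleton.1 hu2
      have hu3 : f'' • u = u := by rw [hf''e, mul_smul, hu2, hu1]
      refine ⟨mem_fixSet_singleton.2 ?_, mem_fixSet_singleton.2 ?_⟩
      · rw [smul_smul, show f * z = z * f'' by rw [← hzf]; group, mul_smul, hu3]
      · rw [smul_smul, show f' * z = z * f by rw [hf']; group, mul_smul, hu1]
    have h8 := (AddSubgroup.card_le_of_le (inf_le_left : W ≤ _)).trans (hD.inv f hf).le
    have h4 := (AddSubgroup.card_le_of_le hWF)
    have hm := hmod W hWz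
    rw [h3] at hm
    obtain ⟨i, hi⟩ := two_pow_card h.two W
    have hlt : Nat.card W < 2 ^ 4 :=
      lt_of_le_of_lt h8 (Nat.pow_lt_pow_right (by norm_num) (by norm_num))
    have : i < 4 := (Nat.pow_lt_pow_iff_right (show 1 < 2 by norm_num)).1 (hi ▸ hlt)
    unfold Nat.ModEq at hm
    interval_cases i <;> omega
  have hDcard : Nat.card D.range = 2 := by
    have e1 : D.range = (fixSet X U {f'}).map (T f) := by
      rw [← hrange f' hf'o, AddMonoidHom.map_range]
    let R := (T f).comp (fixSet X U {f'}).subtype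
    have e2 : Nat.card D.range = R.ker.index := by
      rw [e1, AddSubgroup.index_ker, AddMonoidHom.range_comp, AddSubgroup.range_subtype]
    have e3 : Nat.card R.ker = 4 := by
      rw [← hW4]
      refine Nat.card_congr
        { toFun := fun u => ⟨(u.1 : U), (hTker f).le u.2, u.1.2⟩
          invFun := fun w => ⟨⟨(w : U), w.2.2⟩, (hTker f).ge w.2.1⟩
          left_inv := fun u => rfl
          right_inv := fun w => rfl }
    have h2 := R.ker.card_mul_index
    rw [e3, hD.inv f' hf'o] at h2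
    omega
  obtain ⟨d, hd, hd0⟩ : ∃ d ∈ D.range, d ≠ 0 := by
    by_contra hc
    push Not at hc
    have : D.range = ⊥ := (AddSubgroup.eq_bot_iff_forall _).2 hc
    rw [this, AddSubgroup.card_bot] at hDcard
    omega
  obtain ⟨u, rfl⟩ := hd
  have hDf : ∀ u, D u = u + f • u + f' • u + f'' • u := fun u => by
    show T f (T f' u) = _
    rw [hT, hT, smul_add, smul_smul, ← hf''e]; abel
  have hzD : z • D u = D (z • u) := by
    rw [hDf, hDf, smul_add, smul_add, smul_add, smul_smul, smul_smul, smul_smul, smul_smul,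
      smul_smul, smul_smul, show z * f = f' * z by rw [hf']; group,
      show z * f' = f'' * z by rw [hf'']; group, show z * f'' = f * z by rw [← hzf]; group]
    abel
  have hzd : z • D u = D u := by
    by_contra hne2
    have hmem : ({⟨0, zero_mem _⟩, ⟨D u, u, rfl⟩, ⟨z • D u, z • u, hzD.symm⟩} : Set D.range).ncard = 3 := by
      rw [Set.ncard_insert_of_notMem (by
        simp only [Set.mem_insert_iff, Set.mem_singleton_iff, not_or, Subtype.ext_iff]
        exact ⟨hd0.symm, fun e => hd0 ((smul_eq_zero_iff_eq z).1 e.symm)⟩),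
        Set.ncard_insert_of_notMem (by
          simp only [Set.mem_singleton_iff, Subtype.ext_iff]
          exact fun e => hne2 e.symm), Set.ncard_singleton]
    have := Set.ncard_le_card ({⟨0, zero_mem _⟩, ⟨D u, u, rfl⟩, ⟨z • D u, z • u, hzD.symm⟩} : Set D.range)
    omega
  exact hd0 (hfree _ hzd)

end CfsgLib.FGS.RealGraph
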