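import Cfsg.Agent.Lib.FGS.RealGraph.LOne
import Cfsg.Agent.Lib.FGS.RealGraph.Six
import Cfsg.Agent.Lib.FGS.RealGraph.Prim

/-!
# The module situation is contradictory
-/

namespace CfsgLib.FGS.RealGraph

open Subgroup

universe u v

theorem map_cls_dvd {X : Type u} [Group X] [Finite X] (N : Subgroup X) [N.Normal] (x : N) :
    cls x ∣ cls (x : X) := by
  have h : centralizer ({x} : Set N) = (centralizer ({(x : X)} : Set X)).subgroupOf N := by
    ext c
    rw [mem_subgroupOf, mem_centralizer_singleton_iff, mem_centralizer_singleton_iff,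
      Subtype.ext_iff]
    simp
  rw [cls, h]
  exact CfsgLib.Solvable.relIndex_dvd_index_of_normal_left N _

theorem Hyp.restrict {X : Type u} [Group X] [Finite X] {U : Type v} [AddCommGroup U]
    [DistribMulAction X U] (h : Hyp X U) (N : Subgroup X) (hN : N.Normal)
    (hns : ¬ Group.IsSolvable N) : Hyp N U := by
  haveI := hN
  haveI : Fact (Nat.Prime 2) := ⟨Nat.prime_two⟩
  refine ⟨h.two, fun x hx => Subtype.ext (h.faithful x hx), fun u => ?_, fun x g ho hinv hx1 u hu => ?_,
    fun x g hp ho hinv => ?_, fun M hM hMp => ?_, hns⟩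
  · obtain ⟨P, hP⟩ := h.fix u
    have hi : ¬ 2 ∣ ((P : Subgroup X).subgroupOf N).index := fun hd =>
      P.not_dvd_index (hd.trans (CfsgLib.Solvable.relIndex_dvd_index_of_normal_left N (P : Subgroup X)))
    exact ⟨(P.isPGroup'.comap_of_injective N.subtype N.subtype_injective).toSylow hi,
      fun p hp => hP _ hp⟩
  · exact h.fpf (x : X) g (by rwa [orderOf_coe]) (congrArg Subtype.val hinv)
      (fun e => hx1 (Subtype.ext e)) u hu
  · have hc := h.cop (x : X) g (by rwa [orderOf_coe]) (by rwa [orderOf_coe]) (congrArg Subtype.val hinv)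
    refine (hc.coprime_dvd_left (map_cls_dvd N x)).coprime_dvd_right ?_
    obtain ⟨P⟩ : Nonempty (Sylow 2 X) := inferInstance
    have hi : ¬ 2 ∣ ((P : Subgroup X).subgroupOf N).index := fun hd =>
      P.not_dvd_index (hd.trans (CfsgLib.Solvable.relIndex_dvd_index_of_normal_left N (P : Subgroup X)))
    let S : Sylow 2 N := (P.isPGroup'.comap_of_injective N.subtype N.subtype_injective).toSylow hi
    rw [S.card_eq_index_normalizer, P.card_eq_index_normalizer]
    refine (index_dvd_of_le ?_).trans (CfsgLib.Solvable.relIndex_dvd_index_of_normal_left N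
      (normalizer ((P : Subgroup X) : Set X)))
    intro c hc
    show c ∈ normalizer ((S : Subgroup N) : Set N)
    rw [Subgroup.mem_normalizer_iff]
    intro d
    exact (Subgroup.mem_normalizer_iff.1 (mem_subgroupOf.1 hc)) (d : X)
  · let Q := Cfsg.pCore 2 N
    haveI := hM
    haveI := CfsgLib.Cores.map_subtype_pCore_normal 2 N
    have hQ := h.core _ inferInstance ((CfsgLib.Cores.isPGroup_pCore (G := N) 2).map N.subtype)
    rw [Subgroup.map_eq_bot_iff_of_injective _ N.subtype_injective] at hQ
    exact eq_bot_iff.2 (hQ ▸ CfsgLib.Cores.le_pCore hMp)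

theorem not_hyp_aux {U : Type v} [AddCommGroup U] [Finite U] :
    ∀ (n : ℕ) (X : Type u) [Group X] [Finite X] [DistribMulAction X U], Nat.card X = n →
      ¬ Hyp X U := by
  intro n
  induction n using Nat.strong_induction_on with
  | _ n ih =>
    intro X _ _ _ hn h
    have hmin : ∀ N : Subgroup X, N.Normal → N ≠ ⊤ → Group.IsSolvable N := by
      intro N hN hne
      by_contra hns
      refine ih (Nat.card N) ?_ N rfl (h.restrict N hN hns)
      rw [← hn]
      exact lt_of_le_of_ne (card_le_card_group N) fun e => hne ((card_eq_iff_eq_top N).1 e)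
    obtain ⟨a, b, l, hD⟩ := h.exists_data
    rcases Nat.eq_or_lt_of_le hD.one_le_l with hl | hl
    · subst hl; exact not_one h hD
    by_cases hb : b = 3
    · subst hb; exact not_six h hD hl
    · obtain ⟨r, B⟩ := exists_big h hD hl hb
      exact B.false_of_big hmin hl

/-- The module situation does not occur. -/
theorem not_hyp {X : Type u} [Group X] [Finite X] {U : Type v} [AddCommGroup U] [Finite U]
    [DistribMulAction X U] : ¬ Hyp X U :=
  not_hyp_aux (Nat.card X) X rfl

end CfsgLib.FGS.RealGraph
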