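import Cfsg.Agent.Lib.FGS.RealGraph.Count
import Cfsg.Agent.Lib.Solvable.WardCore

/-!
# Elements of primitive prime divisor order
-/

namespace CfsgLib.FGS.RealGraph

open Subgroup

variable {X : Type*} [Group X] {U : Type*} [AddCommGroup U] [DistribMulAction X U]

theorem mem_zpowers_of_prime [Finite X] {p : ℕ} [hp : Fact p.Prime] {c w : X} (hc : orderOf c = p)
    (hw : w ∈ zpowers c) (hne : w ≠ 1) : c ∈ zpowers w := by
  have hle : zpowers w ≤ zpowers c := zpowers_le.2 hw
  have hd := Subgroup.card_dvd_of_le hle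
  rw [Nat.card_zpowers, Nat.card_zpowers, hc] at hd
  rcases hp.out.eq_one_or_self_of_dvd _ hd with e | e
  · exact absurd (orderOf_eq_one_iff.1 e) hne
  · rw [Subgroup.eq_of_le_of_card_ge hle (by rw [Nat.card_zpowers, Nat.card_zpowers, hc, e])]
    exact mem_zpowers c

/-- The setting: `r` is a primitive prime divisor of `2 ^ (2 b) - 1`. -/
structure Big (X : Type*) [Group X] (U : Type*) [AddCommGroup U] [DistribMulAction X U]
    (a b l r : ℕ) : Prop where
  hyp : Hyp X U
  data : Data X U a b l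
  ppd : PPD (2 * b) r
  two_le_b : 2 ≤ b

namespace Big

variable [Finite X] [Finite U] {a b l r : ℕ} (B : Big X U a b l r)
include B

theorem eq_bot_or_top {y : X} (hy : orderOf y = r) (H : AddSubgroup U)
    (hH : ∀ u ∈ H, y • u ∈ H) : H = ⊥ ∨ H = ⊤ := by
  haveI : Fact r.Prime := ⟨B.ppd.prime⟩
  have hfix : ∀ u : U, y • u = u → u = 0 := by
    set K := fixSet X U {y} with hK
    have hKy : ∀ u ∈ K, y • u ∈ K := fun u hu => by rw [mem_fixSet_singleton.1 hu]; exact hu
    obtain ⟨i, hi⟩ := two_pow_card B.hyp.two K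
    have hmod := card_modEq_fixed hy (⊤ : AddSubgroup U) fun u _ => AddSubgroup.mem_top _
    rw [AddSubgroup.card_top, B.data.cardU, Nat.card_congr
      (show {u : (⊤ : AddSubgroup U) // y • (u : U) = u} ≃ K from
        { toFun := fun u => ⟨u.1.1, mem_fixSet_singleton.2 u.2⟩
          invFun := fun u => ⟨⟨u.1, trivial⟩, mem_fixSet_singleton.1 u.2⟩
          left_inv := fun u => rfl
          right_inv := fun u => rfl }), hi] at hmod
    have hile : i ≤ 2 * b := (Nat.pow_le_pow_iff_right (show 1 < 2 by norm_num)).1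
      (by rw [← hi, ← B.data.cardU]; exact Nat.card_le_card_of_injective _ Subtype.val_injective)
    have hdvd : r ∣ 2 ^ i * (2 ^ (2 * b - i) - 1) := by
      rw [Nat.mul_sub, mul_one, ← pow_add, Nat.add_sub_cancel' hile]
      exact (Nat.modEq_iff_dvd' (Nat.pow_le_pow_right (by norm_num) hile)).1 hmod.symm
    rcases (Nat.Prime.dvd_mul B.ppd.prime).1 hdvd with h1 | h1
    · have := Nat.le_of_dvd (by norm_num) (B.ppd.prime.dvd_of_dvd_pow h1)
      have := B.ppd.lt (by have := B.two_le_b; omega)
      have := B.two_le_b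
      omega
    · rcases Nat.eq_or_lt_of_le hile with e | e
      · exfalso
        subst e
        have htop : K = ⊤ := AddSubgroup.eq_top_of_card_eq _ (by rw [hi, B.data.cardU])
        have := B.hyp.faithful y fun u => mem_fixSet_singleton.1 (show u ∈ K from htop ▸ trivial)
        rw [this, orderOf_one] at hy
        exact B.ppd.prime.ne_one hy.symm
      · intro u hu
        rcases Nat.eq_zero_or_pos i with h0 | h0
        · rw [h0, pow_zero] at hi
          have := (AddSubgroup.card_eq_one).1 hi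
          exact (AddSubgroup.mem_bot).1 (this ▸ mem_fixSet_singleton.2 hu)
        · exact absurd h1 (B.ppd.prim _ (by omega) (by omega))
  obtain ⟨i, hi⟩ := two_pow_card B.hyp.two H
  have hile : i ≤ 2 * b := (Nat.pow_le_pow_iff_right (show 1 < 2 by norm_num)).1
    (by rw [← hi, ← B.data.cardU]; exact Nat.card_le_card_of_injective _ Subtype.val_injective)
  have hmod := card_modEq_fixed hy H hH
  have h1 : Nat.card {u : H // y • (u : U) = u} = 1 := Nat.card_eq_one_iff_unique.2
    ⟨⟨fun u u' => Subtype.ext (Subtype.ext ((hfix _ u.2).trans (hfix _ u'.2).symm))⟩,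
      ⟨⟨0, smul_zero y⟩⟩⟩
  rw [h1, hi] at hmod
  rcases Nat.eq_zero_or_pos i with h0 | h0
  · left; rw [h0, pow_zero] at hi; exact AddSubgroup.card_eq_one.1 hi
  rcases Nat.eq_or_lt_of_le hile with e | e
  · right; exact AddSubgroup.eq_top_of_card_eq _ (by rw [hi, e, B.data.cardU])
  · exact absurd ((Nat.modEq_iff_dvd' Nat.one_le_two_pow).1 hmod.symm) (B.ppd.prim _ h0 e)

theorem fixed_eq_zero {y : X} (hy : orderOf y = r) {u : U} (hu : y • u = u) : u = 0 := by
  rcases B.eq_bot_or_top hy (fixSet X U {y}) (fun v hv => by rw [mem_fixSet_singleton.1 hv]; exact hv) with e | e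
  · exact AddSubgroup.mem_bot.1 (e ▸ mem_fixSet_singleton.2 hu)
  · exfalso
    have := B.hyp.faithful y fun v => mem_fixSet_singleton.1 (show v ∈ fixSet X U {y} from e ▸ trivial)
    rw [this, orderOf_one] at hy
    exact B.ppd.prime.ne_one hy.symm

theorem not_commute_involution {y : X} (hy : orderOf y = r) {f : X} (hf : orderOf f = 2) :
    y * f ≠ f * y := by
  intro hc
  have hinv : ∀ u ∈ fixSet X U {f}, y • u ∈ fixSet X U {f} := fun u hu => mem_fixSet_singleton.2 (by
    rw [smul_smul, ← hc, mul_smul, mem_fixSet_singleton.1 hu])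
  rcases B.eq_bot_or_top hy _ hinv with e | e <;>
  · have h1 := B.data.inv f hf
    rw [e] at h1
    simp only [AddSubgroup.card_bot, AddSubgroup.card_top, B.data.cardU] at h1
    have h3 := B.two_le_b
    have h4 := Nat.pow_le_pow_right (show 0 < 2 by norm_num) h3
    first
      | omega
      | exact absurd (Nat.pow_right_injective (le_refl 2) h1) (by omega)

/-- The centraliser of an element of order `r` acts semiregularly and is cyclic. -/
theorem centralizer_cyclic {y : X} (hy : orderOf y = r) :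
    IsCyclic (centralizer ({y} : Set X)) := by
  classical
  let ρ : X →* AddMonoid.End U := DistribMulAction.toAddMonoidEnd X U
  have hρ : ∀ (x : X) (u : U), ρ x u = x • u := fun x u => rfl
  set Y : AddMonoid.End U := ρ y
  let A : Subring (AddMonoid.End U) := Subring.closure {Y}
  haveI : Nontrivial U := Finite.one_lt_card_iff_nontrivial.1 (by
    rw [B.data.cardU]
    exact Nat.one_lt_two_pow (by have := B.two_le_b; omega))
  obtain ⟨u₀, hu₀⟩ := exists_ne (0 : U)
  -- the orbit map of `A` is onto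
  have hYA : Y ∈ A := Subring.subset_closure rfl
  let ev : A →+ U :=
    { toFun := fun p => (p : AddMonoid.End U) u₀
      map_zero' := rfl
      map_add' := fun p q => rfl }
  have hev : ev.range = ⊤ := by
    rcases B.eq_bot_or_top hy ev.range (by
      rintro _ ⟨p, rfl⟩
      exact ⟨⟨Y * p, mul_mem hYA p.2⟩, rfl⟩) with e | e
    · exact absurd (AddSubgroup.mem_bot.1 (e ▸ ⟨1, rfl⟩ : u₀ ∈ (⊥ : AddSubgroup U))) hu₀
    · exact e
  have hsurj : ∀ w : U, ∃ p : A, (p : AddMonoid.End U) u₀ = w := fun w =>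
    AddMonoidHom.mem_range.1 (hev ▸ trivial : w ∈ ev.range)
  -- elements commuting with `Y` commute with `A`
  have hcommA : ∀ c : AddMonoid.End U, c * Y = Y * c → ∀ p ∈ A, c * p = p * c := by
    intro c hc p hp
    induction hp using Subring.closure_induction with
    | mem x hx => rw [Set.mem_singleton_iff.1 hx]; exact hc
    | zero => simp
    | one => simp
    | add x y _ _ h1 h2 => rw [mul_add, add_mul, h1, h2]
    | neg x _ h1 => rw [mul_neg, neg_mul, h1]
    | mul x y _ _ h1 h2 => rw [← mul_assoc, h1, mul_assoc, h2, mul_assoc]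
  have hAcomm : ∀ p ∈ A, ∀ q ∈ A, p * q = q * p := fun p hp q hq =>
    hcommA p (hcommA Y rfl p hp).symm q hq
  letI : CommRing A := { (inferInstance : Ring A) with
    mul_comm := fun p q => Subtype.ext (hAcomm _ p.2 _ q.2) }
  -- `A` has no zero divisors
  have hker : ∀ p : A, p ≠ 0 → ∀ u : U, (p : AddMonoid.End U) u = 0 → u = 0 := by
    intro p hp u hu
    rcases B.eq_bot_or_top hy (AddMonoidHom.ker (p : AddMonoid.End U)) (fun v hv => by
      show (p : AddMonoid.End U) (Y v) = 0
      have := DFunLike.congr_fun (hAcomm _ p.2 _ hYA) v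
      change (p : AddMonoid.End U) (Y v) = Y ((p : AddMonoid.End U) v) at this
      exact this.trans ((congrArg Y (hv : (p : AddMonoid.End U) v = 0)).trans Y.map_zero)) with e | e
    · exact AddSubgroup.mem_bot.1 (e ▸ hu : u ∈ (⊥ : AddSubgroup U))
    · refine absurd (Subtype.ext (AddMonoidHom.ext fun v => ?_)) hp
      have hv : v ∈ AddMonoidHom.ker (p : AddMonoid.End U) := e ▸ trivial
      exact hv
  haveI : Nontrivial A := ⟨⟨0, 1, fun e => hu₀ (by
    have := DFunLike.congr_fun (congrArg Subtype.val e) u₀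
    exact this.symm)⟩⟩
  haveI : NoZeroDivisors A := ⟨fun {p q} hpq => by
    by_contra hc
    push Not at hc
    apply hc.2
    refine Subtype.ext (AddMonoidHom.ext fun v => hker p hc.1 _ ?_)
    exact DFunLike.congr_fun (congrArg Subtype.val hpq) v⟩
  haveI : IsDomain A := NoZeroDivisors.to_isDomain A
  -- the centraliser maps into `A`
  have hmem : ∀ c ∈ centralizer ({y} : Set X), ρ c ∈ A := by
    intro c hc
    obtain ⟨p, hp⟩ := hsurj (ρ c u₀)
    have hcY : ρ c * Y = Y * ρ c := by
      rw [← map_mul, ← map_mul, mem_centralizer_singleton_iff.1 hc]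
    have : ρ c = p := AddMonoidHom.ext fun w => by
      obtain ⟨q, rfl⟩ := hsurj w
      have e1 := DFunLike.congr_fun (hcommA _ hcY _ q.2) u₀
      change ρ c ((q : AddMonoid.End U) u₀) = (q : AddMonoid.End U) (ρ c u₀) at e1
      have e2 := DFunLike.congr_fun (hAcomm _ q.2 _ p.2) u₀
      change (q : AddMonoid.End U) ((p : AddMonoid.End U) u₀) =
        (p : AddMonoid.End U) ((q : AddMonoid.End U) u₀) at e2
      exact e1.trans ((congrArg (q : AddMonoid.End U) hp.symm).trans e2)
    rw [this]; exact p.2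
  let φ : centralizer ({y} : Set X) →* A :=
    { toFun := fun c => ⟨ρ c, hmem _ c.2⟩
      map_one' := Subtype.ext (map_one ρ)
      map_mul' := fun c d => Subtype.ext (map_mul ρ (c : X) (d : X)) }
  refine isCyclic_of_injective_ringHom φ fun c d e => Subtype.ext ?_
  have e : ρ (c : X) = ρ (d : X) := congrArg Subtype.val e
  have h1 : ρ ((c : X)⁻¹ * d) = 1 := by rw [map_mul, ← e, ← map_mul, inv_mul_cancel, map_one]
  exact eq_of_inv_mul_eq_one (B.hyp.faithful _ fun u => DFunLike.congr_fun h1 u)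

/-- An abelian subgroup of odd prime exponent normalised by an element of order `r` has order at
most that prime. -/
theorem card_le_of_normalized {y : X} (hy : orderOf y = r) {s : ℕ} [hs : Fact s.Prime]
    (hso : Odd s) (A : Subgroup X) (hyA : ∀ x ∈ A, y * x * y⁻¹ ∈ A)
    (hcomm : ∀ x ∈ A, ∀ x' ∈ A, x * x' = x' * x) (hexp : ∀ x ∈ A, x ^ s = 1) :
    Nat.card A ≤ s := by
  classical
  haveI : Fact r.Prime := ⟨B.ppd.prime⟩
  by_contra hlt
  push Not at hlt
  have hyz : ∀ (K : Subgroup X), (∀ x ∈ K, y * x * y⁻¹ ∈ K) → ∀ x ∈ K, y⁻¹ * x * y ∈ K := by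
    intro K hK x hx
    have hle : K.map (MulAut.conj y).toMonoidHom ≤ K := by
      rintro _ ⟨w, hw, rfl⟩; exact hK w hw
    have heq := Subgroup.eq_of_le_of_card_ge hle (card_map_of_injective (MulAut.conj y).injective).ge
    obtain ⟨w, hw, e⟩ := (heq.ge hx : x ∈ K.map (MulAut.conj y).toMonoidHom)
    have e : y * w * y⁻¹ = x := e
    rwa [← e, show y⁻¹ * (y * w * y⁻¹) * y = w by group]
  have hstab : ∀ K : Subgroup X, (∀ x ∈ K, y * x * y⁻¹ ∈ K) →
      fixSet X U (K : Set X) ≠ ⊥ → K = ⊥ := by
    intro K hK hne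
    rcases B.eq_bot_or_top hy (fixSet X U (K : Set X)) (fun u hu => by
      intro x hx
      calc x • y • u = y • (y⁻¹ * x * y) • u := by rw [smul_smul, smul_smul]; congr 1; group
        _ = y • u := by rw [mem_fixSet.1 hu _ (hyz K hK x hx)]) with e | e
    · exact absurd e hne
    · exact (Subgroup.eq_bot_iff_forall K).2 fun x hx =>
        B.hyp.faithful x fun u => mem_fixSet.1 (show u ∈ fixSet X U (K : Set X) from e ▸ trivial) x hx
  have hAbot : A ≠ ⊥ := fun e => by
    rw [e, card_bot] at hlt; have := hs.out.pos; omega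
  have hfixA : fixSet X U (A : Set X) = ⊥ := by_contra fun h => hAbot (hstab A hyA h)
  -- a maximal subgroup of `A` with fixed points
  haveI : Nontrivial U := Finite.one_lt_card_iff_nontrivial.1 (by
    rw [B.data.cardU]; exact Nat.one_lt_two_pow (by have := B.two_le_b; omega))
  obtain ⟨K, hKm⟩ := Set.Finite.exists_maximal
    (Set.toFinite {K : Subgroup X | K ≤ A ∧ fixSet X U (K : Set X) ≠ ⊥})
    ⟨⊥, bot_le, fun h => by
      obtain ⟨u, hu⟩ := exists_ne (0 : U)
      exact hu (AddSubgroup.mem_bot.1 (h ▸ (fun x hx => by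
        rw [mem_bot.1 hx, one_smul]) : u ∈ (⊥ : AddSubgroup U)))⟩
  obtain ⟨⟨hKA, hKne⟩, hKmax⟩ := hKm
  have hsup : ∀ c ∈ A, c ∉ K → fixSet X U ((K ⊔ zpowers c : Subgroup X) : Set X) = ⊥ := by
    intro c hc hcK
    by_contra h
    exact hcK (hKmax ⟨sup_le hKA (zpowers_le.2 hc), h⟩ le_sup_left
      (le_sup_right (a := K) (mem_zpowers c)))
  -- `A` is generated by `K` and any further element
  have hgen : ∀ c ∈ A, c ∉ K → A ≤ K ⊔ zpowers c := by
    intro c hc hcK d hd
    by_contra hdK
    set W := fixSet X U (K : Set X) with hW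
    have hWinv : ∀ x ∈ A, ∀ u ∈ W, x • u ∈ W := fun x hx u hu k hk => by
      rw [smul_smul, hcomm k (hKA hk) x hx, mul_smul, mem_fixSet.1 hu k hk]
    have hfree : ∀ x ∈ A, x ∉ K → ∀ u ∈ W, x • u = u → u = 0 := fun x hx hxK u hu e => by
      have : u ∈ fixSet X U ((K ⊔ zpowers x : Subgroup X) : Set X) := by
        intro w hw
        have hle : K ⊔ zpowers x ≤ MulAction.stabilizer X u :=
          sup_le (fun k hk => mem_fixSet.1 hu k hk) (zpowers_le.2 e)
        exact hle hw
      rw [hsup x hx hxK] at this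
      exact AddSubgroup.mem_bot.1 this
    -- the elementary abelian group generated by `c` and `d`
    have hCn : zpowers d ≤ normalizer ((zpowers c : Subgroup X) : Set X) := zpowers_le.2 <| by
      rw [Subgroup.mem_normalizer_iff]
      intro x
      refine ⟨fun hx => ?_, fun hx => ?_⟩
      · rwa [hcomm d hd x (zpowers_le.2 hc hx), mul_inv_cancel_right]
      · have h2 := hcomm d hd _ (zpowers_le.2 hc hx)
        have e : x = d * x * d⁻¹ := by
          calc x = d⁻¹ * (d * x * d⁻¹ * d) := by group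
            _ = d⁻¹ * (d * (d * x * d⁻¹)) := by rw [h2]
            _ = d * x * d⁻¹ := by group
        rwa [← e] at hx
    set C := zpowers c ⊔ zpowers d with hC
    have hCA : C ≤ A := sup_le (zpowers_le.2 hc) (zpowers_le.2 hd)
    have hoc : orderOf c = s := orderOf_eq_prime (hexp c hc) (fun e => hcK (e ▸ one_mem K))
    have hod : orderOf d = s := orderOf_eq_prime (hexp d hd) (fun e => hdK (e ▸ one_mem _))
    have hCK : C ⊓ K = ⊥ := by
      rw [Subgroup.eq_bot_iff_forall]
      rintro w ⟨hwC, hwK⟩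
      obtain ⟨c', hc', d', hd', rfl⟩ := CfsgLib.Solvable.exists_mul_of_mem_sup hCn hwC
      by_cases h1 : d' = 1
      · subst h1
        rw [mul_one] at hwK ⊢
        by_contra hne
        exact hcK ((zpowers_le.2 hwK : zpowers c' ≤ K) (mem_zpowers_of_prime hoc hc' hne))
      · exfalso
        refine hdK (zpowers_le.2 ?_ (mem_zpowers_of_prime hod hd' h1))
        rw [show d' = c'⁻¹ * (c' * d') by group]
        exact mul_mem (inv_mem ((le_sup_right : zpowers c ≤ K ⊔ zpowers c) hc'))
          ((le_sup_left : K ≤ K ⊔ zpowers c) hwK)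
    have hcard : Nat.card C = s ^ 2 := by
      rw [hC, CfsgLib.Solvable.card_sup_of_disjoint hCn (by
          rw [Subgroup.eq_bot_iff_forall]
          rintro w ⟨hw1, hw2⟩
          by_contra hne
          exact hdK (le_sup_right (a := K) (zpowers_le.2 hw1 (mem_zpowers_of_prime hod hw2 hne)))),
        Nat.card_zpowers, Nat.card_zpowers, hoc, hod, pow_two]
    let ε : C →* AddMonoid.End W :=
      { toFun := fun x =>
          { toFun := fun u => ⟨(x : X) • (u : U), hWinv _ (hCA x.2) _ u.2⟩
            map_zero' := Subtype.ext (smul_zero _)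
            map_add' := fun u v => Subtype.ext (smul_add _ _ _) }
        map_one' := AddMonoidHom.ext fun u => Subtype.ext (one_smul X (u : U))
        map_mul' := fun x x' => AddMonoidHom.ext fun u =>
          Subtype.ext (mul_smul (x : X) (x' : X) (u : U)) }
    letI : CommGroup C := { (inferInstance : Group C) with
      mul_comm := fun p q => Subtype.ext (hcomm _ (hCA p.2) _ (hCA q.2)) }
    have hfx : ∀ (x : C) (u : W), x ≠ 1 → ε x u = u → u = 0 := fun x u hx e =>
      Subtype.ext (hfree x (hCA x.2) (fun hxK => hx (Subtype.ext (by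
        have : (x : X) ∈ C ⊓ K := ⟨x.2, hxK⟩
        rw [hCK, mem_bot] at this
        exact this))) u u.2 (congrArg Subtype.val e))
    haveI : Nontrivial C := Finite.one_lt_card_iff_nontrivial.1 (by
      rw [hcard]; exact Nat.one_lt_pow two_ne_zero hs.out.one_lt)
    apply hKne
    rw [AddSubgroup.eq_bot_iff_forall]
    intro u hu
    have hcl := CfsgLib.Solvable.nsmul_mem_closure_fixed hcard
      (fun x => Subtype.ext (hexp _ (hCA x.2))) ε (fun v hv => by
        obtain ⟨x, hx⟩ := exists_ne (1 : C)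
        exact hfx x v hx (hv x)) (⟨u, hu⟩ : W)
    have hset : {w : W | ∃ x : C, x ≠ 1 ∧ ε x w = w} ⊆ {0} := by
      rintro w ⟨x, hx, e⟩; exact hfx x w hx e
    have h0 := (AddSubgroup.closure_mono hset).trans
      (le_of_eq AddSubgroup.closure_singleton_zero) hcl
    have h0 : s • u = 0 := by
      have := congrArg Subtype.val (AddSubgroup.mem_bot.1 h0)
      simpa using this
    obtain ⟨j, rfl⟩ := hso
    rwa [add_smul, mul_smul, two_smul, B.hyp.two, zero_add, one_smul] at h0
  -- the conjugates of `K`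
  have hKA' : K ≠ A := fun e => by
    rw [e] at hKne; exact hKne hfixA
  obtain ⟨c₀, hc₀, hc₀K⟩ : ∃ c ∈ A, c ∉ K := by
    by_contra h
    push Not at h
    exact hKA' (le_antisymm hKA h)
  have hKbot : K ≠ ⊥ := by
    intro e
    have hle := Nat.card_le_card_of_injective _ (inclusion_injective (hgen c₀ hc₀ hc₀K))
    rw [e, bot_sup_eq, Nat.card_zpowers,
      orderOf_eq_prime (hexp _ hc₀) (fun e1 => hc₀K (e1 ▸ one_mem K))] at hle
    omega
  let Kc : ℕ → Subgroup X := fun i => K.map (MulAut.conj (y ^ i)).toMonoidHom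
  have hmemKc : ∀ i x, x ∈ Kc i ↔ (y ^ i)⁻¹ * x * y ^ i ∈ K := fun i x =>
    ⟨fun ⟨w, hw, e⟩ => by
      have e : y ^ i * w * (y ^ i)⁻¹ = x := e
      rwa [← e, show (y ^ i)⁻¹ * (y ^ i * w * (y ^ i)⁻¹) * y ^ i = w by group],
    fun h => ⟨_, h, by show y ^ i * _ * (y ^ i)⁻¹ = x; group⟩⟩
  have hAi : ∀ i : ℕ, ∀ x ∈ A, y ^ i * x * (y ^ i)⁻¹ ∈ A := by
    intro i
    induction i with
    | zero => intro x hx; simpa using hx
    | succ i ih =>
      intro x hx
      have := hyA _ (ih x hx)
      rwa [show y * (y ^ i * x * (y ^ i)⁻¹) * y⁻¹ = y ^ (i + 1) * x * (y ^ (i + 1))⁻¹ by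
        rw [pow_succ']; group] at this
  have hne : ∀ i j : Fin r, i ≠ j → Kc i ≠ Kc j := by
    intro i j hij e
    refine hKbot (hstab K ?_ hKne)
    -- `y ^ (j - i)` generates `⟨y⟩` and normalises `K`
    set N := normalizer (K : Set X)
    have hmemN : (y ^ (i : ℕ))⁻¹ * y ^ (j : ℕ) ∈ N := by
      rw [Subgroup.mem_normalizer_iff]
      intro x
      constructor
      · intro hx
        have h2 : y ^ (j : ℕ) * x * (y ^ (j : ℕ))⁻¹ ∈ Kc j := ⟨x, hx, rfl⟩
        rw [← e, hmemKc] at h2
        convert h2 using 1; group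
      · intro hx
        have h2 : y ^ (j : ℕ) * x * (y ^ (j : ℕ))⁻¹ ∈ Kc i := by
          rw [hmemKc]; convert hx using 1; group
        rw [e, hmemKc] at h2
        convert h2 using 1; group
    have hne1 : (y ^ (i : ℕ))⁻¹ * y ^ (j : ℕ) ≠ 1 := fun h1 => hij (Fin.ext
      ((pow_inj_mod.1 (eq_of_inv_mul_eq_one h1)).trans (by rw [hy, Nat.mod_eq_of_lt j.2]) |> fun h2 => by
        rw [hy, Nat.mod_eq_of_lt i.2] at h2; exact h2))
    have hyN : y ∈ N := zpowers_le.2 hmemN (mem_zpowers_of_prime hy
      (mul_mem (inv_mem (pow_mem (mem_zpowers y) _)) (pow_mem (mem_zpowers y) _)) hne1)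
    exact fun x hx => (Subgroup.mem_normalizer_iff.1 hyN x).1 hx
  haveI := Fintype.ofFinite X
  let e : Fin r → U →+ U := fun i => ∑ k : Kc i, DistribSMul.toAddMonoidHom U (k : X)
  have hKcA : ∀ i, Kc i ≤ A := by
    rintro i _ ⟨w, hw, rfl⟩; exact hAi i w (hKA hw)
  have heapp : ∀ i u, e i u = ∑ k : Kc i, (k : X) • u := fun i u => by
    simp only [e, AddMonoidHom.finset_sum_apply]; rfl
  have hefix : ∀ i : Fin r, ∀ u ∈ fixSet X U (Kc i : Set X), e i u = u := by
    intro i u hu
    rw [heapp, Finset.sum_congr rfl fun k _ => mem_fixSet.1 hu _ k.2, Finset.sum_const,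
      Finset.card_univ, ← Nat.card_eq_fintype_card]
    have hodd : Odd (Nat.card (Kc i)) := by
      have hp : IsPGroup s (Kc i) := fun x => ⟨1, Subtype.ext (by
        rw [pow_one]; exact hexp _ (hKcA i x.2))⟩
      obtain ⟨t, ht⟩ := IsPGroup.iff_card.1 hp
      rw [ht]; exact hso.pow
    obtain ⟨t, ht⟩ := hodd
    rw [ht, add_smul, mul_smul, two_smul, B.hyp.two, zero_add, one_smul]
  have hezero : ∀ i j : Fin r, i ≠ j → ∀ u ∈ fixSet X U (Kc j : Set X), e i u = 0 := by
    intro i j hij u hu
    have hfixboth : ∀ c ∈ Kc i ⊔ Kc j, c • e i u = e i u := by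
      intro c hc
      have hle : Kc i ⊔ Kc j ≤ MulAction.stabilizer X (e i u) := by
        refine sup_le (fun c hc => ?_) (fun c hc => ?_)
        · rw [MulAction.mem_stabilizer_iff, heapp, Finset.smul_sum]
          refine Fintype.sum_equiv (Equiv.mulLeft ⟨c, hc⟩) _ _ fun k => ?_
          rw [Equiv.coe_mulLeft, Subgroup.coe_mul, mul_smul]
        · rw [MulAction.mem_stabilizer_iff, heapp, Finset.smul_sum]
          refine Finset.sum_congr rfl fun k _ => ?_
          rw [smul_smul, hcomm c (hKcA j hc) k (hKcA i k.2), mul_smul, mem_fixSet.1 hu c hc]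
      exact hle hc
    -- the two conjugates generate `A`
    obtain ⟨c, hci, hcj⟩ : ∃ c ∈ Kc j, c ∉ Kc i := by
      by_contra h
      push Not at h
      refine hne i j hij (Subgroup.eq_of_le_of_card_ge h ?_).symm
      rw [card_map_of_injective (MulAut.conj _).injective,
        card_map_of_injective (MulAut.conj _).injective]
    have hAle : A ≤ Kc i ⊔ Kc j := by
      set c' := (y ^ (i : ℕ))⁻¹ * c * y ^ (i : ℕ) with hc'
      have hc'A : c' ∈ A := by
        have hle : A.map (MulAut.conj (y ^ (i : ℕ))).toMonoidHom ≤ A := by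
          rintro _ ⟨w, hw, rfl⟩; exact hAi i w hw
        have heq := Subgroup.eq_of_le_of_card_ge hle
          (card_map_of_injective (MulAut.conj _).injective).ge
        obtain ⟨w, hw, e'⟩ := (heq.ge (hKcA j hci) : c ∈ A.map (MulAut.conj (y ^ (i : ℕ))).toMonoidHom)
        have e' : y ^ (i : ℕ) * w * (y ^ (i : ℕ))⁻¹ = c := e'
        rwa [hc', ← e', show (y ^ (i : ℕ))⁻¹ * (y ^ (i : ℕ) * w * (y ^ (i : ℕ))⁻¹) * y ^ (i : ℕ) = w by group]
      have hgen' := hgen c' hc'A (fun h => hcj ((hmemKc i c).2 h))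
      intro x hx
      have hle : A.map (MulAut.conj (y ^ (i : ℕ))).toMonoidHom ≤
          (K ⊔ zpowers c').map (MulAut.conj (y ^ (i : ℕ))).toMonoidHom := map_mono hgen'
      have heqA : A.map (MulAut.conj (y ^ (i : ℕ))).toMonoidHom = A :=
        Subgroup.eq_of_le_of_card_ge (by rintro _ ⟨w, hw, rfl⟩; exact hAi i w hw)
          (card_map_of_injective (MulAut.conj _).injective).ge
      rw [heqA, Subgroup.map_sup] at hle
      refine (sup_le (le_sup_left : Kc i ≤ Kc i ⊔ Kc j) ?_) (hle hx)
      rw [MonoidHom.map_zpowers, zpowers_le]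
      refine (le_sup_right : Kc j ≤ Kc i ⊔ Kc j) ?_
      show y ^ (i : ℕ) * c' * (y ^ (i : ℕ))⁻¹ ∈ Kc j
      rwa [hc', show y ^ (i : ℕ) * ((y ^ (i : ℕ))⁻¹ * c * y ^ (i : ℕ)) * (y ^ (i : ℕ))⁻¹ = c by group]
    have : e i u ∈ fixSet X U (A : Set X) := fun c hc => hfixboth c (hAle hc)
    rw [hfixA] at this
    exact AddSubgroup.mem_bot.1 this
  -- the sum of the fixed spaces is direct
  let Φ : (∀ i : Fin r, fixSet X U (Kc i : Set X)) → U := fun v => ∑ i, (v i : U)
  have hΦ : Function.Injective Φ := by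
    intro v v' hvv
    funext j
    refine Subtype.ext ?_
    have hj : ∀ v : ∀ i : Fin r, fixSet X U (Kc i : Set X), e j (Φ v) = (v j : U) := fun v => by
      rw [map_sum, Finset.sum_eq_single j (fun i _ hi => hezero j i hi.symm _ (v i).2)
        (fun h => absurd (Finset.mem_univ j) h), hefix j _ (v j).2]
    rw [← hj v, ← hj v', hvv]
  have hcard := Nat.card_le_card_of_injective Φ hΦ
  rw [Nat.card_pi, B.data.cardU] at hcard
  have hlow : ∀ i : Fin r, 2 ≤ Nat.card (fixSet X U (Kc i : Set X)) := by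
    intro i
    have e : (Kc i : Set X) = (fun c => y ^ (i : ℕ) * c * (y ^ (i : ℕ))⁻¹) '' (K : Set X) := rfl
    rw [e, card_fixSet_conj]
    rcases Nat.lt_or_ge (Nat.card (fixSet X U (K : Set X))) 2 with h | h
    · refine absurd (AddSubgroup.card_eq_one.1 ?_) hKne
      have : 0 < Nat.card (fixSet X U (K : Set X)) := Nat.card_pos
      omega
    · exact h
  have h2 : 2 ^ r ≤ 2 ^ (2 * b) := by
    refine le_trans ?_ hcard
    have := Finset.prod_le_prod' (s := Finset.univ) fun i _ => hlow i
    simpa using this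
  have := (Nat.pow_le_pow_iff_right (show 1 < 2 by norm_num)).1 h2
  have := B.ppd.lt (by have := B.two_le_b; omega)
  omega

end Big

end CfsgLib.FGS.RealGraph
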