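import Cfsg.Agent.Lib.FGS.RealGraph.Main

/-!
# Solvability for a disconnected real class size graph
-/

namespace CfsgLib.FGS.RealGraph

open Subgroup

variable {G : Type*} [Group G] [Finite G]

theorem real_of_involution {v : G} (hv : orderOf v = 2) : (1 : G) * v * (1 : G)⁻¹ = v⁻¹ := by
  have : v * v = 1 := by rw [← pow_two, ← hv, pow_orderOf_eq_one]
  rw [inv_eq_of_mul_eq_one_left this]; group

theorem orderOf_dvd_of_mk {N : Subgroup G} [N.Normal] {v₀ : G} {m : ℕ}
    (h : (QuotientGroup.mk v₀ : G ⧸ N) ^ m = 1) : orderOf v₀ ∣ m * Nat.card N := by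
  refine orderOf_dvd_of_pow_eq_one ?_
  rw [pow_mul]
  have hmem : v₀ ^ m ∈ N := by rw [← QuotientGroup.eq_one_iff, QuotientGroup.mk_pow, h]
  exact congrArg Subtype.val (pow_card_eq_one' (G := N) (x := ⟨_, hmem⟩))

theorem exists_invol {N : Subgroup G} [N.Normal] (hN : Odd (Nat.card N)) {vb : G ⧸ N}
    (hv : orderOf vb = 2) : ∃ v : G, orderOf v = 2 ∧ QuotientGroup.mk' N v = vb := by
  obtain ⟨v₀, rfl⟩ := QuotientGroup.mk'_surjective N vb
  refine ⟨v₀ ^ Nat.card N, ?_, ?_⟩
  · refine orderOf_eq_prime ?_ ?_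
    · rw [← pow_mul, mul_comm]
      exact orderOf_dvd_iff_pow_eq_one.1 (orderOf_dvd_of_mk (m := 2) (by
        have := pow_orderOf_eq_one (QuotientGroup.mk' N v₀)
        rwa [hv] at this))
    · intro h1
      have h2 : orderOf (QuotientGroup.mk' N v₀) ∣ Nat.card N := orderOf_dvd_of_pow_eq_one (by
        rw [← map_pow, h1, map_one])
      rw [hv] at h2
      exact Nat.two_dvd_ne_zero.2 (Nat.odd_iff.1 hN) h2
  · obtain ⟨j, hj⟩ := hN
    rw [map_pow, hj, pow_succ, pow_mul]
    have h2 := pow_orderOf_eq_one (QuotientGroup.mk' N v₀)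
    rw [hv] at h2
    rw [h2, one_pow, one_mul]

/-- If the primes dividing real class sizes split into two parts that never meet in one class
size, the second one free of `2`, the group is solvable. -/
theorem isSolvable_of_split (π₁ π₂ : Set ℕ) (h₂ : π₂.Nonempty)
    (hcover : ∀ q : ℕ, q.Prime → ∀ x g : G, g * x * g⁻¹ = x⁻¹ → q ∣ cls x → q ∈ π₁ ∨ q ∈ π₂)
    (hvert : ∀ q ∈ π₂, q.Prime ∧ ∃ x g : G, g * x * g⁻¹ = x⁻¹ ∧ q ∣ cls x)
    (htwo : 2 ∉ π₂)
    (hnoedge : ∀ a ∈ π₁, ∀ b ∈ π₂, ∀ x g : G, g * x * g⁻¹ = x⁻¹ → ¬ (a ∣ cls x ∧ b ∣ cls x)) :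
    Group.IsSolvable G := by
  classical
  haveI : Fact (Nat.Prime 2) := ⟨Nat.prime_two⟩
  -- a real element with even class size has no prime of `π₂` in its class size
  have heven : ∀ x g : G, g * x * g⁻¹ = x⁻¹ → 2 ∣ cls x → ∀ p ∈ π₂, ¬ p ∣ cls x := by
    intro x g hx h2 p hp hd
    rcases hcover 2 Nat.prime_two x g hx h2 with h | h
    · exact hnoedge 2 h p hp x g hx ⟨h2, hd⟩
    · exact htwo h
  have hall : ∀ x g : G, g * x * g⁻¹ = x⁻¹ → ∀ p ∈ π₂, p ∣ cls x →
      ∀ q : ℕ, q.Prime → q ∣ cls x → q ∈ π₂ := by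
    intro x g hx p hp hd q hq hqd
    rcases hcover q hq x g hx hqd with h | h
    · exact absurd ⟨hqd, hd⟩ (hnoedge q h p hp x g hx)
    · exact h
  have hsq : ∀ x g : G, g * x * g⁻¹ = x⁻¹ → ∀ p ∈ π₂, p ∣ cls x → x ^ 2 = 1 := by
    intro x g hx p hp hd
    by_contra hne
    exact heven x g hx (two_dvd_cls hx hne) p hp hd
  have hreal : ∀ z g : G, Odd (orderOf z) → g * z * g⁻¹ = z⁻¹ → z ≠ 1 → ∀ p ∈ π₂, ¬ p ∣ cls z := by
    intro z g hzo hz hz1 p hp hd
    refine hz1 (eq_one_of_inv_self hzo ?_)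
    have := hsq z g hz p hp hd
    rw [pow_two] at this
    exact (inv_eq_of_mul_eq_one_left this).symm
  -- centralisers of involutions with a prime of `π₂` in the class size
  have hclosed : ∀ v : G, orderOf v = 2 → (∃ p ∈ π₂, p ∣ cls v) →
      NoReal (centralizer ({v} : Set G)) := by
    rintro v hv ⟨p, hp, hd⟩ z hz g hg hzo hzg
    by_contra hz1
    rw [mem_centralizer_singleton_iff] at hz hg
    have hvv : v * v = 1 := by rw [← pow_two, ← hv, pow_orderOf_eq_one]
    have hvi : v⁻¹ = v := inv_eq_of_mul_eq_one_left hvv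
    have hx : g * (z * v) * g⁻¹ = (z * v)⁻¹ := by
      rw [← conj_mul, hzg, hg, mul_inv_cancel_right, mul_inv_rev, hvi]
      exact (Commute.inv_left (hz : Commute z v)).eq
    have hz2 : (z * v) ^ 2 = z ^ 2 := by
      rw [(show Commute z v from hz).mul_pow, pow_two v, hvv, mul_one]
    have hne : (z * v) ^ 2 ≠ 1 := by
      rw [hz2]
      intro h2
      exact hz1 (orderOf_eq_one_iff.1 (Nat.eq_one_of_dvd_coprimes (Nat.coprime_two_left.2 hzo).symm
        dvd_rfl (orderOf_dvd_of_pow_eq_one h2)))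
    refine heven _ g hx (two_dvd_cls hx hne) p hp (hd.trans (index_dvd_of_le ?_))
    -- `v` is a power of `z * v`
    intro c hc
    rw [mem_centralizer_singleton_iff] at hc ⊢
    have e : (z * v) ^ orderOf z = v := by
      obtain ⟨j, hj⟩ := hzo
      rw [(show Commute z v from hz).mul_pow, pow_orderOf_eq_one, one_mul, hj, pow_succ, pow_mul,
        pow_two, hvv, one_pow, one_mul]
    have := ((show Commute c (z * v) from hc).pow_right (orderOf z)).eq
    rwa [e] at this
  -- an involution with a prime of `π₂` in its class size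
  obtain ⟨q, hq⟩ := h₂
  obtain ⟨hqp, t, gt, hgt, hqt⟩ := hvert q hq
  have ht : orderOf t = 2 := by
    refine orderOf_eq_prime (hsq t gt hgt q hq hqt) fun h1 => ?_
    have e : cls t = 1 := by
      rw [h1]
      exact index_eq_one.2 (eq_top_iff.2 fun c _ => mem_centralizer_singleton_iff.2 (by rw [mul_one, one_mul]))
    rw [e] at hqt
    exact hqp.not_dvd_one hqt
  -- the largest normal subgroup of odd order
  obtain ⟨N, hNm⟩ := Set.Finite.exists_maximal
    (Set.toFinite {N : Subgroup G | N.Normal ∧ Odd (Nat.card N)})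
    ⟨⊥, inferInstance, by rw [card_bot]; exact odd_one⟩
  obtain ⟨⟨hNn, hNodd⟩, hNmax⟩ := hNm
  haveI := hNn
  set π := QuotientGroup.mk' N
  have hπs : Function.Surjective π := QuotientGroup.mk'_surjective N
  haveI := Cfsg.Agent.S0205.result hNodd
  have hmapC : ∀ v : G, orderOf v = 2 →
      centralizer ({π v} : Set (G ⧸ N)) = (centralizer ({v} : Set G)).map π := by
    intro v hv
    refine le_antisymm (fun x hx => ?_) ?_
    · obtain ⟨g, rfl⟩ := hπs x
      obtain ⟨g', hg', e⟩ := exists_centralizer_lift hNodd (g := g)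
        (by rw [← hv, pow_orderOf_eq_one]) (mem_centralizer_singleton_iff.1 hx)
      exact ⟨g', mem_centralizer_singleton_iff.2 hg', e⟩
    · rintro _ ⟨c, hc, rfl⟩
      rw [mem_centralizer_singleton_iff, ← map_mul, ← map_mul, mem_centralizer_singleton_iff.1 hc]
  have hclosed' : ∀ v : G, orderOf v = 2 → (∃ p ∈ π₂, p ∣ cls v) →
      NoReal (centralizer ({π v} : Set (G ⧸ N))) := by
    intro v hv hp
    rw [hmapC v hv]
    intro z hz g hg hzo hzg
    by_contra hz1
    have hN' := hclosed v hv hp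
    set C := centralizer ({v} : Set G)
    obtain ⟨P⟩ : Nonempty (Sylow 2 C) := inferInstance
    have hPn := hN'.normal_sylow P
    let f := π.subgroupMap C
    have hf : Function.Surjective f := π.subgroupMap_surjective C
    exact (Cfsg.Agent.S3861.result (P.mapSurjective hf)).2 (hPn.map f hf) ⟨z, hz⟩
      (fun e => hz1 (congrArg Subtype.val e)) (by rwa [Subgroup.orderOf_mk])
      (isConj_iff.2 ⟨⟨g, hg⟩, Subtype.ext hzg⟩)
  by_cases ht1 : centralizer ({π t} : Set (G ⧸ N)) = ⊤
  · haveI : Group.IsSolvable (G ⧸ N) := isSolvable_of_noReal_top (ht1 ▸ hclosed' t ht ⟨q, hq, hqt⟩)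
    exact solvable_of_surjective' π (by rw [QuotientGroup.ker_mk']; infer_instance) inferInstance
  have hR : Reduced (G ⧸ N) π₂ := by
    refine ⟨htwo, fun vb hvb => ?_, fun zb gb hzo hzg hz1 p hp hpp hd => ?_, fun vb hvb hp => ?_,
      fun M hM hModd => ?_, ⟨π t, ?_, ?_⟩⟩
    · obtain ⟨v₀, rfl⟩ := hπs vb
      by_contra hc
      push Not at hc
      obtain ⟨⟨p, hp, hpp, hpd⟩, ⟨r, hrp, hrd, hr⟩⟩ := hc
      obtain ⟨v, hv, hve⟩ := exists_invol hNodd hvb
      rw [← hve] at hpd hrd
      exact hr (hall v 1 (real_of_involution hv) p hp (hpd.trans (cls_dvd_of_map π hπs v)) r hrp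
        (hrd.trans (cls_dvd_of_map π hπs v)))
    · obtain ⟨y, g, hyo, hyg, hye⟩ := exists_real_lift hNodd hzo hzg
      have hz2 : zb ^ 2 ≠ 1 := fun h2 => hz1 (orderOf_eq_one_iff.1
        (Nat.eq_one_of_dvd_coprimes (Nat.coprime_two_left.2 hzo).symm dvd_rfl (orderOf_dvd_of_pow_eq_one h2)))
      have hy1 : y ≠ 1 := fun e => hz2 (by rw [← hye, e]; rfl)
      have hcls : cls zb = cls (π y) := by
        rw [cls, cls, show π y = zb ^ 2 from hye]
        refine congrArg index (centralizer_eq_of_zpowers (le_antisymm ?_ (zpowers_le.2 (pow_mem (mem_zpowers zb) 2))))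
        obtain ⟨j, hj⟩ := exists_pow_eq_self_of_coprime (x := zb) (Nat.coprime_two_left.2 hzo)
        exact zpowers_le.2 (by have := pow_mem (mem_zpowers (zb ^ 2)) j; rwa [hj] at this)
      exact hreal y g hyo hyg hy1 p hp ((hcls ▸ hd).trans (cls_dvd_of_map π hπs y))
    · obtain ⟨v, hv, rfl⟩ := exists_invol hNodd hvb
      obtain ⟨p, hp, hpp, hd⟩ := hp
      exact hclosed' v hv ⟨p, hp, hd.trans (cls_dvd_of_map π hπs v)⟩
    · haveI := hM
      have hle : N ≤ M.comap π := fun n hn => by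
        rw [mem_comap, show π n = 1 from (QuotientGroup.eq_one_iff n).2 hn]
        exact one_mem M
      have hcard : Odd (Nat.card (M.comap π)) := by
        rw [← (N.subgroupOf (M.comap π)).card_mul_index,
          Nat.card_congr (subgroupOfEquivOfLe hle).toEquiv]
        refine hNodd.mul (hModd.of_dvd_nat (dvd_of_eq ?_))
        show N.relIndex (M.comap π) = _
        have h4 := relIndex_comap (⊥ : Subgroup (G ⧸ N)) π (M.comap π)
        rw [MonoidHom.comap_bot, QuotientGroup.ker_mk', map_comap_eq_self_of_surjective hπs,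
          relIndex_bot_left] at h4
        exact h4
      have := hNmax ⟨inferInstance, hcard⟩ hle
      rw [Subgroup.eq_bot_iff_forall]
      intro x hx
      obtain ⟨g, rfl⟩ := hπs x
      exact (QuotientGroup.eq_one_iff g).2 (this hx)
    · refine orderOf_eq_prime (by rw [← map_pow, ← ht, pow_orderOf_eq_one, map_one]) fun h1 => ?_
      exact ht1 (eq_top_iff.2 fun c _ => mem_centralizer_singleton_iff.2 (by rw [h1, mul_one, one_mul]))
    · have h1 : cls (π t) ≠ 1 := fun e => ht1 (index_eq_one.1 e)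
      obtain ⟨r, hr, hrd⟩ := Nat.exists_prime_and_dvd h1
      exact ⟨r, hall t gt hgt q hq hqt r hr (hrd.trans (cls_dvd_of_map π hπs t)), hr, hrd⟩
  exact solvable_of_surjective' π (by rw [QuotientGroup.ker_mk']; infer_instance) hR.isSolvable

end CfsgLib.FGS.RealGraph
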