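import Cfsg.Agent.Lib.FGS.RealGraph.Solvable

/-!
# The subgroup generated by the 2-elements when the real class size graph is disconnected
-/

namespace CfsgLib.FGS.RealGraph

open Subgroup

variable {G : Type*} [Group G] [Finite G]

omit [Finite G] in
theorem inv_of_sq {a : G} (ha : a * a = 1) : (1 : G) * a * (1 : G)⁻¹ = a⁻¹ := by
  rw [inv_eq_of_mul_eq_one_left ha]; group

/-- Translating an odd conjugacy class by an involution. -/
theorem central_of_product {a b : G} (hb : b * b = 1)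
    (hcomm : ∀ g : G, g * b * g⁻¹ * b = b * (g * b * g⁻¹)) (hcop : (cls a).Coprime (cls b))
    (hdvd : cls (a * b) ∣ cls a) (hodd : Odd (cls a)) : b ∈ center G := by
  classical
  set Ω := {w : G | IsConj a w}
  set cu := {w : G | IsConj (a * b) w}
  have hfin : cu.Finite := Set.toFinite _
  have hΩb : (fun w => w * b) '' Ω ⊆ cu := by
    rintro _ ⟨w, hw, rfl⟩
    obtain ⟨g, rfl⟩ := isConj_iff.1 hw
    obtain ⟨c, hc, d, hd, rfl⟩ := CfsgLib.Solvable.mul_of_coprime_index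
      (H := centralizer ({b} : Set G)) (K := centralizer ({a} : Set G)) hcop.symm g
    refine isConj_iff.2 ⟨c, ?_⟩
    rw [mem_centralizer_singleton_iff] at hc hd
    calc c * (a * b) * c⁻¹ = (c * a * c⁻¹) * (c * b * c⁻¹) := by group
      _ = (c * d * a * (c * d)⁻¹) * b := by
        rw [hc, mul_inv_cancel_right]
        congr 1
        calc c * a * c⁻¹ = c * (a * d) * d⁻¹ * c⁻¹ := by group
          _ = c * (d * a) * d⁻¹ * c⁻¹ := by rw [hd]
          _ = _ := by group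
  have hcΩ : ((fun w => w * b) '' Ω).ncard = cls a := by
    rw [Set.ncard_image_of_injective _ (mul_left_injective b), ncard_conjClass]
  have heq : (fun w => w * b) '' Ω = cu := Set.eq_of_subset_of_ncard_le hΩb (by
    rw [hcΩ, ncard_conjClass]
    exact Nat.le_of_dvd (Nat.pos_of_ne_zero Subgroup.index_ne_zero_of_finite) hdvd) hfin
  refine Subgroup.mem_center_iff.2 fun g => ?_
  by_contra hg
  set w₀ := g * b * g⁻¹ * b with hw₀
  have hw₀1 : w₀ ≠ 1 := fun e => hg (by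
    rw [hw₀, mul_eq_one_iff_eq_inv, inv_eq_of_mul_eq_one_left hb, mul_inv_eq_iff_eq_mul] at e
    exact e)
  have hgb : g * b * g⁻¹ * (g * b * g⁻¹) = 1 := by rw [conj_mul, hb]; group
  have hww : w₀ * w₀ = 1 := by
    calc w₀ * w₀ = g * b * g⁻¹ * (b * (g * b * g⁻¹)) * b := by rw [hw₀]; group
      _ = g * b * g⁻¹ * (g * b * g⁻¹ * b) * b := by rw [hcomm g]
      _ = (g * b * g⁻¹ * (g * b * g⁻¹)) * (b * b) := by group
      _ = 1 := by rw [hgb, hb, one_mul]
  have hstep : ∀ w ∈ Ω, w * w₀ ∈ Ω := by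
    intro w hw
    have hw' : g⁻¹ * w * g ∈ Ω := hw.trans (isConj_iff.2 ⟨g⁻¹, by group⟩)
    have h1 : g⁻¹ * w * g * b ∈ cu := hΩb ⟨_, hw', rfl⟩
    have h2 : w * (g * b * g⁻¹) ∈ cu := h1.trans (isConj_iff.2 ⟨g, by group⟩)
    rw [← heq] at h2
    obtain ⟨w', hw'', e⟩ := h2
    have e : w' * b = w * (g * b * g⁻¹) := e
    rwa [hw₀, ← mul_assoc w, ← e, mul_assoc, hb, mul_one]
  have heven : (Ω.ncard : ZMod 2) = 0 := by
    rw [Set.ncard_eq_toFinset_card Ω (Set.toFinite _),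
      ← mul_one (((Set.toFinite Ω).toFinset.card : ℕ) : ZMod 2), ← nsmul_eq_mul, ← Finset.sum_const]
    refine Finset.sum_involution (fun w _ => w * w₀) (fun w _ => ?_) (fun w _ _ e => hw₀1 ?_)
      (fun w hw => ?_) (fun w _ => ?_)
    · decide
    · exact mul_left_cancel (a := w) (by rw [mul_one]; exact e)
    · simp only [Set.Finite.mem_toFinset] at hw ⊢; exact hstep w hw
    · rw [mul_assoc, hww, mul_one]
  rw [ncard_conjClass, ZMod.natCast_eq_zero_iff] at heven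
  exact Nat.two_dvd_ne_zero.2 (Nat.odd_iff.1 hodd) heven

/-- A disconnected real class size graph has `2` as a vertex. -/
theorem exists_even_real (π₁ π₂ : Set ℕ)
    (hcover : ∀ q : ℕ, q.Prime → ∀ x g : G, g * x * g⁻¹ = x⁻¹ → q ∣ cls x → q ∈ π₁ ∨ q ∈ π₂)
    (hv₁ : ∃ q ∈ π₁, q.Prime ∧ ∃ x g : G, g * x * g⁻¹ = x⁻¹ ∧ q ∣ cls x)
    (hv₂ : ∃ q ∈ π₂, q.Prime ∧ ∃ x g : G, g * x * g⁻¹ = x⁻¹ ∧ q ∣ cls x)
    (hnoedge : ∀ a ∈ π₁, ∀ b ∈ π₂, ∀ x g : G, g * x * g⁻¹ = x⁻¹ → ¬ (a ∣ cls x ∧ b ∣ cls x)) :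
    ∃ x g : G, g * x * g⁻¹ = x⁻¹ ∧ 2 ∣ cls x := by
  classical
  haveI : Fact (Nat.Prime 2) := ⟨Nat.prime_two⟩
  by_contra hc
  push Not at hc
  have hsq : ∀ x g : G, g * x * g⁻¹ = x⁻¹ → x * x = 1 := fun x g hx => by
    by_contra hne
    exact hc x g hx (two_dvd_cls hx (by rwa [pow_two]))
  have hnr : NoReal (⊤ : Subgroup G) := fun z _ g _ hzo hzg =>
    eq_one_of_inv_self hzo (inv_eq_of_mul_eq_one_left (hsq z g hzg)).symm
  obtain ⟨P⟩ : Nonempty (Sylow 2 G) := inferInstance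
  have hPn : (P : Subgroup G).Normal := (Cfsg.Agent.S3861.result P).1 fun x hx1 hxo hconj => by
    obtain ⟨g, hg⟩ := isConj_iff.1 hconj
    exact hx1 (hnr x (mem_top x) g (mem_top g) hxo hg)
  have hodd : ∀ a : G, a * a = 1 → Odd (cls a) := fun a ha =>
    Nat.odd_iff.2 (Nat.two_dvd_ne_zero.1 (hc a 1 (inv_of_sq ha)))
  -- involutions lie in `P` and are centralised by it
  have hmem : ∀ a : G, a * a = 1 → a ∈ (P : Subgroup G) := fun a ha => by
    refine CfsgLib.FGS.mem_of_mem_normalizer P ?_ (by rw [normalizer_eq_top_iff.2 hPn]; trivial)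
    obtain ⟨i, -, hi⟩ := (Nat.dvd_prime_pow Nat.prime_two).1
      (show orderOf a ∣ 2 ^ 1 by rw [pow_one]; exact orderOf_dvd_of_pow_eq_one (by rw [pow_two, ha]))
    exact ⟨i, hi⟩
  have hcent : ∀ a : G, a * a = 1 → (P : Subgroup G) ≤ centralizer ({a} : Set G) := fun a ha => by
    obtain ⟨S, hS⟩ := exists_sylow_le (p := 2) (H := centralizer ({a} : Set G))
      (Nat.two_dvd_ne_zero.2 (Nat.odd_iff.1 (hodd a ha)))
    haveI := Sylow.unique_of_normal P hPn
    rwa [Subsingleton.elim P S]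
  have hcm : ∀ a b : G, a * a = 1 → b * b = 1 → a * b = b * a := fun a b ha hb =>
    mem_centralizer_singleton_iff.1 (hcent b hb (hmem a ha))
  have key : ∀ a b : G, a * a = 1 → b * b = 1 → (cls a).Coprime (cls b) →
      (cls (a * b)).Coprime (cls b) → cls b = 1 := by
    intro a b ha hb hab habb
    refine index_eq_one.2 (eq_top_iff.2 fun g _ => mem_centralizer_singleton_iff.2
      ((Subgroup.mem_center_iff.1 (central_of_product hb (fun g => hcm _ b (by rw [conj_mul, hb]; group) hb)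
        hab (habb.dvd_of_dvd_mul_right ?_) (hodd a ha))) g))
    have h1 : centralizer ({a} : Set G) ⊓ centralizer ({b} : Set G) ≤ centralizer ({a * b} : Set G) := by
      rintro c ⟨hc1, hc2⟩
      replace hc1 := mem_centralizer_singleton_iff.1 hc1
      replace hc2 := mem_centralizer_singleton_iff.1 hc2
      exact mem_centralizer_singleton_iff.2
        (Commute.mul_right (hc1 : Commute c a) (hc2 : Commute c b)).eq
    refine (index_dvd_of_le h1).trans (dvd_of_eq ?_)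
    exact (CfsgLib.Solvable.index_inf_of_coprime hab).2
  obtain ⟨p, hp, hpp, a, ga, hga, hpa⟩ := hv₁
  obtain ⟨q, hq, hqp, b, gb, hgb, hqb⟩ := hv₂
  have ha := hsq a ga hga
  have hb := hsq b gb hgb
  have hna : ∀ r ∈ π₂, r.Prime → ¬ r ∣ cls a := fun r hr _ hd => hnoedge p hp r hr a ga hga ⟨hpa, hd⟩
  have hnb : ∀ r ∈ π₁, r.Prime → ¬ r ∣ cls b := fun r hr _ hd => hnoedge r hr q hq b gb hgb ⟨hd, hqb⟩
  have hab : (cls a).Coprime (cls b) := cls_coprime (π := π₁) (fun r hr hd => by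
    rcases hcover r hr a ga hga hd with h | h
    · exact h
    · exact absurd hd (hna r h hr)) hnb
  have hu : a * b * (a * b) = 1 := by
    calc a * b * (a * b) = a * (b * a) * b := by group
      _ = (a * a) * (b * b) := by rw [← hcm a b ha hb]; group
      _ = 1 := by rw [ha, hb, one_mul]
  by_cases hcase : ∃ r ∈ π₂, r ∣ cls (a * b)
  · obtain ⟨r, hr, hrd⟩ := hcase
    have e := key b a hb ha hab.symm (by
      rw [← hcm a b ha hb]
      refine cls_coprime (π := π₂) (fun s hs hd => ?_) hna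
      rcases hcover s hs _ 1 (inv_of_sq hu) hd with h | h
      · exact absurd ⟨hd, hrd⟩ (hnoedge s h r hr _ 1 (inv_of_sq hu))
      · exact h)
    rw [e] at hpa
    exact hpp.not_dvd_one hpa
  · push Not at hcase
    have e := key a b ha hb hab (cls_coprime (π := π₁) (fun s hs hd => by
      rcases hcover s hs _ 1 (inv_of_sq hu) hd with h | h
      · exact h
      · exact absurd hd (hcase s h)) hnb)
    rw [e] at hqb
    exact hqp.not_dvd_one hqb

/-- A prime `r` divides no order of a solvable group generated by 2-elements in which a Sylow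
2-subgroup is normalised by a Sylow `r`-subgroup. -/
theorem not_dvd_card_of_normalize {K : Type*} [Group K] [Finite K] [Group.IsSolvable K]
    (hgen : closure {g : K | ∃ a : ℕ, orderOf g = 2 ^ a} = ⊤) (S : Sylow 2 K) {r : ℕ}
    [hr : Fact r.Prime] (hr2 : r ≠ 2) (R : Sylow r K)
    (hR : (R : Subgroup K) ≤ normalizer ((S : Subgroup K) : Set K)) : ¬ r ∣ Nat.card K := by
  classical
  haveI : Fact (Nat.Prime 2) := ⟨Nat.prime_two⟩
  set N := Cfsg.pPrimeCore r K
  intro hd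
  have hNne : N ≠ ⊤ := fun e => by
    have h := CfsgLib.Cores.not_dvd_card_pPrimeCore (G := K) r
    exact h (by rw [show Cfsg.pPrimeCore r K = ⊤ from e, card_top]; exact hd)
  set π := QuotientGroup.mk' N
  have hπ : Function.Surjective π := QuotientGroup.mk'_surjective N
  set F := Cfsg.fittingSubgroup (K ⧸ N)
  have hF : F = Cfsg.pCore r (K ⧸ N) := CfsgLib.Solvable.fittingSubgroup_eq_pCore_of_pPrimeCore_eq_bot r
    (CfsgLib.Cores.pPrimeCore_quotient_self r)
  set Sb := (S : Subgroup K).map π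
  have hRb : Cfsg.pCore r (K ⧸ N) ≤ (R : Subgroup K).map π :=
    CfsgLib.Cores.pCore_le_sylow (R.mapSurjective hπ)
  have hcomm : ∀ s ∈ Sb, ∀ w ∈ Cfsg.pCore r (K ⧸ N), w * s = s * w := by
    intro s hs w hw
    have h1 : w * s * w⁻¹ * s⁻¹ ∈ Sb := by
      have hwN : w ∈ normalizer (Sb : Set (K ⧸ N)) :=
        (le_normalizer_map π) (Subgroup.map_mono hR (hRb hw))
      exact mul_mem ((Subgroup.mem_normalizer_iff.1 hwN s).1 hs) (inv_mem hs)
    have h2 : w * s * w⁻¹ * s⁻¹ ∈ Cfsg.pCore r (K ⧸ N) := by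
      rw [show w * s * w⁻¹ * s⁻¹ = w * (s * w⁻¹ * s⁻¹) by group]
      exact mul_mem hw ((inferInstance : (Cfsg.pCore r (K ⧸ N)).Normal).conj_mem _ (inv_mem hw) s)
    have h3 : Sb ⊓ Cfsg.pCore r (K ⧸ N) = ⊥ := by
      refine Subgroup.inf_eq_bot_of_coprime ?_
      obtain ⟨i, hi⟩ := IsPGroup.iff_card.1 (S.isPGroup'.map π)
      obtain ⟨j, hj⟩ := CfsgLib.Cores.card_pCore_eq_pow (G := K ⧸ N) r
      rw [hi, hj]
      exact ((Nat.coprime_primes Nat.prime_two hr.out).2 (Ne.symm hr2)).pow i j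
    have h4 : w * s * w⁻¹ * s⁻¹ ∈ Sb ⊓ Cfsg.pCore r (K ⧸ N) := ⟨h1, h2⟩
    rw [h3, mem_bot, mul_inv_eq_one, mul_inv_eq_iff_eq_mul] at h4
    exact h4
  have hSle : Sb ≤ Cfsg.pCore r (K ⧸ N) := by
    intro s hs
    rw [← hF]
    exact CfsgLib.Solvable.centralizer_fittingSubgroup_le
      (mem_centralizer_iff.2 fun w hw => hcomm s hs w (hF ▸ hw))
  have hSN : (S : Subgroup K) ≤ N := by
    intro s hs
    rw [← QuotientGroup.eq_one_iff]
    show π s = 1
    obtain ⟨i, hi⟩ := IsPGroup.iff_card.1 (S.isPGroup'.map π)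
    obtain ⟨j, hj⟩ := CfsgLib.Cores.card_pCore_eq_pow (G := K ⧸ N) r
    have := Subgroup.inf_eq_bot_of_coprime (H := Sb) (K := Cfsg.pCore r (K ⧸ N)) (by
      rw [hi, hj]; exact ((Nat.coprime_primes Nat.prime_two hr.out).2 (Ne.symm hr2)).pow i j)
    rw [inf_eq_left.2 hSle] at this
    exact mem_bot.1 (this ▸ mem_map_of_mem π hs)
  refine hNne (top_le_iff.1 (hgen ▸ (closure_le _).2 ?_))
  rintro g ⟨a, ha⟩
  obtain ⟨S', hS'⟩ := (CfsgLib.FGS.isPGroup_zpowers ha).exists_le_sylow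
  obtain ⟨c, rfl⟩ := MulAction.exists_smul_eq K S S'
  have := hS' (mem_zpowers g)
  rw [Sylow.coe_subgroup_smul, CfsgLib.FGS.mem_conj_smul] at this
  have hn : N.Normal := inferInstance
  have h2 := hn.conj_mem _ (hSN this) c
  rwa [show c * (c⁻¹ * g * c) * c⁻¹ = g by group] at h2

/-- The subgroup generated by the 2-elements. -/
theorem structure_of_split (π₁ π₂ : Set ℕ) (h₂ : π₂.Nonempty)
    (hcover : ∀ q : ℕ, q.Prime → ∀ x g : G, g * x * g⁻¹ = x⁻¹ → q ∣ cls x → q ∈ π₁ ∨ q ∈ π₂)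
    (hvert : ∀ q ∈ π₂, q.Prime ∧ ∃ x g : G, g * x * g⁻¹ = x⁻¹ ∧ q ∣ cls x)
    (htwo : 2 ∈ π₁) (hdisj : Disjoint π₁ π₂)
    (hnoedge : ∀ a ∈ π₁, ∀ b ∈ π₂, ∀ x g : G, g * x * g⁻¹ = x⁻¹ → ¬ (a ∣ cls x ∧ b ∣ cls x))
    (K : Subgroup G) (hK : K = closure {g : G | ∃ a : ℕ, orderOf g = 2 ^ a})
    (P : Sylow 2 G) (hP : ¬ (P : Subgroup G).Normal) :
    (∃ x g : K, g * x * g⁻¹ = x⁻¹ ∧ 2 ∣ cls x) ∧
    (∃ p ∈ π₂, p.Prime ∧ ∃ x g : K, g * x * g⁻¹ = x⁻¹ ∧ p ∣ cls x) ∧
    ∀ x g : K, g * x * g⁻¹ = x⁻¹ → Odd (cls x) ∨ ∃ j, cls x = 2 ^ j := by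
  classical
  haveI : Fact (Nat.Prime 2) := ⟨Nat.prime_two⟩
  haveI hKn : K.Normal := by
    rw [hK]
    refine normal_closure_of_conj ?_
    rintro x ⟨a, ha⟩ g
    exact ⟨a, (CfsgLib.Invol.orderOf_conj_eq g x).trans ha⟩
  have h2K : ∀ x : G, (∃ a, orderOf x = 2 ^ a) → x ∈ K := fun x hx => hK ▸ subset_closure hx
  have hKreal : ∀ x g : K, g * x * g⁻¹ = x⁻¹ → (g : G) * x * (g : G)⁻¹ = (x : G)⁻¹ :=
    fun x g h => congrArg Subtype.val h
  haveI hsolv : Group.IsSolvable G := by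
    exact isSolvable_of_split π₁ π₂ h₂ hcover hvert (fun h => Set.disjoint_left.1 hdisj htwo h) hnoedge
  -- a real element of odd order
  have hex : ∃ z g : G, z ≠ 1 ∧ Odd (orderOf z) ∧ g * z * g⁻¹ = z⁻¹ := by
    by_contra hc
    push Not at hc
    refine hP ((Cfsg.Agent.S3861.result P).1 fun x hx1 hxo hconj => ?_)
    obtain ⟨g, hg⟩ := isConj_iff.1 hconj
    exact hc x g hx1 hxo hg
  obtain ⟨z, g, hz1, hzo, hzg⟩ := hex
  obtain ⟨g', hg'2, -, hg'⟩ := exists_two_inverter hzg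
  have hg'K := h2K g' hg'2
  have hzK : z ∈ K := by
    have h1 : z ^ 2 ∈ K := by
      have e : z ^ 2 = (g' * (z * g'⁻¹ * z⁻¹))⁻¹ := by
        rw [← mul_assoc, ← mul_assoc, hg']; group
      rw [e]
      exact inv_mem (mul_mem hg'K (hKn.conj_mem _ (inv_mem hg'K) z))
    obtain ⟨j, hj⟩ := exists_pow_eq_self_of_coprime (x := z) (Nat.coprime_two_left.2 hzo)
    rw [← hj]; exact pow_mem h1 j
  have hfirst : ∃ x g : K, g * x * g⁻¹ = x⁻¹ ∧ 2 ∣ cls x := by
    refine ⟨⟨z, hzK⟩, ⟨g', hg'K⟩, Subtype.ext hg', two_dvd_cls (g := (⟨g', hg'K⟩ : K)) (Subtype.ext hg') fun h2 => hz1 ?_⟩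
    have h2 : z ^ 2 = 1 := congrArg Subtype.val h2
    exact orderOf_eq_one_iff.1 (Nat.eq_one_of_dvd_coprimes (Nat.coprime_two_left.2 hzo).symm
      dvd_rfl (orderOf_dvd_of_pow_eq_one h2))
  -- an involution of the second part
  obtain ⟨q, hq⟩ := h₂
  obtain ⟨hqp, t, gt, hgt, hqt⟩ := hvert q hq
  have ht2 : t ^ 2 = 1 := by
    by_contra hne
    exact hnoedge 2 htwo q hq t gt hgt ⟨two_dvd_cls hgt hne, hqt⟩
  have htt : t * t = 1 := by rwa [← pow_two]
  have ht : orderOf t = 2 := by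
    refine orderOf_eq_prime ht2 fun h1 => hqp.not_dvd_one ?_
    have e : cls t = 1 := by
      rw [h1]
      exact index_eq_one.2 (eq_top_iff.2 fun c _ => mem_centralizer_singleton_iff.2 (by rw [mul_one, one_mul]))
    rwa [e] at hqt
  have hNR : NoReal (centralizer ({t} : Set G)) := by
    intro y hy c hc hyo hyc
    by_contra hy1
    rw [mem_centralizer_singleton_iff] at hy hc
    have hx : c * (y * t) * c⁻¹ = (y * t)⁻¹ := by
      rw [← conj_mul, hyc, hc, mul_inv_cancel_right, mul_inv_rev, inv_eq_of_mul_eq_one_left htt]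
      exact (Commute.inv_left (hy : Commute y t)).eq
    have hne : (y * t) ^ 2 ≠ 1 := by
      rw [(show Commute y t from hy).mul_pow, ht2, mul_one]
      intro h2
      exact hy1 (orderOf_eq_one_iff.1 (Nat.eq_one_of_dvd_coprimes (Nat.coprime_two_left.2 hyo).symm
        dvd_rfl (orderOf_dvd_of_pow_eq_one h2)))
    refine hnoedge 2 htwo q hq _ c hx ⟨two_dvd_cls hx hne, hqt.trans (index_dvd_of_le ?_)⟩
    intro d hd
    rw [mem_centralizer_singleton_iff] at hd ⊢
    have e : (y * t) ^ orderOf y = t := by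
      obtain ⟨j, hj⟩ := hyo
      rw [(show Commute y t from hy).mul_pow, pow_orderOf_eq_one, one_mul, hj, pow_succ, pow_mul,
        ht2, one_pow, one_mul]
    have := ((show Commute d (y * t) from hd).pow_right (orderOf y)).eq
    rwa [e] at this
  have hall : ∀ r : ℕ, r.Prime → r ∣ cls t → r ∈ π₂ := fun r hr hd => by
    rcases hcover r hr t gt hgt hd with h | h
    · exact absurd ⟨hd, hqt⟩ (hnoedge r h q hq t gt hgt)
    · exact h
  obtain ⟨S, hS⟩ := exists_sylow_le (p := 2) (H := centralizer ({t} : Set G)) (fun hd =>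
    Set.disjoint_left.1 hdisj htwo (hall 2 Nat.prime_two hd))
  have hSK : (S : Subgroup G) ≤ K := fun x hx => by
    obtain ⟨a, ha⟩ := IsPGroup.iff_orderOf.1 S.isPGroup' ⟨x, hx⟩
    exact h2K x ⟨a, by rw [← ha, Subgroup.orderOf_mk]⟩
  have hCt := hNR.le_normalizer S hS
  set tK : K := ⟨t, h2K t ⟨1, by rw [ht, pow_one]⟩⟩
  have hclst : cls tK ∣ cls t := map_cls_dvd K tK
  have hnc : cls tK ≠ 1 := by
    intro e
    have hKC : K ≤ centralizer ({t} : Set G) := fun c hc => by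
      have h1 : (⟨c, hc⟩ : K) ∈ centralizer ({tK} : Set K) := by
        rw [index_eq_one.1 e]; trivial
      exact mem_centralizer_singleton_iff.2 (congrArg Subtype.val (mem_centralizer_singleton_iff.1 h1))
    have hSn : (S : Subgroup G).Normal := ⟨fun x hx c => by
      refine hNR.mem_sylow S hS (hKC (hKn.conj_mem x (hSK hx) c)) ?_
      obtain ⟨a, ha⟩ := IsPGroup.iff_orderOf.1 S.isPGroup' ⟨x, hx⟩
      exact ⟨a, by rw [CfsgLib.Invol.orderOf_conj_eq, ← ha, Subgroup.orderOf_mk]⟩⟩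
    haveI := Sylow.unique_of_normal S hSn
    exact hP (Subsingleton.elim S P ▸ hSn)
  refine ⟨hfirst, ?_, fun x c hx => ?_⟩
  · obtain ⟨r, hr, hrd⟩ := Nat.exists_prime_and_dvd hnc
    refine ⟨r, hall r hr (hrd.trans hclst), hr, tK, 1, ?_, hrd⟩
    exact inv_of_sq (Subtype.ext htt)
  by_cases hev : 2 ∣ cls x
  swap
  · exact Or.inl (Nat.odd_iff.2 (Nat.two_dvd_ne_zero.1 hev))
  refine Or.inr ⟨_, Nat.eq_prime_pow_of_unique_prime_dvd (Nat.pos_of_ne_zero Subgroup.index_ne_zero_of_finite).ne'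
    fun {r} hr hrd => ?_⟩
  by_contra hr2
  haveI : Fact r.Prime := ⟨hr⟩
  have h2G : 2 ∣ cls (x : G) := hev.trans (map_cls_dvd K x)
  have hrG : r ∣ cls (x : G) := hrd.trans (map_cls_dvd K x)
  -- `r` does not divide the class size of `t`
  have hrt : ¬ r ∣ cls tK := fun hd => hnoedge 2 htwo r (hall r hr (hd.trans hclst)) x c (hKreal x c hx)
    ⟨h2G, hrG⟩
  obtain ⟨R, hR⟩ := exists_sylow_le hrt
  haveI : Group.IsSolvable K := inferInstance
  have hgen : closure {g : K | ∃ a : ℕ, orderOf g = 2 ^ a} = ⊤ := by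
    refine Subgroup.map_injective K.subtype_injective ?_
    rw [MonoidHom.map_closure, ← MonoidHom.range_eq_map, range_subtype]
    conv_rhs => rw [hK]
    congr 1
    ext y
    constructor
    · rintro ⟨w, ⟨a, ha⟩, rfl⟩
      exact ⟨a, by rw [← ha, coe_subtype, Subgroup.orderOf_coe]⟩
    · rintro ⟨a, ha⟩
      exact ⟨⟨y, h2K y ⟨a, ha⟩⟩, ⟨a, by rw [Subgroup.orderOf_mk, ha]⟩, rfl⟩
  refine not_dvd_card_of_normalize hgen (S.subtype hSK) hr2 R (fun w hw => ?_)
    (hrd.trans (index_dvd_card _))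
  have hw' := mem_centralizer_singleton_iff.1 (hR hw)
  have hwN := hCt (mem_centralizer_singleton_iff.2 (congrArg Subtype.val hw') : (w : G) ∈ centralizer ({t} : Set G))
  rw [Subgroup.mem_normalizer_iff]
  intro d
  exact Subgroup.mem_normalizer_iff.1 hwN (d : G)

end CfsgLib.FGS.RealGraph
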